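import Groth.Agent.Lib.AnPtsTop.Affine
import Mathlib.AlgebraicGeometry.AffineSpace
import Mathlib.AlgebraicGeometry.Morphisms.Immersion
import Mathlib.AlgebraicGeometry.Morphisms.FinitePresentation
import Mathlib.AlgebraicGeometry.PullbackCarrier
import Mathlib.AlgebraicGeometry.Noetherian
import Mathlib.Topology.LocalAtTarget

/-!
Immersions, affine space, and elementary criteria for `An.Pts`.
-/

open AlgebraicGeometry CategoryTheory TopologicalSpace Topology Opposite Limits

noncomputable section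

namespace Groth.Agent.AnPtsTop

variable {X Y : Scheme.{0}} [X.Over An.SC] [Y.Over An.SC]

lemma isLocallyConstructible_compl {α : Type*} [TopologicalSpace α] {s : Set α}
    (hs : IsLocallyConstructible s) : IsLocallyConstructible sᶜ := fun x => by
  obtain ⟨U, hU, hUo, hc⟩ := hs x
  exact ⟨U, hU, hUo, by rw [Set.preimage_compl]; exact hc.compl⟩

/-- the structure of an open subscheme over `ℂ` -/
@[reducible] def opensOver (U : X.Opens) : U.toScheme.Over An.SC := ⟨U.ι ≫ X ↘ An.SC⟩

scoped instance (priority := 100) instOpensOver (U : X.Opens) : U.toScheme.Over An.SC := opensOver U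

scoped instance instIsOverι (U : X.Opens) : U.ι.IsOver An.SC := ⟨rfl⟩

scoped instance instLFTOpens [LocallyOfFiniteType (X ↘ An.SC)] (U : X.Opens) :
    LocallyOfFiniteType (U.toScheme ↘ An.SC) :=
  inferInstanceAs (LocallyOfFiniteType (U.ι ≫ X ↘ An.SC))

scoped instance instIsOverMorphismRestrict (f : X ⟶ Y) [f.IsOver An.SC] (W : Y.Opens) :
    Scheme.Hom.IsOver (f ∣_ W) An.SC :=
  ⟨by
    change (f ∣_ W) ≫ W.ι ≫ Y ↘ An.SC = (f ⁻¹ᵁ W).ι ≫ X ↘ An.SC
    rw [← Category.assoc, morphismRestrict_ι, Category.assoc, comp_over f An.SC]⟩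

lemma lft_of_hom (f : X ⟶ Y) [f.IsOver An.SC] [LocallyOfFiniteType f] [LocallyOfFiniteType (Y ↘ An.SC)] :
    LocallyOfFiniteType (X ↘ An.SC) := comp_over f An.SC ▸ inferInstance

lemma lft_hom (f : X ⟶ Y) [f.IsOver An.SC] [LocallyOfFiniteType (X ↘ An.SC)] : LocallyOfFiniteType f :=
  have : LocallyOfFiniteType (f ≫ Y ↘ An.SC) := (comp_over f An.SC).symm ▸ inferInstance
  locallyOfFiniteType_of_comp f (Y ↘ An.SC)

lemma isLocallyNoetherian [LocallyOfFiniteType (X ↘ An.SC)] : IsLocallyNoetherian X :=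
  LocallyOfFiniteType.isLocallyNoetherian (X ↘ An.SC)

lemma lfp_hom (f : X ⟶ Y) [f.IsOver An.SC] [LocallyOfFiniteType (X ↘ An.SC)]
    [LocallyOfFiniteType (Y ↘ An.SC)] : LocallyOfFinitePresentation f := by
  have := lft_hom f
  have := isLocallyNoetherian (X := Y)
  rw [HasRingHomProperty.iff_appLE (P := @LocallyOfFinitePresentation)]
  intro U V e
  have : IsNoetherianRing Γ(Y, U) := IsLocallyNoetherian.component_noetherian U
  exact RingHom.FinitePresentation.of_finiteType.1
    ((HasRingHomProperty.iff_appLE (P := @LocallyOfFiniteType)).1 inferInstance U V e)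

lemma map_evTop (f : X ⟶ Y) [f.IsOver An.SC] (x : An.Pts X) (a : Γ(Y, ⊤)) :
    (An.Pts.map f x).evTop a = x.evTop (f.appTop a) := An.Pts.ev_map f x ⊤ _ a

lemma appTop_comp_strHom (f : X ⟶ Y) [f.IsOver An.SC] :
    f.appTop.hom.comp (An.strHom Y) = An.strHom X := by
  unfold An.strHom
  rw [← RingHom.comp_assoc, ← CommRingCat.hom_comp, ← Scheme.Hom.comp_appTop, comp_over f An.SC]

lemma range_map_of_forall_exists (f : X ⟶ Y) [f.IsOver An.SC] [LocallyOfFiniteType (X ↘ An.SC)]
    [LocallyOfFiniteType (Y ↘ An.SC)] :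
    Set.range (An.Pts.map f) = An.Pts.pt ⁻¹' Set.range f := by
  ext y
  constructor
  · rintro ⟨x, rfl⟩
    exact ⟨x.pt, (An.Pts.pt_map f x).symm⟩
  · intro hy
    obtain ⟨x, hx⟩ := exists_pt_mem (Z := f ⁻¹' {y.pt})
      (by obtain ⟨p, hp⟩ := hy; exact ⟨p, hp⟩)
      ((isClosed_pt y).preimage f.continuous).isLocallyClosed
    exact ⟨x, pt_injective ((An.Pts.pt_map f x).trans hx)⟩

lemma isClosedEmbedding_map_of_isAffine (f : X ⟶ Y) [f.IsOver An.SC] [IsClosedImmersion f] [IsAffine Y]
    [LocallyOfFiniteType (Y ↘ An.SC)] : IsClosedEmbedding (An.Pts.map f) := by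
  obtain ⟨hX, hsurj⟩ := IsClosedImmersion.isAffine_surjective_of_isAffine f
  obtain ⟨n, s, hs⟩ := exists_generators (X := Y)
  have hs' : Function.Surjective
      (MvPolynomial.eval₂Hom (An.strHom X) (fun i => f.appTop (s i))) := by
    rw [show MvPolynomial.eval₂Hom (An.strHom X) (fun i => f.appTop (s i)) =
      f.appTop.hom.comp (MvPolynomial.eval₂Hom (An.strHom Y) s) from ?_]
    · exact hsurj.comp hs
    · rw [MvPolynomial.comp_eval₂Hom, appTop_comp_strHom]
  have h1 := isClosedEmbedding_of_generators _ hs'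
  have h2 := isClosedEmbedding_of_generators s hs
  refine (h2.of_comp_iff).1 ?_
  convert h1 using 1
  ext x i
  exact map_evTop f x (s i)

lemma isClosedEmbedding_map (f : X ⟶ Y) [f.IsOver An.SC] [IsClosedImmersion f]
    [LocallyOfFiniteType (Y ↘ An.SC)] : IsClosedEmbedding (An.Pts.map f) := by
  have := lft_of_hom f
  have hcover : IsOpenCover (fun W : Y.affineOpens =>
      (⟨An.Pts.pt ⁻¹' (W.1 : Set Y), An.Pts.isOpen_preimage_pt W.1⟩ : Opens (An.Pts Y))) := by
    rw [IsOpenCover, eq_top_iff]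
    intro y _
    obtain ⟨W, hW, hyW, -⟩ := exists_isAffineOpen_mem_and_subset (U := (⊤ : Y.Opens)) (x := y.pt) trivial
    exact Opens.mem_iSup.2 ⟨⟨W, hW⟩, hyW⟩
  rw [hcover.isClosedEmbedding_iff_restrictPreimage (An.Pts.continuous_map f)]
  rintro ⟨W, hW⟩
  have : IsAffine W.toScheme := hW
  have hb := isOpenEmbedding_map W.ι
  have ha := isOpenEmbedding_map (f ⁻¹ᵁ W).ι
  have hrb : Set.range (An.Pts.map W.ι) = An.Pts.pt ⁻¹' (W : Set Y) := by
    rw [range_map_of_isOpenImmersion, Scheme.Opens.range_ι]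
  have hra : Set.range (An.Pts.map (f ⁻¹ᵁ W).ι) = An.Pts.map f ⁻¹' (An.Pts.pt ⁻¹' (W : Set Y)) := by
    rw [range_map_of_isOpenImmersion, Scheme.Opens.range_ι]
    ext x
    simp only [Set.mem_preimage, An.Pts.pt_map]
    rfl
  let ea := ha.isEmbedding.toHomeomorph.trans (Homeomorph.setCongr hra)
  let eb := hb.isEmbedding.toHomeomorph.trans (Homeomorph.setCongr hrb)
  have hsq : (An.Pts.pt ⁻¹' (W : Set Y)).restrictPreimage (An.Pts.map f) =
      eb ∘ An.Pts.map (f ∣_ W) ∘ ea.symm := by
    ext1 x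
    obtain ⟨x, rfl⟩ := ea.surjective x
    simp only [Function.comp_apply, ea.symm_apply_apply]
    apply Subtype.ext
    apply pts_ext
    change (x.1 ≫ (f ⁻¹ᵁ W).ι) ≫ f = (x.1 ≫ (f ∣_ W)) ≫ W.ι
    rw [Category.assoc, Category.assoc, morphismRestrict_ι]
  change IsClosedEmbedding ((An.Pts.pt ⁻¹' (W : Set Y)).restrictPreimage (An.Pts.map f))
  rw [hsq]
  exact eb.isClosedEmbedding.comp
    ((isClosedEmbedding_map_of_isAffine (f ∣_ W)).comp ea.symm.isClosedEmbedding)

lemma isEmbedding_map_of_isImmersion (f : X ⟶ Y) [f.IsOver An.SC] [IsImmersion f]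
    [LocallyOfFiniteType (Y ↘ An.SC)] :
    IsEmbedding (An.Pts.map f) ∧ IsLocallyClosed (Set.range (An.Pts.map f)) := by
  have : Scheme.Hom.IsOver f.liftCoborder An.SC := ⟨by
    change f.liftCoborder ≫ f.coborderRange.ι ≫ Y ↘ An.SC = X ↘ An.SC
    rw [← Category.assoc, Scheme.Hom.liftCoborder_ι, comp_over f An.SC]⟩
  have h1 := isClosedEmbedding_map f.liftCoborder
  have h2 := isOpenEmbedding_map f.coborderRange.ι
  have e : An.Pts.map f = An.Pts.map f.coborderRange.ι ∘ An.Pts.map f.liftCoborder := by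
    ext1 x
    apply pts_ext
    change x.1 ≫ f = (x.1 ≫ f.liftCoborder) ≫ f.coborderRange.ι
    rw [Category.assoc, Scheme.Hom.liftCoborder_ι]
  rw [e]
  refine ⟨h2.isEmbedding.comp h1.isEmbedding, ?_⟩
  rw [Set.range_comp]
  exact h1.isClosed_range.isLocallyClosed.image h2.isInducing h2.isOpen_range.isLocallyClosed

lemma locallyCompactSpace [LocallyOfFiniteType (X ↘ An.SC)] : LocallyCompactSpace (An.Pts X) := by
  refine ⟨fun x n hn => ?_⟩
  obtain ⟨U, hU, hxU, -⟩ := exists_isAffineOpen_mem_and_subset (U := (⊤ : X.Opens)) (x := x.pt) trivial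
  have : IsAffine U.toScheme := hU
  obtain ⟨m, s, hs⟩ := exists_generators (X := U.toScheme)
  have := (isClosedEmbedding_of_generators s hs).locallyCompactSpace
  have he := isOpenEmbedding_map U.ι
  obtain ⟨u, rfl⟩ := exists_map_eq_of_isOpenImmersion U.ι x (by rw [Scheme.Opens.range_ι]; exact hxU)
  obtain ⟨K, hK, hKsub, hKc⟩ := local_compact_nhds (he.continuous.continuousAt.preimage_mem_nhds hn)
  exact ⟨An.Pts.map U.ι '' K, he.isOpenMap.image_mem_nhds hK, Set.image_subset_iff.2 hKsub,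
    hKc.image he.continuous⟩

lemma affineSpace_generators (n : ℕ) :
    Function.Surjective (MvPolynomial.eval₂Hom (An.strHom (𝔸(Fin n; An.SC))) (AffineSpace.coord An.SC)) := by
  have h : Function.Surjective (MvPolynomial.eval₂Hom ((𝔸(Fin n; An.SC) ↘ An.SC).appTop).hom
      (AffineSpace.coord An.SC)) := by
    have : IsIso ((AffineSpace.isoOfIsAffine (Fin n) An.SC).hom.appTop) :=
      inferInstanceAs (IsIso ((AffineSpace.isoOfIsAffine (Fin n) An.SC).hom.app ⊤))
    have hb := (ConcreteCategory.bijective_of_isIso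
      ((AffineSpace.isoOfIsAffine (Fin n) An.SC).hom.appTop)).2
    intro a
    obtain ⟨b, hb⟩ := hb a
    rw [AffineSpace.isoOfIsAffine_hom_appTop] at hb
    exact ⟨_, hb⟩
  intro a
  obtain ⟨P, rfl⟩ := h a
  refine ⟨MvPolynomial.map (Scheme.ΓSpecIso (CommRingCat.of ℂ)).hom.hom P, ?_⟩
  rw [MvPolynomial.eval₂Hom_map_hom]
  congr 2
  ext c
  change (𝔸(Fin n; An.SC) ↘ An.SC).appTop ((Scheme.ΓSpecIso (CommRingCat.of ℂ)).inv
    ((Scheme.ΓSpecIso (CommRingCat.of ℂ)).hom c)) = _
  rw [show (Scheme.ΓSpecIso (CommRingCat.of ℂ)).inv ((Scheme.ΓSpecIso (CommRingCat.of ℂ)).hom c) = c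
    from congrArg (fun φ => φ.hom c) (Scheme.ΓSpecIso (CommRingCat.of ℂ)).hom_inv_id]

lemma isHomeomorph_affineSpace (n : ℕ) :
    IsHomeomorph (fun (x : An.Pts (𝔸(Fin n; An.SC))) (i : Fin n) => x.evTop (AffineSpace.coord An.SC i)) := by
  have h := isClosedEmbedding_of_generators _ (affineSpace_generators n)
  refine isHomeomorph_iff_isEmbedding_surjective.2 ⟨h.isEmbedding, fun z => ?_⟩
  refine ⟨⟨AffineSpace.homOfVector (𝟙 An.SC) fun i => (Scheme.ΓSpecIso (CommRingCat.of ℂ)).inv (z i),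
    AffineSpace.homOfVector_over _ _⟩, funext fun i => ?_⟩
  refine (evTop_eq_appTop _ _).trans ?_
  change (Scheme.ΓSpecIso (CommRingCat.of ℂ)).hom ((AffineSpace.homOfVector _ _).appTop _) = _
  rw [AffineSpace.homOfVector_appTop_coord]
  exact congrArg (fun φ => φ.hom (z i)) (Scheme.ΓSpecIso (CommRingCat.of ℂ)).inv_hom_id

lemma lft_pullback {S : Scheme.{0}} [S.Over An.SC] (f : X ⟶ S) (g : Y ⟶ S) [f.IsOver An.SC] [g.IsOver An.SC]
    [LocallyOfFiniteType (X ↘ An.SC)] [LocallyOfFiniteType (Y ↘ An.SC)] :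
    LocallyOfFiniteType (pullback f g ↘ An.SC) := by
  have := lft_hom g
  have : LocallyOfFiniteType (pullback.fst f g) := inferInstance
  exact lft_of_hom (pullback.fst f g)

lemma injective_iff [LocallyOfFiniteType (X ↘ An.SC)] (f : X ⟶ Y) [f.IsOver An.SC] :
    Function.Injective f.base ↔ Function.Injective (An.Pts.map f) := by
  constructor
  · intro h x y hxy
    refine pt_injective (h ?_)
    change f x.pt = f y.pt
    rw [← An.Pts.pt_map, ← An.Pts.pt_map, hxy]
  · intro h p q hpq
    by_contra hne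
    obtain ⟨z, hz1, hz2⟩ := Scheme.Pullback.exists_preimage_pullback p q hpq
    have := lft_pullback f f
    have hz : z ∉ Set.range (pullback.diagonal f) := by
      rintro ⟨w, rfl⟩
      apply hne
      rw [← hz1, ← hz2, ← Scheme.Hom.comp_apply, ← Scheme.Hom.comp_apply, pullback.diagonal_fst,
        pullback.diagonal_snd]
    have key : ∀ w : An.Pts (pullback f f), w.pt ∈ Set.range (pullback.diagonal f) := by
      intro w
      have e : An.Pts.map (pullback.fst f f) w = An.Pts.map (pullback.snd f f) w :=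
        h (An.Pts.map_pullback_condition f f w)
      have : w.1 = (An.Pts.map (pullback.fst f f) w).1 ≫ pullback.diagonal f := by
        apply pullback.hom_ext
        · simp
        · rw [Category.assoc, pullback.diagonal_snd, Category.comp_id]
          exact (congrArg Subtype.val e).symm
      refine ⟨(An.Pts.map (pullback.fst f f) w).pt, ?_⟩
      change pullback.diagonal f ((An.Pts.map (pullback.fst f f) w).1 An.cpt) = w.1 An.cpt
      conv_rhs => rw [this]
      rw [Scheme.Hom.comp_apply]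
    have hlc : IsLocallyClosed (Set.range (pullback.diagonal f)) :=
      (pullback.diagonal f).isLocallyClosed_range
    obtain ⟨U, C, hU, hC, e⟩ := hlc
    rw [e] at hz key
    by_cases hzU : z ∈ U
    · obtain ⟨w, hw⟩ := exists_pt_mem (Z := Cᶜ) ⟨z, fun hzC => hz ⟨hzU, hzC⟩⟩
        hC.isOpen_compl.isLocallyClosed
      exact hw (key w).2
    · obtain ⟨w, hw⟩ := exists_pt_mem (Z := Uᶜ) ⟨z, hzU⟩ hU.isClosed_compl.isLocallyClosed
      exact hw (key w).1

lemma surjective_iff [LocallyOfFiniteType (X ↘ An.SC)] [LocallyOfFiniteType (Y ↘ An.SC)]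
    (f : X ⟶ Y) [f.IsOver An.SC] [QuasiCompact f] :
    Function.Surjective f.base ↔ Function.Surjective (An.Pts.map f) := by
  rw [← Set.range_eq_univ, ← Set.range_eq_univ, range_map_of_forall_exists]
  constructor
  · intro h
    rw [show Set.range f = Set.univ from h, Set.preimage_univ]
  · intro h
    have := lfp_hom f
    have hc : IsLocallyConstructible (Set.range f)ᶜ := by
      have := f.isLocallyConstructible_image (s := Set.univ) IsLocallyConstructible.univ
      rw [Set.image_univ] at this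
      exact isLocallyConstructible_compl this
    have := eq_empty_of_forall_pt_notMem hc fun y hy => hy (by
      have := h ▸ Set.mem_univ y
      exact this)
    exact Set.compl_empty_iff.1 this

end Groth.Agent.AnPtsTop
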