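import Groth.Agent.Lib.AnPtsTop.Basic
import Mathlib.RingTheory.MvPolynomial.Basic
import Mathlib.Topology.Algebra.MvPolynomial
import Mathlib.AlgebraicGeometry.Morphisms.FiniteType

/-!
Points of affine schemes as closed subsets of ℂⁿ.
-/

open AlgebraicGeometry CategoryTheory TopologicalSpace Topology Opposite

noncomputable section

namespace Groth.Agent.AnPtsTop

variable {X : Scheme.{0}} [X.Over An.SC]

lemma continuous_evTop (f : Γ(X, ⊤)) : Continuous (fun x : An.Pts X => x.evTop f) := by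
  refine continuous_def.2 fun V hV => ?_
  have : (fun x : An.Pts X => x.evTop f) ⁻¹' V = An.Pts.basicSet ⊤ f V := by
    ext x
    exact ⟨fun h => ⟨Opens.mem_top _, h⟩, fun ⟨_, h⟩ => h⟩
  rw [this]
  exact An.Pts.isOpen_basicSet _ _ hV

lemma evTop_eval₂ {σ : Type*} (s : σ → Γ(X, ⊤)) (x : An.Pts X) (P : MvPolynomial σ ℂ) :
    x.evTop (MvPolynomial.eval₂Hom (An.strHom X) s P) = MvPolynomial.eval (fun i => x.evTop (s i)) P := by
  have : (evHom x ⊤ (Opens.mem_top _)).comp (MvPolynomial.eval₂Hom (An.strHom X) s) =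
      MvPolynomial.eval (fun i => x.evTop (s i)) := by
    refine MvPolynomial.ringHom_ext (fun c => ?_) (fun i => ?_)
    · rw [RingHom.comp_apply, MvPolynomial.eval₂Hom_C, MvPolynomial.eval_C]
      exact evTop_strHom x c
    · rw [RingHom.comp_apply, MvPolynomial.eval₂Hom_X', MvPolynomial.eval_X]
      rfl
  exact RingHom.congr_fun this P

variable [IsAffine X]

lemma ext_of_evTop {x y : An.Pts X} (h : ∀ f, x.evTop f = y.evTop f) : x = y := by
  refine pts_ext (ext_of_isAffine ?_)
  ext f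
  have := h f
  rw [evTop_eq_appTop, evTop_eq_appTop] at this
  exact (Scheme.ΓSpecIso (CommRingCat.of ℂ)).commRingCatIsoToRingEquiv.injective this

lemma exists_pt_of_ringHom (φ : Γ(X, ⊤) →+* ℂ) (hφ : ∀ c, φ (An.strHom X c) = c) :
    ∃ x : An.Pts X, ∀ f, x.evTop f = φ f := by
  let g : An.SC ⟶ X := Spec.map (CommRingCat.ofHom φ) ≫ X.isoSpec.inv
  have hg : ∀ f, (Scheme.ΓSpecIso (CommRingCat.of ℂ)).hom (g.appTop f) = φ f := by
    intro f
    have : g.appTop = (CommRingCat.ofHom φ) ≫ (Scheme.ΓSpecIso (CommRingCat.of ℂ)).inv := by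
      have hinv : X.isoSpec.inv.appTop = (Scheme.ΓSpecIso Γ(X, ⊤)).inv := by
        have := congrArg Scheme.Hom.appTop X.isoSpec_inv_toSpecΓ
        rw [Scheme.Hom.comp_appTop, Scheme.Hom.id_appTop, Scheme.toSpecΓ_appTop] at this
        rw [← cancel_epi (Scheme.ΓSpecIso Γ(X, ⊤)).hom, Iso.hom_inv_id]
        exact this
      rw [Scheme.Hom.comp_appTop, hinv, Scheme.ΓSpecIso_inv_naturality]
      rfl
    rw [this]
    exact congrArg (fun ψ => ψ.hom (φ f)) (Scheme.ΓSpecIso (CommRingCat.of ℂ)).inv_hom_id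
  have hover : g ≫ (X ↘ An.SC) = 𝟙 An.SC := by
    refine ext_of_isAffine ?_
    ext c
    apply (Scheme.ΓSpecIso (CommRingCat.of ℂ)).commRingCatIsoToRingEquiv.injective
    change (Scheme.ΓSpecIso (CommRingCat.of ℂ)).hom (g.appTop ((X ↘ An.SC).appTop c)) = _
    rw [hg]
    have hc : (Scheme.ΓSpecIso (CommRingCat.of ℂ)).inv ((Scheme.ΓSpecIso (CommRingCat.of ℂ)).hom c) = c :=
      congrArg (fun ψ => ψ.hom c) (Scheme.ΓSpecIso (CommRingCat.of ℂ)).hom_inv_id
    conv_lhs => rw [← hc]
    exact hφ _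
  exact ⟨⟨g, hover⟩, fun f => (evTop_eq_appTop _ f).trans (hg f)⟩

/-- the coordinates given by generators form a closed embedding -/
lemma isClosedEmbedding_of_generators {σ : Type*} [Finite σ] (s : σ → Γ(X, ⊤))
    (hs : Function.Surjective (MvPolynomial.eval₂Hom (An.strHom X) s)) :
    IsClosedEmbedding (fun (x : An.Pts X) (i : σ) => x.evTop (s i)) := by
  set Φ := fun (x : An.Pts X) (i : σ) => x.evTop (s i)
  have hcont : Continuous Φ := continuous_pi fun i => continuous_evTop (s i)
  have hinj : Function.Injective Φ := fun x y h => ext_of_evTop fun f => by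
    obtain ⟨P, rfl⟩ := hs f
    rw [evTop_eval₂, evTop_eval₂]
    exact congrArg (fun v => MvPolynomial.eval v P) h
  have hrange : Set.range Φ = ⋂ P ∈ RingHom.ker (MvPolynomial.eval₂Hom (An.strHom X) s),
      {z : σ → ℂ | MvPolynomial.eval z P = 0} := by
    ext z
    simp only [Set.mem_iInter, Set.mem_ofPred_eq]
    constructor
    · rintro ⟨x, rfl⟩ P hP
      change MvPolynomial.eval (fun i => x.evTop (s i)) P = 0
      rw [← evTop_eval₂, RingHom.mem_ker.1 hP]
      exact map_zero (evHom x ⊤ (Opens.mem_top _))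
    · intro hz
      let φ : Γ(X, ⊤) →+* ℂ :=
        (MvPolynomial.eval₂Hom (An.strHom X) s).liftOfSurjective hs ⟨MvPolynomial.eval z, hz⟩
      have hφ : ∀ P, φ (MvPolynomial.eval₂Hom (An.strHom X) s P) = MvPolynomial.eval z P :=
        fun P => RingHom.liftOfRightInverse_comp_apply _ _ _ ⟨MvPolynomial.eval z, hz⟩ P
      obtain ⟨x, hx⟩ := exists_pt_of_ringHom φ fun c => by
        have := hφ (MvPolynomial.C c)
        rwa [MvPolynomial.eval₂Hom_C, MvPolynomial.eval_C] at this
      refine ⟨x, funext fun i => ?_⟩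
      have := hφ (MvPolynomial.X i)
      rw [MvPolynomial.eval₂Hom_X', MvPolynomial.eval_X] at this
      exact (hx _).trans this
  refine ⟨⟨⟨TopologicalSpace.ext_iff.2 fun S => ⟨fun hS => ?_, fun ⟨T, hT, e⟩ => e ▸ hT.preimage hcont⟩⟩, hinj⟩,
    ?_⟩
  · refine GenerateOpen.rec ?_ ⟨Set.univ, isOpen_univ, rfl⟩ (fun a b _ _ ha hb => ?_) (fun c _ hc => ?_) hS
    · rintro _ ⟨U, f, V, hV, rfl⟩
      have key : ∀ x ∈ An.Pts.basicSet U f V, ∃ W : Set (σ → ℂ), IsOpen W ∧ Φ x ∈ W ∧
          Φ ⁻¹' W ⊆ An.Pts.basicSet U f V := by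
        rintro x ⟨hxU, hxV⟩
        obtain ⟨h, hle, hxh⟩ := (isAffineOpen_top X).exists_basicOpen_le (V := U) ⟨x.pt, hxU⟩ (Opens.mem_top _)
        have := (isAffineOpen_top X).isLocalization_basicOpen h
        obtain ⟨n, a, e⟩ := IsLocalization.Away.surj h (X.presheaf.map (homOfLE hle).op f)
        obtain ⟨P, rfl⟩ := hs a
        obtain ⟨Q, rfl⟩ := hs h
        refine ⟨{z | MvPolynomial.eval z Q ≠ 0 ∧
          MvPolynomial.eval z P / MvPolynomial.eval z Q ^ n ∈ V}, ?_, ?_⟩
        · have hQ : Continuous fun z : σ → ℂ => MvPolynomial.eval z Q := MvPolynomial.continuous_eval Q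
          refine ContinuousOn.isOpen_inter_preimage (s := {z | MvPolynomial.eval z Q ≠ 0})
            ((MvPolynomial.continuous_eval P).continuousOn.div (hQ.pow n).continuousOn fun z hz => pow_ne_zero n hz)
            (isOpen_ne_fun hQ continuous_const) hV
        · have hiff : ∀ y : An.Pts X, y.pt ∈ X.basicOpen (MvPolynomial.eval₂Hom (An.strHom X) s Q) ↔
              MvPolynomial.eval (Φ y) Q ≠ 0 := fun y => by
            rw [pt_mem_basicOpen_iff y (Opens.mem_top _)]
            change y.evTop _ ≠ 0 ↔ _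
            rw [evTop_eval₂]
          have hval : ∀ (y : An.Pts X) (hy : y.pt ∈ X.basicOpen (MvPolynomial.eval₂Hom (An.strHom X) s Q)),
              y.ev U (hle hy) f = MvPolynomial.eval (Φ y) P / MvPolynomial.eval (Φ y) Q ^ n := by
            intro y hy
            have h1 := congrArg (evHom y _ hy) e
            rw [map_mul, map_pow] at h1
            change y.ev _ hy (X.presheaf.map _ f) * (y.ev _ hy (X.presheaf.map _ _)) ^ n =
              y.ev _ hy (X.presheaf.map _ _) at h1
            rw [ev_res, ev_res, ev_res] at h1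
            change y.ev U (hle hy) f * y.evTop _ ^ n = y.evTop _ at h1
            rw [evTop_eval₂, evTop_eval₂] at h1
            rw [eq_div_iff (pow_ne_zero n ((hiff y).1 hy))]
            exact h1
          refine ⟨⟨(hiff x).1 hxh, by rw [← hval x hxh]; exact hxV⟩, ?_⟩
          rintro y ⟨hy1, hy2⟩
          exact ⟨hle ((hiff y).2 hy1), by rw [hval y ((hiff y).2 hy1)]; exact hy2⟩
      choose W hWo hWx hWsub using key
      refine ⟨⋃ (x) (hx : x ∈ An.Pts.basicSet U f V), W x hx,
        isOpen_iUnion fun x => isOpen_iUnion fun hx => hWo x hx, ?_⟩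
      rw [Set.preimage_iUnion₂]
      exact subset_antisymm (Set.iUnion₂_subset hWsub) fun x hx => Set.mem_iUnion₂.2 ⟨x, hx, hWx x hx⟩
    · obtain ⟨a', ha', rfl⟩ := ha
      obtain ⟨b', hb', rfl⟩ := hb
      exact ⟨a' ∩ b', ha'.inter hb', rfl⟩
    · choose g hg hge using hc
      refine ⟨⋃ (s) (h : s ∈ c), g s h, isOpen_iUnion fun s => isOpen_iUnion fun h => hg s h, ?_⟩
      rw [Set.preimage_iUnion₂, Set.sUnion_eq_biUnion]
      exact Set.iUnion₂_congr hge
  · rw [hrange]
    exact isClosed_biInter fun P _ => isClosed_eq (MvPolynomial.continuous_eval P) continuous_const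

/-- generators exist -/
lemma exists_generators [LocallyOfFiniteType (X ↘ An.SC)] :
    ∃ (n : ℕ) (s : Fin n → Γ(X, ⊤)), Function.Surjective (MvPolynomial.eval₂Hom (An.strHom X) s) := by
  let := (An.strHom X).toAlgebra
  have h : (An.strHom X).FiniteType :=
    RingHom.FiniteType.comp (HasRingHomProperty.appTop (P := @LocallyOfFiniteType) _ inferInstance)
      (RingHom.FiniteType.of_surjective _ (Scheme.ΓSpecIso (CommRingCat.of ℂ)).commRingCatIsoToRingEquiv.symm.surjective)
  have h' : Algebra.FiniteType ℂ Γ(X, ⊤) := h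
  obtain ⟨n, f, hf⟩ := Algebra.FiniteType.iff_quotient_mvPolynomial''.1 h'
  refine ⟨n, fun i => f (MvPolynomial.X i), ?_⟩
  have : MvPolynomial.eval₂Hom (An.strHom X) (fun i => f (MvPolynomial.X i)) = f.toRingHom := by
    refine MvPolynomial.ringHom_ext (fun c => ?_) (fun i => ?_)
    · rw [MvPolynomial.eval₂Hom_C]
      exact (f.commutes c).symm
    · rw [MvPolynomial.eval₂Hom_X']; rfl
  rw [this]
  exact hf

end Groth.Agent.AnPtsTop
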