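import Mathlib.Analysis.Complex.RemovableSingularity
import Mathlib.Analysis.Complex.Liouville
import Mathlib.Analysis.Calculus.Deriv.Slope
import Mathlib.Analysis.Calculus.FDeriv.Mul
import Mathlib.LinearAlgebra.Lagrange
import Mathlib.Topology.Algebra.Module.Cardinality
import Mathlib.Analysis.Complex.Polynomial.Basic

/-!
Functions of one complex variable: entire functions of polynomial growth, isolated bounded singularities.
-/

open Topology Filter Function

noncomputable section

namespace Groth.Agent.AnPtsTop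

lemma differentiableAt_of_mul_eq {r φ B : ℂ → ℂ} {t₀ : ℂ} (hB : ContinuousAt B t₀) (hB0 : B t₀ ≠ 0)
    (hφ : DifferentiableAt ℂ φ t₀) (h : ∀ᶠ t in 𝓝 t₀, (r t - r t₀) * B t = φ t - φ t₀) :
    DifferentiableAt ℂ r t₀ := by
  have h1 := hasDerivAt_iff_tendsto_slope.1 hφ.hasDerivAt
  refine (hasDerivAt_iff_tendsto_slope.2
    (Tendsto.congr' ?_ (h1.div (hB.tendsto.mono_left nhdsWithin_le_nhds) hB0))).differentiableAt
  have hne : ∀ᶠ t in 𝓝 t₀, B t ≠ 0 := hB.eventually_ne hB0
  filter_upwards [h.filter_mono nhdsWithin_le_nhds, hne.filter_mono nhdsWithin_le_nhds,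
    self_mem_nhdsWithin] with t ht hBt htne
  simp only [Pi.div_apply, slope_def_field]
  have : t - t₀ ≠ 0 := sub_ne_zero.2 htne
  field_simp
  linear_combination -ht

lemma exists_polynomial_of_growth (N : ℕ) : ∀ {f : ℂ → ℂ}, Differentiable ℂ f → ∀ {C : ℝ},
    (∀ t, ‖f t‖ ≤ C * (1 + ‖t‖) ^ N) → ∃ p : Polynomial ℂ, p.natDegree ≤ N ∧ ∀ t, f t = p.eval t := by
  induction N with
  | zero =>
    intro f hf C hC
    refine ⟨Polynomial.C (f 0), (Polynomial.natDegree_C _).le, fun t => ?_⟩
    rw [Polynomial.eval_C]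
    refine hf.apply_eq_apply_of_bounded ?_ t 0
    exact isBounded_iff_forall_norm_le.2 ⟨C, by rintro _ ⟨x, rfl⟩; simpa using hC x⟩
  | succ N ih =>
    intro f hf C hC
    have hd : Differentiable ℂ (dslope f 0) := by
      rw [← differentiableOn_univ]
      exact (Complex.differentiableOn_dslope univ_mem).2 hf.differentiableOn
    obtain ⟨M, hM⟩ := (isCompact_closedBall (0 : ℂ) 1).exists_bound_of_continuousOn hd.continuous.continuousOn
    have hC0 : 0 ≤ C := by
      have := (norm_nonneg _).trans (hC 0)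
      simpa using this
    obtain ⟨p, hp, hpe⟩ := ih hd (C := max M (4 * C)) (fun t => by
      rcases le_or_gt ‖t‖ 1 with h | h
      · calc ‖dslope f 0 t‖ ≤ M := hM t (mem_closedBall_zero_iff.2 h)
          _ ≤ max M (4 * C) * 1 := by rw [mul_one]; exact le_max_left _ _
          _ ≤ _ := mul_le_mul_of_nonneg_left (one_le_pow₀ (by linarith [norm_nonneg t]))
              ((le_max_right M (4 * C)).trans' (by linarith))
      · have ht : t ≠ 0 := fun e => by simp [e] at h; linarith
        have h0 := hC 0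
        rw [norm_zero, add_zero, one_pow, mul_one] at h0
        have hA : 1 ≤ (1 + ‖t‖) ^ (N + 1) := one_le_pow₀ (by linarith [norm_nonneg t])
        rw [dslope_of_ne _ ht, slope_def_field, sub_zero, norm_div, div_le_iff₀ (norm_pos_iff.2 ht)]
        calc ‖f t - f 0‖ ≤ ‖f t‖ + ‖f 0‖ := norm_sub_le _ _
          _ ≤ C * (1 + ‖t‖) ^ (N + 1) + C * (1 + ‖t‖) ^ (N + 1) :=
              add_le_add (hC t) (h0.trans (le_mul_of_one_le_right hC0 hA))
          _ = 2 * C * (1 + ‖t‖) ^ N * (1 + ‖t‖) := by ring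
          _ ≤ 2 * C * (1 + ‖t‖) ^ N * (2 * ‖t‖) :=
              mul_le_mul_of_nonneg_left (by linarith) (by positivity)
          _ = 4 * C * (1 + ‖t‖) ^ N * ‖t‖ := by ring
          _ ≤ max M (4 * C) * (1 + ‖t‖) ^ N * ‖t‖ := by
              gcongr; exact le_max_right _ _)
    refine ⟨Polynomial.C (f 0) + Polynomial.X * p, ?_, fun t => ?_⟩
    · refine (Polynomial.natDegree_add_le _ _).trans (max_le (by simp) ?_)
      exact Polynomial.natDegree_mul_le.trans (by rw [Polynomial.natDegree_X]; omega)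
    · rw [Polynomial.eval_add, Polynomial.eval_C, Polynomial.eval_mul, Polynomial.eval_X, ← hpe]
      have := sub_smul_dslope f 0 t
      rw [sub_zero, smul_eq_mul] at this
      rw [this]; ring

lemma exists_entire_extension {f : ℂ → ℂ} {E : Set ℂ} (hE : E.Finite)
    (hd : ∀ t, t ∉ E → DifferentiableAt ℂ f t) {B : ℂ → ℝ} (hB : Continuous B)
    (hb : ∀ t, t ∉ E → ‖f t‖ ≤ B t) :
    ∃ g : ℂ → ℂ, Differentiable ℂ g ∧ (∀ t, t ∉ E → g t = f t) ∧ ∀ t, ‖g t‖ ≤ B t := by
  classical
  let g : ℂ → ℂ := fun t => if t ∈ E then limUnder (𝓝[≠] t) f else f t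
  have hgf : ∀ t, t ∉ E → g t = f t := fun t ht => if_neg ht
  have hg : Differentiable ℂ g := by
    intro t
    by_cases ht : t ∈ E
    · have hs : (E \ {t})ᶜ ∈ 𝓝 t := (hE.sdiff).isClosed.isOpen_compl.mem_nhds fun h => h.2 rfl
      obtain ⟨r, hr, hrs⟩ := Metric.mem_nhds_iff.1 hs
      have hout : ∀ x ∈ Metric.ball t r \ {t}, x ∉ E := fun x hx hxE => hrs hx.1 ⟨hxE, hx.2⟩
      have := Complex.differentiableOn_update_limUnder_of_bddAbove (f := f) (Metric.ball_mem_nhds t hr)
        (fun x hx => (hd x (hout x hx)).differentiableWithinAt) (by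
          obtain ⟨M, hM⟩ := ((isCompact_closedBall t r).image hB).bddAbove
          refine ⟨M, ?_⟩
          rintro _ ⟨x, hx, rfl⟩
          exact (hb x (hout x hx)).trans (hM ⟨x, Metric.ball_subset_closedBall hx.1, rfl⟩))
      refine (this.differentiableAt (Metric.ball_mem_nhds t hr)).congr_of_eventuallyEq ?_
      filter_upwards [Metric.ball_mem_nhds t hr] with x hx
      by_cases hxt : x = t
      · subst hxt; rw [update_self]; exact if_pos ht
      · rw [update_of_ne hxt]; exact hgf x (hout x ⟨hx, hxt⟩)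
    · refine (hd t ht).congr_of_eventuallyEq ?_
      filter_upwards [hE.isClosed.isOpen_compl.mem_nhds ht] with x hx using hgf x hx
  refine ⟨g, hg, hgf, ?_⟩
  have hcl : IsClosed {t | ‖g t‖ ≤ B t} := isClosed_le hg.continuous.norm hB
  intro t
  have hsub : Eᶜ ⊆ {t | ‖g t‖ ≤ B t} := fun x hx => by
    change ‖g x‖ ≤ B x
    rw [hgf x hx]; exact hb x hx
  exact hcl.closure_subset_iff.2 hsub (by
    have := (Set.Countable.dense_compl ℂ hE.countable).closure_eq
    rw [this]; trivial)

end Groth.Agent.AnPtsTop
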