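import Groth.Agent.Lib.AnPtsTop.DenseAlg
import Groth.Agent.Lib.AnPtsTop.Entire

/-!
A continuous function on the complement of a hypersurface of `ℂˢ` which is polynomial of bounded degree
on every axis-parallel line is polynomial.
-/

open Topology Filter Function MvPolynomial

noncomputable section

namespace Groth.Agent.AnPtsTop

theorem exists_mvPolynomial_of_axes : ∀ (s : ℕ) {q : MvPolynomial (Fin s) ℂ}, q ≠ 0 →
    ∀ {f : (Fin s → ℂ) → ℂ} (N : ℕ), ContinuousOn f {z | eval z q ≠ 0} →
    (∀ z i, ∃ p : Polynomial ℂ, p.natDegree ≤ N ∧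
      ∀ t, eval (update z i t) q ≠ 0 → f (update z i t) = p.eval t) →
    ∃ P : MvPolynomial (Fin s) ℂ, (N = 0 → ∃ c, P = C c) ∧ ∀ z, eval z q ≠ 0 → f z = eval z P := by
  intro s
  induction s with
  | zero =>
    intro q _ f N _ _
    exact ⟨C (f 0), fun _ => ⟨_, rfl⟩, fun z _ => by rw [eval_C, Subsingleton.elim z 0]⟩
  | succ s ih =>
    intro q hq f N hf hl
    classical
    obtain ⟨z₀, -, hz₀⟩ := exists_eval_ne_zero_of_isOpen hq isOpen_univ ⟨0, trivial⟩
    set w₀ := Fin.tail z₀
    let h : Polynomial ℂ := aeval (Fin.cons Polynomial.X fun i => Polynomial.C (w₀ i)) q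
    have hh : ∀ c, h.eval c = eval (Fin.cons c w₀) q := fun c => by
      have : (Polynomial.aeval c).comp (aeval (Fin.cons Polynomial.X fun i => Polynomial.C (w₀ i))) =
          aeval (R := ℂ) (Fin.cons c w₀ : Fin (s + 1) → ℂ) := by
        ext i
        refine Fin.cases ?_ (fun j => ?_) i <;> simp
      simpa [h] using AlgHom.congr_fun this q
    have hh0 : h ≠ 0 := fun h0 => hz₀ (by
      have := hh (z₀ 0)
      rw [h0, Polynomial.eval_zero, Fin.cons_self_tail] at this
      exact this.symm)
    have hinf : {c | h.eval c ≠ 0}.Infinite := by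
      have : {c | h.eval c ≠ 0} = {c | h.eval c = 0}ᶜ := rfl
      rw [this]
      exact (Polynomial.finite_setOfPred_isRoot hh0).infinite_compl
    obtain ⟨T, hTsub, hTcard⟩ := hinf.exists_subset_card_eq (N + 1)
    let qc : ℂ → MvPolynomial (Fin s) ℂ := fun c => aeval (Fin.cons (C c) X) q
    have hqc : ∀ c z', eval z' (qc c) = eval (Fin.cons c z') q := fun c z' => by
      have : (aeval (R := ℂ) z').comp (aeval (Fin.cons (C c) X)) =
          aeval (R := ℂ) (Fin.cons c z' : Fin (s + 1) → ℂ) := by
        ext i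
        refine Fin.cases ?_ (fun j => ?_) i <;> simp
      simpa [qc] using AlgHom.congr_fun this q
    have hqc0 : ∀ c ∈ T, qc c ≠ 0 := fun c hc h0 => hTsub hc (by rw [hh, ← hqc, h0, map_zero])
    have key : ∀ c ∈ T, ∃ P : MvPolynomial (Fin s) ℂ, (N = 0 → ∃ a, P = C a) ∧
        ∀ z', eval z' (qc c) ≠ 0 → f (Fin.cons c z') = eval z' P := by
      intro c hc
      refine ih (hqc0 c hc) (f := fun z' => f (Fin.cons c z')) N ?_ fun z' i => ?_
      · have hcc : Continuous fun z' : Fin s → ℂ => (Fin.cons c z' : Fin (s + 1) → ℂ) :=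
          (continuous_const (y := c)).finCons (continuous_id' (X := Fin s → ℂ))
        exact hf.comp hcc.continuousOn fun z' hz' => by simpa [hqc] using hz'
      · obtain ⟨p, hp, hpe⟩ := hl (Fin.cons c z') i.succ
        refine ⟨p, hp, fun t ht => ?_⟩
        rw [hqc, Fin.cons_update] at ht
        rw [Fin.cons_update]
        exact hpe t ht
    choose! Pc hPc hPe using key
    refine ⟨∑ c ∈ T, Polynomial.aeval (X 0 : MvPolynomial (Fin (s + 1)) ℂ) (Lagrange.basis T id c) *
      rename Fin.succ (Pc c), ?_, ?_⟩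
    · intro hN
      subst hN
      obtain ⟨c, rfl⟩ := Finset.card_eq_one.1 hTcard
      obtain ⟨a, ha⟩ := hPc c (Finset.mem_singleton_self c) rfl
      exact ⟨a, by simp [ha, Lagrange.basis_singleton]⟩
    set P := ∑ c ∈ T, Polynomial.aeval (X 0 : MvPolynomial (Fin (s + 1)) ℂ) (Lagrange.basis T id c) *
      rename Fin.succ (Pc c)
    set Q := q * ∏ c ∈ T, rename Fin.succ (qc c)
    have hQ : Q ≠ 0 := mul_ne_zero hq (Finset.prod_ne_zero_iff.2 fun c hc =>
      (map_ne_zero_iff _ (rename_injective _ (Fin.succ_injective _))).2 (hqc0 c hc))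
    have hgood : ∀ z, eval z Q ≠ 0 → f z = eval z P := by
      intro z hz
      rw [map_mul, map_prod, mul_ne_zero_iff, Finset.prod_ne_zero_iff] at hz
      obtain ⟨hzq, hzc⟩ := hz
      have hc : ∀ c ∈ T, eval (Fin.cons c (Fin.tail z)) q ≠ 0 := fun c hc => by
        have := hzc c hc
        rw [eval_rename] at this
        rw [← hqc]; exact this
      obtain ⟨p, hp, hpe⟩ := hl z 0
      have hupd : ∀ t, update z 0 t = Fin.cons t (Fin.tail z) := fun t => by
        conv_lhs => rw [← Fin.cons_self_tail z, Fin.update_cons_zero]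
      simp only [hupd] at hpe
      have hp' : p = Lagrange.interpolate T id fun c => eval (Fin.tail z) (Pc c) := by
        refine Lagrange.eq_interpolate_of_eval_eq _ Function.injective_id.injOn ?_ fun c hcT => ?_
        · rw [hTcard]
          exact lt_of_le_of_lt Polynomial.degree_le_natDegree (by exact_mod_cast Nat.lt_succ_of_le hp)
        · rw [id_eq, ← hpe c (hc c hcT)]
          exact hPe c hcT (Fin.tail z) (by rw [hqc]; exact hc c hcT)
      have h1 := hpe (z 0) (by rwa [Fin.cons_self_tail])
      rw [Fin.cons_self_tail] at h1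
      rw [h1, hp', Lagrange.interpolate_apply, Polynomial.eval_finsetSum, map_sum]
      refine Finset.sum_congr rfl fun c _ => ?_
      rw [Polynomial.eval_mul, Polynomial.eval_C, map_mul, eval_rename, mul_comm]
      congr 1
      have : (aeval (R := ℂ) z).comp (Polynomial.aeval (X 0 : MvPolynomial (Fin (s + 1)) ℂ)) =
          Polynomial.aeval (z 0) := by
        ext; simp
      simpa using (AlgHom.congr_fun this (Lagrange.basis T id c)).symm
    intro z hz
    by_contra hne
    have hopen : IsOpen {w : Fin (s + 1) → ℂ | eval w q ≠ 0} :=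
      isOpen_ne_fun (MvPolynomial.continuous_eval q) continuous_const
    have hd : ContinuousOn (fun w => f w - eval w P) {w | eval w q ≠ 0} :=
      hf.sub (MvPolynomial.continuous_eval P).continuousOn
    obtain ⟨w, hw, hwQ⟩ := exists_eval_ne_zero_of_isOpen hQ
      (hd.isOpen_inter_preimage hopen (isOpen_compl_singleton (x := (0 : ℂ))))
      ⟨z, hz, sub_ne_zero.2 hne⟩
    exact hw.2 (sub_eq_zero.2 (hgood w hwQ))

end Groth.Agent.AnPtsTop
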