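import Groth.Prelude.Def_AnPts
import Mathlib.AlgebraicGeometry.AlgClosed.Basic
import Mathlib.Analysis.Complex.Polynomial.Basic
import Mathlib.AlgebraicGeometry.AffineScheme

/-!
Basics on `An.Pts X` with the complex topology.
-/

open AlgebraicGeometry CategoryTheory TopologicalSpace Topology Opposite

noncomputable section

namespace Groth.Agent.AnPtsTop

variable {X Y : Scheme.{0}} [X.Over An.SC] [Y.Over An.SC]

lemma pts_ext {x y : An.Pts X} (h : x.1 = y.1) : x = y := Subtype.ext h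

/-- evaluation as a ring map -/
def evHom (x : An.Pts X) (U : X.Opens) (h : x.pt ∈ U) : Γ(X, U) →+* ℂ :=
  (Scheme.ΓSpecIso (CommRingCat.of ℂ)).hom.hom.comp (x.1.appLE U ⊤ (An.Pts.top_le_preimage x h)).hom

lemma evHom_apply (x : An.Pts X) (U : X.Opens) (h : x.pt ∈ U) (f : Γ(X, U)) :
    evHom x U h f = x.ev U h f := rfl

lemma ev_res (x : An.Pts X) {U V : X.Opens} (i : V ≤ U) (h : x.pt ∈ V) (f : Γ(X, U)) :
    x.ev V h (X.presheaf.map (homOfLE i).op f) = x.ev U (i h) f := by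
  unfold An.Pts.ev
  rw [← x.1.map_appLE (An.Pts.top_le_preimage x h) (homOfLE i).op]
  rfl

lemma evTop_eq_appTop (x : An.Pts X) (f : Γ(X, ⊤)) :
    x.evTop f = (Scheme.ΓSpecIso (CommRingCat.of ℂ)).hom (x.1.appTop f) := by
  change (Scheme.ΓSpecIso (CommRingCat.of ℂ)).hom (x.1.appLE ⊤ ⊤ _ f) = _
  rw [show x.1.appLE ⊤ ⊤ (An.Pts.top_le_preimage x (Opens.mem_top _)) = x.1.appTop from x.1.appLE_eq_app]

lemma evTop_strHom (x : An.Pts X) (c : ℂ) : x.evTop (An.strHom X c) = c := by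
  rw [evTop_eq_appTop]
  have h1 : (X ↘ An.SC).appTop ≫ x.1.appTop = 𝟙 _ := by
    rw [← Scheme.Hom.comp_appTop, x.2]; rfl
  have h2 := congrArg (fun φ => φ.hom ((Scheme.ΓSpecIso (CommRingCat.of ℂ)).inv.hom c)) h1
  change x.1.appTop ((X ↘ An.SC).appTop ((Scheme.ΓSpecIso (CommRingCat.of ℂ)).inv.hom c)) = _ at h2
  change (Scheme.ΓSpecIso (CommRingCat.of ℂ)).hom (x.1.appTop ((X ↘ An.SC).appTop
    ((Scheme.ΓSpecIso (CommRingCat.of ℂ)).inv.hom c))) = c
  rw [h2]
  exact congrArg (fun φ => φ.hom c) (Scheme.ΓSpecIso (CommRingCat.of ℂ)).inv_hom_id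

lemma basicOpen_eq_top_iff (r : Γ(An.SC, ⊤)) :
    An.cpt ∈ An.SC.basicOpen r ↔ (Scheme.ΓSpecIso (CommRingCat.of ℂ)).hom r ≠ 0 := by
  constructor
  · intro h h0
    have : r = 0 := by
      apply (Scheme.ΓSpecIso (CommRingCat.of ℂ)).commRingCatIsoToRingEquiv.injective
      rw [map_zero]; exact h0
    rw [this, Scheme.basicOpen_zero] at h
    exact h
  · intro h
    have hu : IsUnit r := by
      have := (Ne.isUnit h).map (Scheme.ΓSpecIso (CommRingCat.of ℂ)).inv.hom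
      rwa [show (Scheme.ΓSpecIso (CommRingCat.of ℂ)).inv.hom ((Scheme.ΓSpecIso (CommRingCat.of ℂ)).hom r) = r
        from congrArg (fun φ => φ.hom r) (Scheme.ΓSpecIso (CommRingCat.of ℂ)).hom_inv_id] at this
    rw [Scheme.basicOpen_of_isUnit _ hu]
    trivial

lemma pt_mem_basicOpen_iff (x : An.Pts X) {U : X.Opens} (h : x.pt ∈ U) (f : Γ(X, U)) :
    x.pt ∈ X.basicOpen f ↔ x.ev U h f ≠ 0 := by
  refine Iff.trans ?_ (basicOpen_eq_top_iff (x.1.appLE U ⊤ (An.Pts.top_le_preimage x h) f))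
  have : An.SC.basicOpen (x.1.appLE U ⊤ (An.Pts.top_le_preimage x h) f) = ⊤ ⊓ x.1 ⁻¹ᵁ X.basicOpen f := by
    rw [Scheme.preimage_basicOpen]
    exact Scheme.basicOpen_res _ _ _
  rw [this]
  exact ⟨fun hh => ⟨trivial, hh⟩, fun hh => hh.2⟩

section LFT

variable [LocallyOfFiniteType (X ↘ An.SC)]

lemma jacobsonSpace : JacobsonSpace X := LocallyOfFiniteType.jacobsonSpace (X ↘ An.SC)

lemma isClosed_pt (x : An.Pts X) : IsClosed ({x.pt} : Set X) := by
  have := ((pointEquivClosedPoint (X ↘ An.SC)) x).2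
  have e : (IsLocalRing.closedPoint ℂ : An.SC) = An.cpt := An.eq_cpt _
  change IsClosed ({x.1 An.cpt} : Set X)
  rw [← e]
  exact this

lemma pt_injective : Function.Injective (An.Pts.pt : An.Pts X → X) := by
  intro x y h
  refine (pointEquivClosedPoint (X ↘ An.SC)).injective (Subtype.ext ?_)
  change x.1 (IsLocalRing.closedPoint ℂ) = y.1 (IsLocalRing.closedPoint ℂ)
  rw [An.eq_cpt (IsLocalRing.closedPoint ℂ)]
  exact h

lemma exists_pt_eq {p : X} (hp : IsClosed ({p} : Set X)) : ∃ x : An.Pts X, x.pt = p :=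
  ⟨⟨pointOfClosedPoint (X ↘ An.SC) p hp, pointOfClosedPoint_comp _ _ _⟩, pointOfClosedPoint_apply _ _ _ _⟩

lemma range_pt : Set.range (An.Pts.pt : An.Pts X → X) = closedPoints X :=
  Set.ext fun p => ⟨fun ⟨x, hx⟩ => hx ▸ isClosed_pt x, fun hp => exists_pt_eq hp⟩

lemma exists_pt_mem {Z : Set X} (hne : Z.Nonempty) (hZ : IsLocallyClosed Z) :
    ∃ x : An.Pts X, x.pt ∈ Z := by
  have := jacobsonSpace (X := X)
  obtain ⟨p, hp, hpc⟩ := nonempty_inter_closedPoints hne hZ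
  obtain ⟨x, rfl⟩ := exists_pt_eq hpc
  exact ⟨x, hp⟩

/-- constructible sets with the same points agree (LC pieces version) -/
lemma eq_empty_of_forall_pt_notMem {Z : Set X} (hZ : IsLocallyConstructible Z)
    (h : ∀ x : An.Pts X, x.pt ∉ Z) : Z = ∅ := by
  by_contra hne
  obtain ⟨p, hp⟩ := Set.nonempty_iff_ne_empty.2 hne
  obtain ⟨U, hU, hUo, hc⟩ := hZ p
  obtain ⟨W, hW, hpW, hWsub⟩ : ∃ W : Set X, IsLocallyClosed W ∧ p ∈ W ∧ W ⊆ Z := by
    have key : ∀ {C : Set ↥U}, IsConstructible C → ∀ q : ↥U, ∃ W : Set ↥U, IsLocallyClosed W ∧ q ∈ W ∧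
        (q ∈ C → W ⊆ C) ∧ (q ∉ C → W ⊆ Cᶜ) := by
      intro C hC
      induction hC using IsConstructible.empty_union_induction with
      | open_retrocompact V hV _ =>
        intro q
        by_cases hq : q ∈ V
        · exact ⟨V, hV.isLocallyClosed, hq, fun _ => subset_rfl, fun h => absurd hq h⟩
        · exact ⟨Vᶜ, hV.isClosed_compl.isLocallyClosed, hq, fun h => absurd h hq, fun _ => subset_rfl⟩
      | union s _ t _ hs ht =>
        intro q
        obtain ⟨W₁, h₁, hq₁, a₁, b₁⟩ := hs q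
        obtain ⟨W₂, h₂, hq₂, a₂, b₂⟩ := ht q
        refine ⟨W₁ ∩ W₂, h₁.inter h₂, ⟨hq₁, hq₂⟩, fun hq => ?_, fun hq => ?_⟩
        · rcases hq with hq | hq
          · exact fun w hw => Or.inl (a₁ hq hw.1)
          · exact fun w hw => Or.inr (a₂ hq hw.2)
        · intro w hw hw'
          exact hw'.elim (b₁ (fun hh => hq (Or.inl hh)) hw.1) (b₂ (fun hh => hq (Or.inr hh)) hw.2)
      | compl s _ hs =>
        intro q
        obtain ⟨W₁, h₁, hq₁, a₁, b₁⟩ := hs q
        exact ⟨W₁, h₁, hq₁, fun hq => b₁ hq, fun hq => by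
          rw [compl_compl]; exact a₁ (not_not.1 hq)⟩
    obtain ⟨W, hW, hqW, a, -⟩ := key hc ⟨p, mem_of_mem_nhds hU⟩
    refine ⟨Subtype.val '' W, hW.image IsInducing.subtypeVal
      (by rw [Subtype.range_coe]; exact hUo.isLocallyClosed), ⟨_, hqW, rfl⟩, ?_⟩
    rintro _ ⟨w, hw, rfl⟩
    exact a hp hw
  obtain ⟨x, hx⟩ := exists_pt_mem ⟨p, hpW⟩ hW
  exact h x (hWsub hx)

end LFT

/-- the points of an open subscheme -/
lemma exists_map_eq_of_isOpenImmersion (f : X ⟶ Y) [f.IsOver An.SC] [IsOpenImmersion f]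
    (y : An.Pts Y) (hy : y.pt ∈ Set.range f) : ∃ x : An.Pts X, An.Pts.map f x = y := by
  have hsub : Set.range y.1 ⊆ Set.range f := by
    rintro _ ⟨p, rfl⟩
    rw [An.eq_cpt p]; exact hy
  refine ⟨⟨IsOpenImmersion.lift f y.1 hsub, ?_⟩, pts_ext (IsOpenImmersion.lift_fac f y.1 hsub)⟩
  rw [← comp_over f An.SC, ← Category.assoc, IsOpenImmersion.lift_fac, y.2]

lemma map_injective_of_mono (f : X ⟶ Y) [f.IsOver An.SC] [Mono f] :
    Function.Injective (An.Pts.map f) := fun _ _ h =>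
  pts_ext ((cancel_mono f).1 (congrArg Subtype.val h))

lemma range_map_of_isOpenImmersion (f : X ⟶ Y) [f.IsOver An.SC] [IsOpenImmersion f] :
    Set.range (An.Pts.map f) = An.Pts.pt ⁻¹' Set.range f := by
  ext y
  refine ⟨?_, fun hy => exists_map_eq_of_isOpenImmersion f y hy⟩
  rintro ⟨x, rfl⟩
  exact ⟨x.pt, (An.Pts.pt_map f x).symm⟩

lemma isOpenEmbedding_map (f : X ⟶ Y) [f.IsOver An.SC] [IsOpenImmersion f] :
    IsOpenEmbedding (An.Pts.map f) := by
  refine ⟨⟨⟨TopologicalSpace.ext_iff.2 fun S => ⟨fun hS => ?_, fun ⟨T, hT, e⟩ => ?_⟩⟩,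
    map_injective_of_mono f⟩, ?_⟩
  · have key : ∀ (U : X.Opens) (s : Γ(X, U)) (V : Set ℂ), An.Pts.basicSet U s V =
        An.Pts.map f ⁻¹' An.Pts.basicSet (f ''ᵁ U) ((f.appIso U).inv s) V := by
      intro U s V
      rw [An.Pts.preimage_basicSet]
      ext x
      constructor
      · rintro ⟨h, hv⟩
        have h' : x.pt ∈ f ⁻¹ᵁ f ''ᵁ U := by rw [f.preimage_image_eq]; exact h
        refine ⟨h', ?_⟩
        convert hv using 1
        rw [← ev_res x (f.preimage_image_eq U).ge h]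
        congr 1
        exact congrArg (fun φ => φ.hom s) (f.appIso_inv_app_presheafMap U)
      · rintro ⟨h', hv⟩
        have h : x.pt ∈ U := by rwa [f.preimage_image_eq] at h'
        refine ⟨h, ?_⟩
        convert hv using 1
        rw [← ev_res x (f.preimage_image_eq U).ge h]
        congr 1
        exact (congrArg (fun φ => φ.hom s) (f.appIso_inv_app_presheafMap U)).symm
    refine GenerateOpen.rec ?_ ⟨Set.univ, isOpen_univ, rfl⟩ (fun s t _ _ hs ht => ?_) (fun c _ hc => ?_) hS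
    · rintro _ ⟨U, s, V, hV, rfl⟩
      exact ⟨_, An.Pts.isOpen_basicSet _ _ hV, (key U s V).symm⟩
    · obtain ⟨a, ha, rfl⟩ := hs
      obtain ⟨b, hb, rfl⟩ := ht
      exact ⟨a ∩ b, ha.inter hb, rfl⟩
    · choose g hg hge using hc
      refine ⟨⋃ (s) (h : s ∈ c), g s h, isOpen_iUnion fun s => isOpen_iUnion fun h => hg s h, ?_⟩
      rw [Set.preimage_iUnion₂, Set.sUnion_eq_biUnion]
      exact Set.iUnion₂_congr hge
  · rw [← e]; exact hT.preimage (An.Pts.continuous_map f)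
  · rw [range_map_of_isOpenImmersion]
    exact f.isOpenEmbedding.isOpen_range.preimage An.Pts.continuous_pt

end Groth.Agent.AnPtsTop
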