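import Groth.Agent.Lib.AnPtsTop.DenseAlg
import Mathlib.FieldTheory.PrimitiveElement
import Mathlib.FieldTheory.Perfect
import Mathlib.RingTheory.Localization.Integral
import Mathlib.FieldTheory.IntermediateField.Adjoin.Basic

/-!
Generic presentation of a domain finite over a polynomial ring.
-/

open Topology

noncomputable section

namespace Groth.Agent.AnPtsTop

open Polynomial

theorem exists_generic_presentation {P A : Type*} [CommRing P] [IsDomain P] [IsIntegrallyClosed P] [CharZero P]
    [CommRing A] [IsDomain A] [Algebra P A] [Module.Finite P A] (hinj : Function.Injective (algebraMap P A)) :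
    ∃ (a : A) (m u v : P[X]) (q : P), m.Monic ∧ Irreducible m ∧ aeval a m = 0 ∧ q ≠ 0 ∧
      u * m + v * derivative m = C q ∧
      (∀ p : P[X], aeval a p = 0 → m ∣ p) ∧
      ∀ b : A, ∃ R : P[X], algebraMap P A q * b = aeval a R := by
  classical
  have : Module.IsTorsionFree P A := Module.isTorsionFree_iff_algebraMap_injective.2 hinj
  have : FaithfulSMul P A := (faithfulSMul_iff_algebraMap_injective P A).2 hinj
  let K := FractionRing P
  let L := FractionRing A
  let : Algebra K L := FractionRing.liftAlgebra P L
  have : IsScalarTower P K L := inferInstance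
  obtain ⟨G, hG⟩ := Module.Finite.fg_top (R := P) (M := A)
  have : Algebra.IsIntegral P A := Algebra.IsIntegral.of_finite P A
  have hintL : ∀ b : A, IsIntegral K (algebraMap A L b) := fun b =>
    ((Algebra.IsIntegral.isIntegral (R := P) b).map (IsScalarTower.toAlgHom P A L)).tower_top
  -- `L` is finite over `K`
  let E : IntermediateField K L := IntermediateField.adjoin K ↑(G.image (algebraMap A L))
  have hE : ∀ b : A, algebraMap A L b ∈ E := fun b => by
    have hb : b ∈ Submodule.span P (G : Set A) := hG ▸ Submodule.mem_top
    induction hb using Submodule.span_induction with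
    | mem x hx =>
      exact IntermediateField.subset_adjoin K _ (Finset.mem_coe.2 (Finset.mem_image_of_mem _ hx))
    | zero => rw [map_zero]; exact zero_mem _
    | add x y _ _ hx hy => rw [map_add]; exact add_mem hx hy
    | smul p x _ hx =>
      rw [Algebra.smul_def, map_mul, ← IsScalarTower.algebraMap_apply, IsScalarTower.algebraMap_apply P K L]
      exact mul_mem (E.algebraMap_mem _) hx
  have hEtop : E = ⊤ := eq_top_iff.2 fun x _ => by
    obtain ⟨b, b', -, rfl⟩ := IsFractionRing.div_surjective (A := A) x
    exact div_mem (hE b) (hE b')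
  have : FiniteDimensional K E := IntermediateField.finiteDimensional_adjoin fun x hx => by
    obtain ⟨b, -, rfl⟩ := Finset.mem_image.1 hx
    exact hintL b
  have : FiniteDimensional K L := by
    have : FiniteDimensional K (⊤ : IntermediateField K L) := hEtop ▸ this
    exact Module.Finite.equiv IntermediateField.topEquiv.toLinearEquiv
  obtain ⟨α, hα⟩ := Field.exists_primitive_element K L
  obtain ⟨b₀, b', hb', rfl⟩ := IsFractionRing.div_surjective (A := A) α
  have hb'0 : b' ≠ 0 := nonZeroDivisors.ne_zero hb'
  have hib' : IsIntegral P b' := Algebra.IsIntegral.isIntegral b'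
  obtain ⟨r, hr⟩ : X ∣ minpoly P b' - C ((minpoly P b').coeff 0) := by
    rw [X_dvd_iff]; simp
  set p₀ := (minpoly P b').coeff 0 with hp₀
  have hp₀ne : p₀ ≠ 0 := by
    intro h0
    obtain ⟨r', hr'⟩ := X_dvd_iff.2 (hp₀ ▸ h0 : (minpoly P b').coeff 0 = 0)
    have hrm : r'.Monic := monic_X.of_mul_monic_left (hr' ▸ minpoly.monic hib')
    have hr0 : aeval b' r' = 0 := by
      have := minpoly.aeval P b'
      rw [hr', map_mul, aeval_X] at this
      exact (mul_eq_zero.1 this).resolve_left hb'0
    have hle := minpoly.min P b' hrm hr0
    rw [hr', degree_mul, degree_X, degree_eq_natDegree hrm.ne_zero] at hle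
    exact absurd hle (by norm_cast; omega)
  -- the scaled primitive element
  set a := b₀ * (-aeval b' r) with ha_def
  have hp0A : algebraMap P A p₀ = b' * (-aeval b' r) := by
    have := congrArg (aeval b') hr
    rw [map_sub, minpoly.aeval, aeval_C, map_mul, aeval_X] at this
    linear_combination -this
  have haL : algebraMap A L a = algebraMap K L (algebraMap P K p₀) * (algebraMap A L b₀ / algebraMap A L b') := by
    rw [← IsScalarTower.algebraMap_apply, IsScalarTower.algebraMap_apply P A L, hp0A, ha_def, map_mul, map_mul]
    have : algebraMap A L b' ≠ 0 := (map_ne_zero_iff _ (IsFractionRing.injective A L)).2 hb'0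
    rw [eq_comm, mul_comm, div_mul_eq_mul_div, mul_comm (algebraMap A L b'), ← mul_assoc, mul_div_cancel_right₀ _ this]
  have hatop : IntermediateField.adjoin K {algebraMap A L a} = ⊤ := by
    rw [eq_top_iff, ← hα, IntermediateField.adjoin_simple_le_iff]
    have hk : algebraMap K L (algebraMap P K p₀) ≠ 0 := by
      rw [map_ne_zero_iff _ (algebraMap K L).injective, map_ne_zero_iff _ (IsFractionRing.injective P K)]
      exact hp₀ne
    have : algebraMap A L b₀ / algebraMap A L b' =
        algebraMap A L a / algebraMap K L (algebraMap P K p₀) := by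
      rw [haL, mul_div_cancel_left₀ _ hk]
    rw [this]
    exact div_mem (IntermediateField.mem_adjoin_simple_self K _) (IntermediateField.algebraMap_mem _ _)
  have hai : IsIntegral P a := Algebra.IsIntegral.isIntegral a
  set m := minpoly P a
  have hmK : minpoly K (algebraMap A L a) = m.map (algebraMap P K) :=
    minpoly.isIntegrallyClosed_eq_field_fractions K L hai
  -- separability
  have hsep : (m.map (algebraMap P K)).Separable :=
    hmK ▸ (minpoly.irreducible (hintL a)).separable
  obtain ⟨u₀, v₀, huv⟩ := hsep
  obtain ⟨cu, hcu, hu⟩ := IsLocalization.integerNormalization_spec (nonZeroDivisors P) u₀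
  obtain ⟨cv, hcv, hv⟩ := IsLocalization.integerNormalization_spec (nonZeroDivisors P) v₀
  set u := IsLocalization.integerNormalization (nonZeroDivisors P) u₀
  set v := IsLocalization.integerNormalization (nonZeroDivisors P) v₀
  have hbez : C cv * u * m + C cu * v * derivative m = C (cu * cv) := by
    apply Polynomial.map_injective _ (IsFractionRing.injective P K)
    simp only [Polynomial.map_add, Polynomial.map_mul, map_C, hu, hv, ← derivative_map, map_mul,
      Algebra.smul_def, Polynomial.algebraMap_apply]
    linear_combination (C (algebraMap P K cu) * C (algebraMap P K cv)) * huv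
  -- every element is a polynomial in `a` up to a denominator
  have hgen : ∀ b : A, ∃ c : P, c ≠ 0 ∧ ∃ R : P[X], algebraMap P A c * b = aeval a R := by
    intro b
    have hmem : algebraMap A L b ∈ Algebra.adjoin K {algebraMap A L a} := by
      rw [← IntermediateField.adjoin_simple_toSubalgebra_of_isAlgebraic (hintL a).isAlgebraic, hatop]
      trivial
    rw [Algebra.adjoin_singleton_eq_range_aeval] at hmem
    obtain ⟨R₀, hR₀⟩ := hmem
    obtain ⟨c, hc, hR⟩ := IsLocalization.integerNormalization_spec (nonZeroDivisors P) R₀
    refine ⟨c, nonZeroDivisors.ne_zero hc, IsLocalization.integerNormalization (nonZeroDivisors P) R₀, ?_⟩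
    apply IsFractionRing.injective A L
    have := congrArg (aeval (algebraMap A L a)) hR
    rw [aeval_map_algebraMap, aeval_algebraMap_apply] at this
    rw [this, Algebra.smul_def, map_mul, map_mul, Polynomial.algebraMap_apply, aeval_C,
      ← IsScalarTower.algebraMap_apply, ← IsScalarTower.algebraMap_apply]
    congr 1
    exact hR₀.symm
  choose cc hcc RR hRR using hgen
  set c := ∏ b ∈ G, cc b
  refine ⟨a, m, C (c * cv) * u, C (c * cu) * v, c * (cu * cv), minpoly.monic hai, minpoly.irreducible hai,
    minpoly.aeval P a, ?_, ?_, fun p hp => minpoly.isIntegrallyClosed_dvd hai hp, fun b => ?_⟩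
  · exact mul_ne_zero (Finset.prod_ne_zero_iff.2 fun b _ => hcc b)
      (mul_ne_zero (nonZeroDivisors.ne_zero hcu) (nonZeroDivisors.ne_zero hcv))
  · rw [map_mul C c (cu * cv), ← hbez, map_mul, map_mul]
    ring
  · have hb : b ∈ Submodule.span P (G : Set A) := hG ▸ Submodule.mem_top
    suffices ∀ x ∈ Submodule.span P (G : Set A), ∃ R : P[X], algebraMap P A (c * (cu * cv)) * x = aeval a R from
      this b hb
    intro x hx
    induction hx using Submodule.span_induction with
    | mem x hx =>
      obtain ⟨k, hk⟩ := Finset.dvd_prod_of_mem cc (Finset.mem_coe.1 hx)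
      refine ⟨C (k * (cu * cv)) * RR x, ?_⟩
      rw [map_mul (aeval a), aeval_C, ← hRR, show c * (cu * cv) = k * (cu * cv) * cc x by
        change (∏ b ∈ G, cc b) * (cu * cv) = _
        rw [hk]; ring, map_mul (algebraMap P A) (k * (cu * cv)), mul_assoc]
    | zero => exact ⟨0, by simp⟩
    | add x y _ _ hx hy =>
      obtain ⟨R₁, h₁⟩ := hx
      obtain ⟨R₂, h₂⟩ := hy
      exact ⟨R₁ + R₂, by rw [mul_add, h₁, h₂, map_add]⟩
    | smul p x _ hx =>
      obtain ⟨R₁, h₁⟩ := hx
      exact ⟨C p * R₁, by rw [map_mul (aeval a), aeval_C, ← h₁, Algebra.smul_def]; ring⟩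

end Groth.Agent.AnPtsTop
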