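import Groth.Agent.Lib.AnPtsTop.AxisPoly
import Groth.Agent.Lib.AnPtsTop.Generic
import Mathlib.Analysis.SpecialFunctions.Complex.Log
import Mathlib.RingTheory.Polynomial.Vieta

/-!
The points of a domain of finite type over `ℂ` are connected, and units with a continuous logarithm are
constant.
-/

open Topology Filter

noncomputable section

namespace Groth.Agent.AnPtsTop

open MvPolynomial (eval)

variable {A : Type*} [CommRing A] [Algebra ℂ A] {s : ℕ} (g : MvPolynomial (Fin s) ℂ →ₐ[ℂ] A)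

/-- `ψ` lies over `z` -/
def IsOverPt (z : Fin s → ℂ) (ψ : A →ₐ[ℂ] ℂ) : Prop := ∀ i, ψ (g (MvPolynomial.X i)) = z i

variable {g}

lemma IsOverPt.apply {z : Fin s → ℂ} {ψ : A →ₐ[ℂ] ℂ} (h : IsOverPt g z ψ) (p : MvPolynomial (Fin s) ℂ) :
    ψ (g p) = eval z p := by
  rw [← AlgHom.comp_apply, algHom_comp_eq_aeval, show (fun i => ψ (g (MvPolynomial.X i))) = z from funext h,
    MvPolynomial.aeval_eq_eval]

lemma exists_growth (q : MvPolynomial (Fin s) ℂ) :
    ∃ (C : ℝ) (N : ℕ), 0 ≤ C ∧ ∀ z, ‖eval z q‖ ≤ C * (1 + ‖z‖) ^ N := by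
  induction q using MvPolynomial.induction_on with
  | C c => exact ⟨‖c‖, 0, norm_nonneg _, fun z => by simp⟩
  | add p r hp hr =>
    obtain ⟨C₁, N₁, h₁, e₁⟩ := hp
    obtain ⟨C₂, N₂, h₂, e₂⟩ := hr
    refine ⟨C₁ + C₂, max N₁ N₂, add_nonneg h₁ h₂, fun z => ?_⟩
    have hb : 1 ≤ 1 + ‖z‖ := by linarith [norm_nonneg z]
    rw [map_add, add_mul]
    refine (norm_add_le _ _).trans (add_le_add ?_ ?_)
    · exact (e₁ z).trans (mul_le_mul_of_nonneg_left (pow_le_pow_right₀ hb (le_max_left _ _)) h₁)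
    · exact (e₂ z).trans (mul_le_mul_of_nonneg_left (pow_le_pow_right₀ hb (le_max_right _ _)) h₂)
  | mul_X p i hp =>
    obtain ⟨C₁, N₁, h₁, e₁⟩ := hp
    refine ⟨C₁, N₁ + 1, h₁, fun z => ?_⟩
    rw [map_mul, MvPolynomial.eval_X, norm_mul, pow_succ, ← mul_assoc]
    exact mul_le_mul (e₁ z) ((norm_le_pi_norm z i).trans (by linarith)) (norm_nonneg _) (by positivity)

lemma exists_growth_over (hg : g.Finite) (b : A) :
    ∃ (C : ℝ) (N : ℕ), 1 ≤ C ∧ ∀ z (ψ : A →ₐ[ℂ] ℂ), IsOverPt g z ψ → ‖ψ b‖ ≤ C * (1 + ‖z‖) ^ N := by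
  obtain ⟨q, hq, hqb⟩ := RingHom.Finite.to_isIntegral hg b
  choose C N hC hN using fun i => exists_growth (q.coeff i)
  refine ⟨1 + ∑ i ∈ Finset.range q.natDegree, C i, Finset.sup (Finset.range q.natDegree) N,
    le_add_of_nonneg_right (Finset.sum_nonneg fun i _ => hC i), fun z ψ hψ => ?_⟩
  have hb : 1 ≤ 1 + ‖z‖ := by linarith [norm_nonneg z]
  have := norm_root_le (hq.map _) (isRoot_of_aeval ψ z hψ hqb)
  rw [hq.natDegree_map] at this
  simp only [Polynomial.coeff_map] at this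
  refine this.trans ?_
  rw [add_mul, one_mul, Finset.sum_mul]
  refine add_le_add (one_le_pow₀ hb) (Finset.sum_le_sum fun i hi => ?_)
  exact (hN i z).trans (mul_le_mul_of_nonneg_left (pow_le_pow_right₀ hb (Finset.le_sup hi)) (hC i))

lemma differentiable_eval_update (p : MvPolynomial (Fin s) ℂ) (z : Fin s → ℂ) (i : Fin s) :
    Differentiable ℂ fun t => eval (Function.update z i t) p := by
  induction p using MvPolynomial.induction_on with
  | C c => simp
  | add p r hp hr => simp only [map_add]; exact hp.add hr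
  | mul_X p j hp =>
    simp only [map_mul, MvPolynomial.eval_X]
    refine hp.mul ?_
    by_cases h : j = i
    · subst h; simp [Function.update_self]
    · simp [Function.update_of_ne h]

lemma continuousAt_finsetSum' {ι X : Type*} [TopologicalSpace X] {s : Finset ι} {f : ι → X → ℂ} {x : X}
    (h : ∀ i ∈ s, ContinuousAt (f i) x) : ContinuousAt (fun a => ∑ i ∈ s, f i a) x :=
  tendsto_finsetSum s h

lemma continuousAt_finsetProd' {ι X : Type*} [TopologicalSpace X] (s : Finset ι) {f : ι → X → ℂ} {x : X}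
    (h : ∀ i ∈ s, ContinuousAt (f i) x) : ContinuousAt (fun a => ∏ i ∈ s, f i a) x :=
  tendsto_finsetProd s h

lemma norm_esymm_le {ι : Type*} (S : Finset ι) (v : ι → ℂ) (j : ℕ) {B : ℝ} (hB : 0 ≤ B) (h : ∀ k ∈ S, ‖v k‖ ≤ B) :
    ‖(S.val.map v).esymm j‖ ≤ 2 ^ S.card * B ^ j := by
  rw [Finset.esymm_map_val]
  refine (norm_sum_le _ _).trans ((Finset.sum_le_card_nsmul _ _ (B ^ j) fun t ht => ?_).trans ?_)
  · rw [Finset.mem_powersetCard] at ht
    rw [norm_prod]
    exact (Finset.prod_le_prod (fun k _ => norm_nonneg _) fun k hk => h k (ht.1 hk)).trans_eq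
      (by rw [Finset.prod_const, ht.2])
  · rw [Finset.card_powersetCard, nsmul_eq_mul]
    exact mul_le_mul_of_nonneg_right (by exact_mod_cast Nat.choose_le_two_pow _ _) (pow_nonneg hB _)

/-- A generic presentation of `A` over the polynomial ring. -/
structure Pres (g : MvPolynomial (Fin s) ℂ →ₐ[ℂ] A) where
  a : A
  m : Polynomial (MvPolynomial (Fin s) ℂ)
  u : Polynomial (MvPolynomial (Fin s) ℂ)
  v : Polynomial (MvPolynomial (Fin s) ℂ)
  q : MvPolynomial (Fin s) ℂ
  finite : g.Finite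
  injective : Function.Injective g
  monic : m.Monic
  irr : Irreducible m
  root : m.eval₂ g.toRingHom a = 0
  q_ne : q ≠ 0
  bez : u * m + v * Polynomial.derivative m = Polynomial.C q
  dvd : ∀ p : Polynomial (MvPolynomial (Fin s) ℂ), p.eval₂ g.toRingHom a = 0 → m ∣ p
  gen : ∀ b : A, ∃ R : Polynomial (MvPolynomial (Fin s) ℂ), g q * b = R.eval₂ g.toRingHom a

lemma exists_pres [IsDomain A] (hinj : Function.Injective g) (hfin : g.Finite) : Nonempty (Pres g) := by
  let := g.toRingHom.toAlgebra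
  have : Module.Finite (MvPolynomial (Fin s) ℂ) A := hfin
  obtain ⟨a, m, u, v, q, h1, h2, h3, h4, h5, h6, h7⟩ := exists_generic_presentation (P := MvPolynomial (Fin s) ℂ) (A := A) hinj
  exact ⟨⟨a, m, u, v, q, hfin, hinj, h1, h2, h3, h4, h5, h6, h7⟩⟩

namespace Pres

variable (D : Pres g)

/-- the fibre polynomial -/
def mz (z : Fin s → ℂ) : Polynomial ℂ := D.m.map (eval z)

lemma monic_mz (z : Fin s → ℂ) : (D.mz z).Monic := D.monic.map _

lemma isRoot {z : Fin s → ℂ} {ψ : A →ₐ[ℂ] ℂ} (h : IsOverPt g z ψ) : (D.mz z).IsRoot (ψ D.a) :=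
  isRoot_of_aeval ψ z h D.root

lemma separable {z : Fin s → ℂ} (hz : eval z D.q ≠ 0) : (D.mz z).Separable := by
  have h := congrArg (Polynomial.map (eval z)) D.bez
  rw [Polynomial.map_add, Polynomial.map_mul, Polynomial.map_mul, ← Polynomial.derivative_map,
    Polynomial.map_C] at h
  refine ⟨Polynomial.C (eval z D.q)⁻¹ * D.u.map (eval z), Polynomial.C (eval z D.q)⁻¹ * D.v.map (eval z), ?_⟩
  rw [mul_assoc, mul_assoc, ← mul_add]
  change _ * (_ * D.m.map _ + _) = _
  rw [show D.v.map (eval z) * Polynomial.derivative (D.mz z) =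
    D.v.map (eval z) * Polynomial.derivative (D.m.map (eval z)) from rfl, h, ← Polynomial.C_mul,
    inv_mul_cancel₀ hz, Polynomial.C_1]

lemma eq_of_apply_eq {z : Fin s → ℂ} (hz : eval z D.q ≠ 0) {ψ ψ' : A →ₐ[ℂ] ℂ} (h : IsOverPt g z ψ)
    (h' : IsOverPt g z ψ') (e : ψ D.a = ψ' D.a) : ψ = ψ' := by
  have he : ψ.toRingHom.comp g.toRingHom = ψ'.toRingHom.comp g.toRingHom :=
    RingHom.ext fun p => (h.apply p).trans (h'.apply p).symm
  ext b
  obtain ⟨R, hR⟩ := D.gen b
  have h1 : ψ (g D.q * b) = ψ' (g D.q * b) := by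
    rw [hR]
    change ψ.toRingHom _ = ψ'.toRingHom _
    rw [Polynomial.hom_eval₂, Polynomial.hom_eval₂, he]
    congr 1
  rw [map_mul, map_mul, h.apply, h'.apply] at h1
  exact mul_left_cancel₀ hz h1

lemma exists_over {z : Fin s → ℂ} {c : ℂ} (hc : (D.mz z).IsRoot c) :
    ∃ ψ : A →ₐ[ℂ] ℂ, IsOverPt g z ψ ∧ ψ D.a = c := by
  let := g.toRingHom.toAlgebra
  have : IsScalarTower ℂ (MvPolynomial (Fin s) ℂ) A := IsScalarTower.of_algebraMap_eq fun c => (g.commutes c).symm
  have : Algebra.IsIntegral (MvPolynomial (Fin s) ℂ) A := ⟨RingHom.Finite.to_isIntegral D.finite⟩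
  let := (Polynomial.aeval (R := MvPolynomial (Fin s) ℂ) D.a).toRingHom.toAlgebra
  have : IsScalarTower (MvPolynomial (Fin s) ℂ) (Polynomial (MvPolynomial (Fin s) ℂ)) A :=
    IsScalarTower.of_algebraMap_eq fun q => ((Polynomial.aeval D.a).commutes q).symm
  have : IsScalarTower ℂ (Polynomial (MvPolynomial (Fin s) ℂ)) A :=
    IsScalarTower.of_algebraMap_eq fun c => (((Polynomial.aeval D.a).restrictScalars ℂ).commutes c).symm
  have : Algebra.IsIntegral (Polynomial (MvPolynomial (Fin s) ℂ)) A :=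
    Algebra.IsIntegral.tower_top (MvPolynomial (Fin s) ℂ)
  let ev : Polynomial (MvPolynomial (Fin s) ℂ) →ₐ[ℂ] ℂ :=
    ((Polynomial.aeval c).restrictScalars ℂ).comp (Polynomial.mapAlgHom (MvPolynomial.aeval z))
  have hev : ∀ q, ev q = (q.map (eval z)).eval c := fun q => by simp [ev]
  obtain ⟨ψ, hψ⟩ := exists_algHom_lift (A := A) ev (by
    intro p hp
    obtain ⟨w, rfl⟩ := D.dvd p hp
    rw [RingHom.mem_ker, map_mul, hev D.m, show (D.m.map (eval z)).eval c = 0 from hc, zero_mul])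
  refine ⟨ψ, fun i => ?_, ?_⟩
  · have := hψ (Polynomial.C (MvPolynomial.X i))
    rw [hev, Polynomial.map_C, Polynomial.eval_C, MvPolynomial.eval_X] at this
    rw [← this]
    exact congrArg ψ (Polynomial.aeval_C D.a _).symm
  · have := hψ Polynomial.X
    rw [hev, Polynomial.map_X, Polynomial.eval_X] at this
    rw [← this]
    exact congrArg ψ (Polynomial.aeval_X D.a).symm

open scoped Classical in
/-- the fibre over a point, empty outside the good locus -/
def fib (z : Fin s → ℂ) : Finset (A →ₐ[ℂ] ℂ) :=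
  if eval z D.q = 0 then ∅ else
    (D.mz z).roots.toFinset.attach.image fun c =>
      (D.exists_over (Polynomial.isRoot_of_mem_roots (Multiset.mem_toFinset.1 c.2))).choose

lemma mem_fib {z : Fin s → ℂ} (hz : eval z D.q ≠ 0) {ψ : A →ₐ[ℂ] ℂ} :
    ψ ∈ D.fib z ↔ IsOverPt g z ψ := by
  classical
  rw [fib, if_neg hz, Finset.mem_image]
  constructor
  · rintro ⟨c, -, rfl⟩
    exact (D.exists_over (Polynomial.isRoot_of_mem_roots (Multiset.mem_toFinset.1 c.2))).choose_spec.1
  · intro h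
    refine ⟨⟨ψ D.a, Multiset.mem_toFinset.2 ((Polynomial.mem_roots (D.monic_mz z).ne_zero).2 (D.isRoot h))⟩,
      Finset.mem_attach _ _, ?_⟩
    have hs := (D.exists_over (D.isRoot h)).choose_spec
    exact D.eq_of_apply_eq hz hs.1 h hs.2

lemma roots_eq {z : Fin s → ℂ} (hz : eval z D.q ≠ 0) :
    (D.mz z).roots = (D.fib z).val.map (fun ψ => ψ D.a) := by
  have hnd := Polynomial.nodup_roots (D.separable hz)
  refine (Multiset.Nodup.ext hnd ((D.fib z).nodup.map_on fun ψ hψ ψ' hψ' e => ?_)).2 fun c => ?_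
  · exact D.eq_of_apply_eq hz ((D.mem_fib hz).1 hψ) ((D.mem_fib hz).1 hψ') e
  · rw [Polynomial.mem_roots (D.monic_mz z).ne_zero, Multiset.mem_map]
    constructor
    · intro hc
      obtain ⟨ψ, h, e⟩ := D.exists_over hc
      exact ⟨ψ, (D.mem_fib hz).2 h, e⟩
    · rintro ⟨ψ, hψ, rfl⟩
      exact D.isRoot ((D.mem_fib hz).1 hψ)

lemma card_fib {z : Fin s → ℂ} (hz : eval z D.q ≠ 0) : (D.fib z).card = D.m.natDegree := by
  have := congrArg Multiset.card (D.roots_eq hz)
  rw [Multiset.card_map, ← (IsAlgClosed.splits (D.mz z)).natDegree_eq_card_roots] at this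
  rw [show (D.fib z).card = (D.fib z).val.card from rfl, ← this]
  exact D.monic.natDegree_map _

/-- local sections near a good point -/
theorem local_sections [IsDomain A] {z₀ : Fin s → ℂ} (hz₀ : eval z₀ D.q ≠ 0) :
    ∃ sec : {ψ // ψ ∈ D.fib z₀} → (Fin s → ℂ) → (A →ₐ[ℂ] ℂ),
      (∀ k, sec k z₀ = k.1) ∧
      (∀ᶠ z in 𝓝 z₀, eval z D.q ≠ 0 ∧ Function.Injective (fun k => sec k z) ∧
        (∀ k, IsOverPt g z (sec k z)) ∧ ∀ ψ, IsOverPt g z ψ → ∃ k, sec k z = ψ) ∧
      (∀ k b, ContinuousAt (fun z => sec k z b) z₀) ∧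
      (∀ k b i, DifferentiableAt ℂ (fun t => sec k (Function.update z₀ i t) b) (z₀ i)) := by
  classical
  set F := D.fib z₀
  have hover : ∀ k : F, IsOverPt g z₀ k.1 := fun k => (D.mem_fib hz₀).1 k.2
  have hinjF : ∀ k k' : F, k.1 D.a = k'.1 D.a → k = k' := fun k k' e =>
    Subtype.ext (D.eq_of_apply_eq hz₀ (hover k) (hover k') e)
  obtain ⟨δ, hδ, hsep⟩ : ∃ δ > 0, ∀ k k' : F, k ≠ k' → 2 * δ ≤ dist (k.1 D.a) (k'.1 D.a) := by
    set S := ((Finset.univ : Finset (F × F)).filter fun p => p.1 ≠ p.2).image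
      fun p => dist (p.1.1 D.a) (p.2.1 D.a) / 2
    refine ⟨(insert 1 S).min' (Finset.insert_nonempty _ _), ?_, fun k k' hne => ?_⟩
    · refine (Finset.lt_min'_iff _ _).2 fun r hr => ?_
      rcases Finset.mem_insert.1 hr with rfl | hr
      · exact one_pos
      · obtain ⟨p, hp, rfl⟩ := Finset.mem_image.1 hr
        exact div_pos (dist_pos.2 fun e => (Finset.mem_filter.1 hp).2 (hinjF _ _ e)) two_pos
    · have := Finset.min'_le (insert 1 S) _ (Finset.mem_insert_of_mem
        (Finset.mem_image_of_mem (fun p : F × F => dist (p.1.1 D.a) (p.2.1 D.a) / 2)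
          (Finset.mem_filter.2 ⟨Finset.mem_univ (k, k'), hne⟩)))
      change _ ≤ dist (k.1 D.a) (k'.1 D.a) / 2 at this
      linarith
  let sec : F → (Fin s → ℂ) → (A →ₐ[ℂ] ℂ) := fun k z =>
    if h : ∃ ψ, IsOverPt g z ψ ∧ dist (ψ D.a) (k.1 D.a) < δ then h.choose else k.1
  have hnear : ∀ (k : F) (ρ : ℝ), 0 < ρ →
      ∀ᶠ z in 𝓝 z₀, ∃ ψ, IsOverPt g z ψ ∧ dist (ψ D.a) (k.1 D.a) < ρ := by
    intro k ρ hρ
    obtain ⟨Q, hQ, hpQ, hl⟩ := exists_open_subset_image D.injective D.finite k.1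
      (W := {f | dist (f D.a) (k.1 D.a) < ρ}) (isOpen_lt ((continuous_apply D.a).dist continuous_const) continuous_const)
      (by simpa using hρ)
    rw [show (fun i => k.1 (g (MvPolynomial.X i))) = z₀ from funext (hover k)] at hpQ
    filter_upwards [hQ.mem_nhds hpQ] with z hz
    obtain ⟨ψ, h1, h2⟩ := hl z hz
    exact ⟨ψ, h2, h1⟩
  have hqopen : ∀ᶠ z in 𝓝 z₀, eval z D.q ≠ 0 :=
    (MvPolynomial.continuous_eval D.q).continuousAt.eventually_ne hz₀
  have hbase : ∀ᶠ z in 𝓝 z₀, eval z D.q ≠ 0 ∧ Function.Injective (fun k => sec k z) ∧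
      (∀ k, IsOverPt g z (sec k z) ∧ dist (sec k z D.a) (k.1 D.a) < δ) ∧
      ∀ ψ, IsOverPt g z ψ → ∃ k, sec k z = ψ := by
    filter_upwards [hqopen, eventually_all.2 fun k => hnear k δ hδ] with z hzq hz
    have hspec : ∀ k, IsOverPt g z (sec k z) ∧ dist (sec k z D.a) (k.1 D.a) < δ := fun k => by
      simp only [sec, dif_pos (hz k)]
      exact (hz k).choose_spec
    have hinj : Function.Injective fun k => sec k z := by
      intro k k' e
      by_contra hne
      have := hsep k k' hne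
      have h1 := (hspec k).2
      have h2 := (hspec k').2
      rw [show sec k z = sec k' z from e] at h1
      linarith [dist_triangle_left (k.1 D.a) (k'.1 D.a) (sec k' z D.a)]
    refine ⟨hzq, hinj, hspec, fun ψ hψ => ?_⟩
    have hsub : (Finset.univ : Finset F).image (fun k => sec k z) ⊆ D.fib z := fun x hx => by
      obtain ⟨k, -, rfl⟩ := Finset.mem_image.1 hx
      exact (D.mem_fib hzq).2 (hspec k).1
    have heq := Finset.eq_of_subset_of_card_le hsub (by
      rw [Finset.card_image_of_injective _ hinj, Finset.card_univ, Fintype.card_coe, D.card_fib hz₀,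
        D.card_fib hzq])
    obtain ⟨k, -, hk⟩ := Finset.mem_image.1 (heq ▸ (D.mem_fib hzq).2 hψ)
    exact ⟨k, hk⟩
  have hsec0 : ∀ k, sec k z₀ = k.1 := by
    intro k
    obtain ⟨-, -, h3, -⟩ := hbase.self_of_nhds
    obtain ⟨h, hd⟩ := h3 k
    obtain ⟨k', hk'⟩ : ∃ k' : F, k'.1 = sec k z₀ := ⟨⟨_, (D.mem_fib hz₀).2 h⟩, rfl⟩
    by_contra hne
    have hne' : k' ≠ k := fun e => hne (by rw [← hk', e])
    have := hsep k' k hne'
    rw [hk'] at this
    linarith [dist_nonneg (x := sec k z₀ D.a) (y := k.1 D.a)]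
  have hconta : ∀ k, ContinuousAt (fun z => sec k z D.a) z₀ := by
    intro k
    rw [Metric.continuousAt_iff']
    intro ρ hρ
    filter_upwards [hnear k (min ρ δ) (lt_min hρ hδ), hbase] with z hψ hb
    obtain ⟨ψ, hψ, hψd⟩ := hψ
    rw [lt_min_iff] at hψd
    obtain ⟨-, -, hspec, hsurj⟩ := hb
    obtain ⟨k', rfl⟩ := hsurj ψ hψ
    have : k' = k := by
      by_contra hne
      linarith [hsep k' k hne, (hspec k').2, dist_triangle_left (k'.1 D.a) (k.1 D.a) (sec k' z D.a)]
    subst this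
    rw [hsec0]
    exact hψd.1
  have hformula : ∀ (b : A), ∃ R : Polynomial (MvPolynomial (Fin s) ℂ), ∀ k, ∀ᶠ z in 𝓝 z₀,
      sec k z b = (∑ l ∈ Finset.range (R.natDegree + 1), eval z (R.coeff l) * sec k z D.a ^ l) / eval z D.q := by
    intro b
    obtain ⟨R, hR⟩ := D.gen b
    refine ⟨R, fun k => ?_⟩
    filter_upwards [hbase] with z hb
    obtain ⟨hzq, -, hspec, -⟩ := hb
    have := congrArg (sec k z) hR
    rw [map_mul, (hspec k).1.apply] at this
    rw [eq_div_iff hzq, mul_comm, this]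
    change (sec k z).toRingHom _ = _
    rw [Polynomial.hom_eval₂, show (sec k z).toRingHom.comp g.toRingHom = eval z from
      RingHom.ext fun p => (hspec k).1.apply p, Polynomial.eval₂_eq_sum_range]
    rfl
  refine ⟨sec, hsec0, hbase.mono fun z h => ⟨h.1, h.2.1, fun k => (h.2.2.1 k).1, h.2.2.2⟩, fun k b => ?_, fun k b i => ?_⟩
  · obtain ⟨R, hR⟩ := hformula b
    refine ContinuousAt.congr ?_ (EventuallyEq.symm (hR k))
    exact (continuousAt_finsetSum' fun l _ =>
      (MvPolynomial.continuous_eval _).continuousAt.mul ((hconta k).pow l)).div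
      (MvPolynomial.continuous_eval _).continuousAt hz₀
  · have hupd : Tendsto (fun t => Function.update z₀ i t) (𝓝 (z₀ i)) (𝓝 z₀) := by
      have h : Continuous fun t : ℂ => Function.update z₀ i t := continuous_const.update i continuous_id
      simpa using h.tendsto (z₀ i)
    have hr : DifferentiableAt ℂ (fun t => sec k (Function.update z₀ i t) D.a) (z₀ i) := by
      set r := fun t => sec k (Function.update z₀ i t) D.a
      have hr0 : r (z₀ i) = k.1 D.a := by simp [r, hsec0]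
      have hrc : ContinuousAt r (z₀ i) := by
        change Tendsto ((fun z => sec k z D.a) ∘ fun t => Function.update z₀ i t) _ _
        refine Tendsto.comp ?_ hupd
        simpa [r, hsec0] using (hconta k).tendsto
      let co : ℕ → ℂ → ℂ := fun l t => eval (Function.update z₀ i t) (D.m.coeff l)
      refine differentiableAt_of_mul_eq (t₀ := z₀ i)
        (B := fun t => ∑ l ∈ Finset.range (D.m.natDegree + 1),
          co l t * ∑ e ∈ Finset.range l, r t ^ e * k.1 D.a ^ (l - 1 - e))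
        (φ := fun t => -∑ l ∈ Finset.range (D.m.natDegree + 1), co l t * k.1 D.a ^ l) ?_ ?_ ?_ ?_
      · exact continuousAt_finsetSum' fun l _ => (differentiable_eval_update _ _ _).continuous.continuousAt.mul
          (continuousAt_finsetSum' fun e _ => (hrc.pow e).mul continuousAt_const)
      · have hd : (Polynomial.derivative (D.mz z₀)).eval (k.1 D.a) ≠ 0 := by
          have hroot : Polynomial.aeval (k.1 D.a) (D.mz z₀) = 0 := D.isRoot (hover k)
          simpa using (D.separable hz₀).aeval_derivative_ne_zero hroot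
        refine fun h => hd ?_
        rw [← h, Polynomial.derivative_apply, Polynomial.sum_over_range' _ (by simp) (D.m.natDegree + 1)
          (by rw [mz, D.monic.natDegree_map]; exact Nat.lt_succ_self _), Polynomial.eval_finsetSum]
        refine Finset.sum_congr rfl fun l _ => ?_
        simp only [co, Function.update_eq_self, mz, Polynomial.coeff_map, Polynomial.eval_mul,
          Polynomial.eval_C, Polynomial.eval_pow, Polynomial.eval_X, hr0]
        rw [geom_sum₂_self]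
        ring
      · exact (DifferentiableAt.fun_sum fun l _ =>
          ((differentiable_eval_update _ _ _).differentiableAt.mul_const _)).neg
      · filter_upwards [hupd.eventually hbase] with t hb
        have h1 := D.isRoot (hb.2.2.1 k).1
        rw [Polynomial.IsRoot, mz, Polynomial.eval_map, Polynomial.eval₂_eq_sum_range] at h1
        have h2 := D.isRoot (hover k)
        rw [Polynomial.IsRoot, mz, Polynomial.eval_map, Polynomial.eval₂_eq_sum_range] at h2
        simp only [co, hr0, Function.update_eq_self]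
        change (r t - _) * _ = _
        rw [h2, neg_zero, sub_zero, Finset.mul_sum]
        have : ∀ l, (r t - k.1 D.a) * (eval (Function.update z₀ i t) (D.m.coeff l) *
            ∑ e ∈ Finset.range l, r t ^ e * k.1 D.a ^ (l - 1 - e)) =
            eval (Function.update z₀ i t) (D.m.coeff l) * r t ^ l -
            eval (Function.update z₀ i t) (D.m.coeff l) * k.1 D.a ^ l := fun l => by
          rw [← mul_sub, ← geom_sum₂_mul]; ring
        simp only [this, Finset.sum_sub_distrib]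
        change (∑ l ∈ _, eval (Function.update z₀ i t) (D.m.coeff l) * r t ^ l) - _ = _
        rw [show (∑ l ∈ Finset.range (D.m.natDegree + 1), eval (Function.update z₀ i t) (D.m.coeff l) * r t ^ l) = 0
          from h1, zero_sub]
    obtain ⟨R, hR⟩ := hformula b
    refine DifferentiableAt.congr_of_eventuallyEq ?_ (hupd.eventually (hR k))
    exact (DifferentiableAt.fun_sum fun l _ =>
      (differentiable_eval_update _ _ _).differentiableAt.mul (hr.pow l)).div
      (differentiable_eval_update _ _ _).differentiableAt (by simpa using hz₀)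

/-- symmetric functions of `v` over the part of the fibre in `M` -/
def sym (M : Set (A →ₐ[ℂ] ℂ)) (v : (A →ₐ[ℂ] ℂ) → ℂ) (j : ℕ) (z : Fin s → ℂ) : ℂ :=
  open scoped Classical in (((D.fib z).filter (· ∈ M)).val.map v).esymm j

theorem exists_entire_sym [IsDomain A] {M : Set (A →ₐ[ℂ] ℂ)} {W₁ W₂ : Set (A → ℂ)}
    (hW₁ : IsOpen W₁) (hW₂ : IsOpen W₂)
    (hM : ∀ ψ : A →ₐ[ℂ] ℂ, ψ ∈ M → ⇑ψ ∈ W₁) (hM' : ∀ ψ : A →ₐ[ℂ] ℂ, ψ ∉ M → ⇑ψ ∈ W₂)
    (hdis : ∀ ψ : A →ₐ[ℂ] ℂ, ⇑ψ ∈ W₁ → ⇑ψ ∈ W₂ → False)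
    {v : (A →ₐ[ℂ] ℂ) → ℂ}
    (hvc : ∀ (τ : (Fin s → ℂ) → (A →ₐ[ℂ] ℂ)) z, (∀ b, ContinuousAt (fun w => τ w b) z) → ContinuousAt (v ∘ τ) z)
    (hvd : ∀ (τ : ℂ → (A →ₐ[ℂ] ℂ)) t, (∀ b, DifferentiableAt ℂ (fun w => τ w b) t) → DifferentiableAt ℂ (v ∘ τ) t)
    {β : ℝ → ℝ} (hβc : Continuous β) (hβm : Monotone β)
    (hβ : ∀ z ψ, IsOverPt g z ψ → ‖v ψ‖ ≤ β ‖z‖) (j : ℕ) :
    ContinuousOn (D.sym M v j) {z | eval z D.q ≠ 0} ∧
      ∀ z i, ∃ G : ℂ → ℂ, (∀ t, eval (Function.update z i t) D.q ≠ 0 → D.sym M v j (Function.update z i t) = G t) ∧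
        Differentiable ℂ G ∧ ∀ t, ‖G t‖ ≤ 2 ^ D.m.natDegree * |β (‖z‖ + ‖t‖)| ^ j := by
  classical
  have hloc : ∀ z₀, eval z₀ D.q ≠ 0 → ∃ (J : Finset {x // x ∈ D.fib z₀}) (sec : {x // x ∈ D.fib z₀} → (Fin s → ℂ) → (A →ₐ[ℂ] ℂ)),
      (∀ k b, ContinuousAt (fun z => sec k z b) z₀) ∧
      (∀ k b i, DifferentiableAt ℂ (fun t => sec k (Function.update z₀ i t) b) (z₀ i)) ∧
      ∀ᶠ z in 𝓝 z₀, D.sym M v j z = (J.val.map fun k => v (sec k z)).esymm j := by
    intro z₀ hz₀
    obtain ⟨sec, h0, hev, hc, hd⟩ := D.local_sections hz₀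
    refine ⟨Finset.univ.filter fun k => k.1 ∈ M, sec, hc, hd, ?_⟩
    have hside : ∀ k, ∀ᶠ z in 𝓝 z₀, (sec k z ∈ M ↔ k.1 ∈ M) := by
      intro k
      have hcp : Tendsto (fun z => ⇑(sec k z)) (𝓝 z₀) (𝓝 ⇑k.1) := by
        rw [← h0 k]
        exact tendsto_pi_nhds.2 fun b => (hc k b).tendsto
      by_cases hk : k.1 ∈ M
      · filter_upwards [hcp.eventually (hW₁.mem_nhds (hM _ hk))] with z hz
        exact iff_of_true (by_contra fun h => hdis _ hz (hM' _ h)) hk
      · filter_upwards [hcp.eventually (hW₂.mem_nhds (hM' _ hk))] with z hz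
        exact iff_of_false (fun h => hdis _ (hM _ h) hz) hk
    filter_upwards [hev, eventually_all.2 hside] with z hz hs
    obtain ⟨hzq, hinj, hov, hsurj⟩ := hz
    unfold sym
    have : (D.fib z).filter (· ∈ M) = (Finset.univ.filter fun k => k.1 ∈ M).image (fun k => sec k z) := by
      ext ψ
      simp only [Finset.mem_filter, Finset.mem_image, Finset.mem_univ, true_and, D.mem_fib hzq]
      constructor
      · rintro ⟨h1, h2⟩
        obtain ⟨k, rfl⟩ := hsurj ψ h1
        exact ⟨k, (hs k).1 h2, rfl⟩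
      · rintro ⟨k, hk, rfl⟩
        exact ⟨hov k, (hs k).2 hk⟩
    rw [this, Finset.image_val_of_injOn hinj.injOn, Multiset.map_map]
    rfl
  refine ⟨fun z₀ hz₀ => ?_, fun z i => ?_⟩
  · obtain ⟨J, sec, hc, -, hev⟩ := hloc z₀ hz₀
    refine (ContinuousAt.congr ?_ (EventuallyEq.symm hev)).continuousWithinAt
    simp only [Finset.esymm_map_val]
    exact continuousAt_finsetSum' fun t _ => continuousAt_finsetProd' t fun k _ => hvc _ _ (hc k)
  by_cases hz : ∃ t, eval (Function.update z i t) D.q ≠ 0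
  swap
  · push Not at hz
    exact ⟨0, fun t ht => absurd (hz t) ht, differentiable_const 0, fun t => by simp⟩
  obtain ⟨t₁, ht₁⟩ := hz
  let h : Polynomial ℂ := MvPolynomial.aeval (Function.update (fun l => Polynomial.C (z l)) i Polynomial.X) D.q
  have hh : ∀ c, h.eval c = eval (Function.update z i c) D.q := fun c => by
    have : (Polynomial.aeval c).comp (MvPolynomial.aeval (Function.update (fun l => Polynomial.C (z l)) i Polynomial.X)) =
        MvPolynomial.aeval (R := ℂ) (Function.update z i c) := by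
      ext l
      by_cases hl : l = i
      · subst hl; simp
      · simp [Function.update_of_ne hl]
    simpa [h] using AlgHom.congr_fun this D.q
  have hfin : {t | eval (Function.update z i t) D.q = 0}.Finite := by
    simp only [← hh]
    exact Polynomial.finite_setOfPred_isRoot fun h0 => ht₁ (by rw [← hh, h0, Polynomial.eval_zero])
  obtain ⟨G, hG, hGe, hGb⟩ := exists_entire_extension hfin
    (f := fun t => D.sym M v j (Function.update z i t))
    (B := fun t => 2 ^ D.m.natDegree * |β (‖z‖ + ‖t‖)| ^ j)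
    (fun t₀ ht₀ => by
      obtain ⟨J, sec, -, hd, hev⟩ := hloc _ ht₀
      have hupd : Tendsto (fun t => Function.update z i t) (𝓝 t₀) (𝓝 (Function.update z i t₀)) :=
        (continuous_const.update i continuous_id : Continuous fun t : ℂ => Function.update z i t).tendsto t₀
      refine DifferentiableAt.congr_of_eventuallyEq ?_ (hupd.eventually hev)
      simp only [Finset.esymm_map_val]
      refine DifferentiableAt.fun_sum fun T _ => DifferentiableAt.fun_finsetProd fun k _ => ?_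
      refine hvd _ t₀ fun b => ?_
      simpa using hd k b i)
    (by fun_prop)
    (fun t ht => by
      refine (norm_esymm_le _ _ j (B := |β (‖z‖ + ‖t‖)|) (abs_nonneg _) fun ψ hψ => ?_).trans ?_
      · rw [Finset.mem_filter, D.mem_fib ht] at hψ
        refine (hβ _ _ hψ.1).trans ((hβm ?_).trans (le_abs_self _))
        refine (pi_norm_le_iff_of_nonneg (by positivity)).2 fun l => ?_
        by_cases hl : l = i
        · subst hl; rw [Function.update_self]; linarith [norm_nonneg z]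
        · rw [Function.update_of_ne hl]; linarith [norm_le_pi_norm z l, norm_nonneg t]
      · refine mul_le_mul_of_nonneg_right (pow_le_pow_right₀ one_le_two ?_) (by positivity)
        rw [← D.card_fib ht]
        exact Finset.card_filter_le _ _)
  exact ⟨G, fun t ht => (hGe t ht).symm, hG, hGb⟩

theorem exists_poly_sym [IsDomain A] {M : Set (A →ₐ[ℂ] ℂ)} {W₁ W₂ : Set (A → ℂ)}
    (hW₁ : IsOpen W₁) (hW₂ : IsOpen W₂)
    (hM : ∀ ψ : A →ₐ[ℂ] ℂ, ψ ∈ M → ⇑ψ ∈ W₁) (hM' : ∀ ψ : A →ₐ[ℂ] ℂ, ψ ∉ M → ⇑ψ ∈ W₂)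
    (hdis : ∀ ψ : A →ₐ[ℂ] ℂ, ⇑ψ ∈ W₁ → ⇑ψ ∈ W₂ → False)
    {v : (A →ₐ[ℂ] ℂ) → ℂ}
    (hvc : ∀ (τ : (Fin s → ℂ) → (A →ₐ[ℂ] ℂ)) z, (∀ b, ContinuousAt (fun w => τ w b) z) → ContinuousAt (v ∘ τ) z)
    (hvd : ∀ (τ : ℂ → (A →ₐ[ℂ] ℂ)) t, (∀ b, DifferentiableAt ℂ (fun w => τ w b) t) → DifferentiableAt ℂ (v ∘ τ) t)
    {C : ℝ} {N : ℕ} (hC : 0 ≤ C) (hβ : ∀ z ψ, IsOverPt g z ψ → ‖v ψ‖ ≤ C * (1 + ‖z‖) ^ N) (j : ℕ) :
    ∃ P : MvPolynomial (Fin s) ℂ, ∀ z, eval z D.q ≠ 0 → D.sym M v j z = eval z P := by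
  obtain ⟨hcont, hline⟩ := D.exists_entire_sym hW₁ hW₂ hM hM' hdis hvc hvd
    (β := fun r => C * (1 + max r 0) ^ N) (by fun_prop)
    (fun r r' h => mul_le_mul_of_nonneg_left (pow_le_pow_left₀ (by positivity) (by gcongr) _) hC)
    (fun z ψ h => by simpa [max_eq_left (norm_nonneg z)] using hβ z ψ h) j
  obtain ⟨P, -, hP⟩ := exists_mvPolynomial_of_axes s D.q_ne (N * j) hcont fun z i => by
    obtain ⟨G, hGe, hG, hGb⟩ := hline z i
    obtain ⟨p, hp, hpe⟩ := exists_polynomial_of_growth (N * j) hG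
      (C := 2 ^ D.m.natDegree * (C * (1 + ‖z‖) ^ N) ^ j) (fun t => (hGb t).trans (by
        rw [mul_assoc, pow_mul, ← mul_pow]
        refine mul_le_mul_of_nonneg_left (pow_le_pow_left₀ (abs_nonneg _) ?_ j) (by positivity)
        rw [max_eq_left (by positivity), abs_of_nonneg (by positivity), mul_assoc, ← mul_pow]
        refine mul_le_mul_of_nonneg_left (pow_le_pow_left₀ (by positivity) ?_ _) hC
        nlinarith [norm_nonneg z, norm_nonneg t]))
    exact ⟨p, hp, fun t ht => (hGe t ht).trans (hpe t)⟩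
  exact ⟨P, hP⟩

end Pres

theorem mem_or_mem_of_domain [IsDomain A] [Algebra.FiniteType ℂ A] {W₁ W₂ : Set (A → ℂ)}
    (hW₁ : IsOpen W₁) (hW₂ : IsOpen W₂) (hcov : ∀ ψ : A →ₐ[ℂ] ℂ, ⇑ψ ∈ W₁ ∨ ⇑ψ ∈ W₂)
    (hdis : ∀ ψ : A →ₐ[ℂ] ℂ, ⇑ψ ∈ W₁ → ⇑ψ ∈ W₂ → False) :
    (∀ ψ : A →ₐ[ℂ] ℂ, ⇑ψ ∈ W₁) ∨ ∀ ψ : A →ₐ[ℂ] ℂ, ⇑ψ ∈ W₂ := by
  classical
  by_contra hne
  push Not at hne
  obtain ⟨⟨φ₂, hφ₂⟩, φ₁, hφ₁⟩ := hne
  have hφ₂' := (hcov φ₂).resolve_left hφ₂
  have hφ₁' := (hcov φ₁).resolve_right hφ₁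
  obtain ⟨s, g, hinj, hfin⟩ := exists_finite_inj_algHom_of_fg ℂ A
  obtain ⟨D⟩ := exists_pres hinj hfin
  set M := {ψ : A →ₐ[ℂ] ℂ | ⇑ψ ∈ W₁}
  set d := D.m.natDegree
  have hM' : ∀ ψ : A →ₐ[ℂ] ℂ, ψ ∉ M → ⇑ψ ∈ W₂ := fun ψ h => (hcov ψ).resolve_left h
  obtain ⟨Ca, Na, hCa, hba⟩ := exists_growth_over hfin D.a
  have hP : ∀ j, ∃ P : MvPolynomial (Fin s) ℂ, ∀ z, eval z D.q ≠ 0 → D.sym M (fun ψ => ψ D.a) j z = eval z P :=
    fun j => D.exists_poly_sym hW₁ hW₂ (fun _ h => h) hM' hdis (v := fun ψ => ψ D.a) (fun τ z h => h D.a) (fun τ t h => h D.a)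
      (zero_le_one.trans hCa) hba j
  choose P hP using hP
  obtain ⟨Pc, hPc⟩ := D.exists_poly_sym hW₁ hW₂ (fun _ h => h) hM' hdis (v := fun _ => 1)
    (fun τ z h => continuousAt_const) (fun τ t h => differentiableAt_const 1) zero_le_one
    (N := 0) (fun z ψ _ => by simp) 1
  have hcard : ∀ z, eval z D.q ≠ 0 → eval z Pc = (((D.fib z).filter (· ∈ M)).card : ℂ) := fun z hz => by
    rw [← hPc z hz]
    change ((((D.fib z).filter (· ∈ M)).val.map fun _ => (1 : ℂ))).esymm 1 = _
    rw [Finset.esymm_map_val, Finset.powersetCard_one]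
    simp
  -- the number of points in the first part is constant
  obtain ⟨z₁, -, hz₁⟩ := exists_eval_ne_zero_of_isOpen D.q_ne isOpen_univ ⟨0, trivial⟩
  set k := ((D.fib z₁).filter (· ∈ M)).card with hk
  have hzero : ∏ i ∈ Finset.range (d + 1), (Pc - MvPolynomial.C (i : ℂ)) = 0 := by
    have : D.q * ∏ i ∈ Finset.range (d + 1), (Pc - MvPolynomial.C (i : ℂ)) = 0 := by
      refine MvPolynomial.funext fun z => ?_
      rw [map_zero, map_mul]
      by_cases hz : eval z D.q = 0
      · rw [hz, zero_mul]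
      · rw [map_prod, mul_eq_zero]
        refine Or.inr (Finset.prod_eq_zero (i := ((D.fib z).filter (· ∈ M)).card) ?_ ?_)
        · rw [Finset.mem_range, Nat.lt_succ_iff, show d = (D.fib z).card from (D.card_fib hz).symm]
          exact Finset.card_filter_le _ _
        · rw [map_sub, hcard z hz, MvPolynomial.eval_C, sub_self]
    exact (mul_eq_zero.1 this).resolve_left D.q_ne
  have hconst : ∀ z, eval z D.q ≠ 0 → ((D.fib z).filter (· ∈ M)).card = k := by
    obtain ⟨i, -, hi⟩ := Finset.prod_eq_zero_iff.1 hzero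
    rw [sub_eq_zero] at hi
    intro z hz
    have h1 := hcard z hz
    have h2 := hcard z₁ hz₁
    rw [hi, MvPolynomial.eval_C] at h1 h2
    exact_mod_cast h1.symm.trans h2
  have hgq : g D.q ≠ 0 := (map_ne_zero_iff _ hinj).2 D.q_ne
  have hk0 : 0 < k := by
    obtain ⟨ψ, hψ, hψq⟩ := exists_point_near_of_domain hgq φ₁ hW₁ hφ₁'
    set z := fun i => ψ (g (MvPolynomial.X i))
    have hov : IsOverPt g z ψ := fun i => rfl
    rw [hov.apply] at hψq
    rw [← hconst z hψq]
    exact Finset.card_pos.2 ⟨ψ, Finset.mem_filter.2 ⟨(D.mem_fib hψq).2 hov, hψ⟩⟩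
  have hkd : k < d := by
    obtain ⟨ψ, hψ, hψq⟩ := exists_point_near_of_domain hgq φ₂ hW₂ hφ₂'
    set z := fun i => ψ (g (MvPolynomial.X i))
    have hov : IsOverPt g z ψ := fun i => rfl
    rw [hov.apply] at hψq
    rw [← hconst z hψq, show d = (D.fib z).card from (D.card_fib hψq).symm]
    exact Finset.card_lt_card (Finset.filter_ssubset.2 ⟨ψ, (D.mem_fib hψq).2 hov, fun h => hdis ψ h hψ⟩)
  -- the factor
  let m₁ : Polynomial (MvPolynomial (Fin s) ℂ) :=
    ∑ l ∈ Finset.range (k + 1), Polynomial.C (if l = k then 1 else (-1) ^ (k - l) * P (k - l)) * Polynomial.X ^ l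
  have hcoeff : ∀ l, m₁.coeff l = if l ∈ Finset.range (k + 1) then
      (if l = k then 1 else (-1) ^ (k - l) * P (k - l)) else 0 := fun l => by
    simp [m₁, Polynomial.finsetSum_coeff]
  have hdeg : m₁.natDegree ≤ k := Polynomial.natDegree_le_iff_coeff_eq_zero.2 fun l hl => by
    rw [hcoeff, if_neg]; simp; omega
  have hck : m₁.coeff k = 1 := by rw [hcoeff]; simp
  have hmon : m₁.Monic := Polynomial.monic_of_natDegree_le_of_coeff_eq_one k hdeg hck
  have hdeg' : m₁.natDegree = k :=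
    le_antisymm hdeg (Polynomial.le_natDegree_of_ne_zero (by rw [hck]; exact one_ne_zero))
  have hmap : ∀ z, eval z D.q ≠ 0 → m₁.map (eval z) ∣ D.mz z := by
    intro z hz
    have hroots := D.roots_eq hz
    set S := ((D.fib z).filter (· ∈ M)).val.map (fun ψ => ψ D.a)
    have hScard : Multiset.card S = k := by rw [Multiset.card_map]; exact hconst z hz
    have : m₁.map (eval z) = (S.map fun t => Polynomial.X - Polynomial.C t).prod := by
      ext l
      rw [Polynomial.coeff_map, hcoeff]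
      by_cases hl : l ≤ k
      · rw [if_pos (Finset.mem_range.2 (Nat.lt_succ_of_le hl)), Multiset.prod_X_sub_C_coeff S (hScard ▸ hl), hScard]
        split_ifs with h
        · subst h; simp [Multiset.esymm]
        · rw [map_mul, map_pow, map_neg, map_one, ← hP _ z hz]
          rfl
      · rw [if_neg (by simp; omega), map_zero, Polynomial.coeff_eq_zero_of_natDegree_lt]
        rw [Polynomial.natDegree_multiset_prod_X_sub_C_eq_card, hScard]
        omega
    rw [this, (IsAlgClosed.splits (D.mz z)).eq_prod_roots_of_monic (D.monic_mz z), hroots]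
    exact Multiset.prod_dvd_prod_of_le (Multiset.map_le_map (Multiset.map_le_map
      (Finset.val_le_iff.2 (Finset.filter_subset _ _))))
  have hdvd : m₁ ∣ D.m := by
    rw [← Polynomial.modByMonic_eq_zero_iff_dvd hmon]
    ext l : 1
    rw [Polynomial.coeff_zero]
    have : D.q * (D.m %ₘ m₁).coeff l = 0 := by
      refine MvPolynomial.funext fun z => ?_
      rw [map_zero, map_mul]
      by_cases hz : eval z D.q = 0
      · rw [hz, zero_mul]
      · rw [← Polynomial.coeff_map, Polynomial.map_modByMonic _ hmon,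
          (Polynomial.modByMonic_eq_zero_iff_dvd (hmon.map _)).2 (show m₁.map (eval z) ∣ D.m.map (eval z) from hmap z hz), Polynomial.coeff_zero, mul_zero]
    exact (mul_eq_zero.1 this).resolve_left D.q_ne
  obtain ⟨w, hw⟩ := hdvd
  rcases D.irr.isUnit_or_isUnit hw with hu | hu
  · have := Polynomial.natDegree_eq_zero_of_isUnit hu
    omega
  · have := Polynomial.natDegree_eq_zero_of_isUnit hu
    have hmd := congrArg Polynomial.natDegree hw
    rw [Polynomial.natDegree_mul hmon.ne_zero hu.ne_zero, this, add_zero, hdeg'] at hmd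
    exact absurd hmd (by change d ≠ k; omega)

theorem const_of_continuous_log [IsDomain A] [Algebra.FiniteType ℂ A] (u : A)
    (L : (A →ₐ[ℂ] ℂ) → ℂ) (hL : ∀ ψ, Complex.exp (L ψ) = ψ u)
    (hLc : ∀ {T : Type} [TopologicalSpace T] (τ : T → (A →ₐ[ℂ] ℂ)) (z : T),
      (∀ b, ContinuousAt (fun w => τ w b) z) → ContinuousAt (L ∘ τ) z) :
    ∀ φ φ' : A →ₐ[ℂ] ℂ, φ u = φ' u := by
  classical
  obtain ⟨s, g, hinj, hfin⟩ := exists_finite_inj_algHom_of_fg ℂ A
  obtain ⟨D⟩ := exists_pres hinj hfin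
  set d := D.m.natDegree
  obtain ⟨C, N, hC, hb⟩ := exists_growth_over hfin u
  set n := 2 * (d + 1) * (N + 1) with hn
  have hn0 : n ≠ 0 := by positivity
  let v : (A →ₐ[ℂ] ℂ) → ℂ := fun ψ => Complex.exp (L ψ / n)
  have hvn : ∀ ψ, v ψ ^ n = ψ u := fun ψ => by
    rw [← Complex.exp_nat_mul, mul_div_cancel₀ _ (Nat.cast_ne_zero.2 hn0), hL]
  have hvc : ∀ {T : Type} [TopologicalSpace T] (τ : T → (A →ₐ[ℂ] ℂ)) (z : T),
      (∀ b, ContinuousAt (fun w => τ w b) z) → ContinuousAt (v ∘ τ) z := fun τ z h =>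
    ((hLc τ z h).div_const _).cexp
  have hvd : ∀ (τ : ℂ → (A →ₐ[ℂ] ℂ)) t, (∀ b, DifferentiableAt ℂ (fun w => τ w b) t) →
      DifferentiableAt ℂ (v ∘ τ) t := by
    intro τ t h
    have hc := hvc τ t fun b => (h b).continuousAt
    refine differentiableAt_of_mul_eq
      (B := fun w => ∑ e ∈ Finset.range n, v (τ w) ^ e * v (τ t) ^ (n - 1 - e))
      (φ := fun w => τ w u) ?_ ?_ (h u) ?_
    · exact continuousAt_finsetSum' fun e _ => (hc.pow e).mul continuousAt_const
    · rw [geom_sum₂_self]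
      exact mul_ne_zero (Nat.cast_ne_zero.2 hn0) (pow_ne_zero _ (Complex.exp_ne_zero _))
    · filter_upwards with w
      rw [mul_comm]
      change _ * (v (τ w) - v (τ t)) = _
      rw [geom_sum₂_mul, hvn, hvn]
  have hbound : ∀ z ψ, IsOverPt g z ψ → ‖v ψ‖ ^ (2 * (d + 1)) ≤ C * (1 + ‖z‖) := by
    intro z ψ hψ
    have h1 : ‖v ψ‖ ^ n ≤ C * (1 + ‖z‖) ^ N := by rw [← norm_pow, hvn]; exact hb z ψ hψ
    have hb1 : 1 ≤ 1 + ‖z‖ := by linarith [norm_nonneg z]
    refine le_of_pow_le_pow_left₀ (Nat.succ_ne_zero N) (by positivity) ?_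
    rw [← pow_mul]
    refine h1.trans ?_
    rw [mul_pow]
    exact mul_le_mul (le_self_pow₀ hC (Nat.succ_ne_zero N)) (pow_le_pow_right₀ hb1 (Nat.le_succ N))
      (by positivity) (by positivity)
  let B : ℝ → ℝ := fun r => (C * (1 + max r 0)) ^ ((1 : ℝ) / (2 * (d + 1) : ℕ))
  have hC0 : 0 ≤ C := zero_le_one.trans hC
  have hconst : ∀ j ≤ d, ∃ c, ∀ z, eval z D.q ≠ 0 → D.sym Set.univ v j z = c := by
    intro j hj
    obtain ⟨hcont, hline⟩ := D.exists_entire_sym (M := Set.univ) (v := v) (W₁ := Set.univ) (W₂ := ∅) isOpen_univ isOpen_empty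
      (fun _ _ => trivial) (fun ψ h => absurd trivial h) (fun _ _ h => h) (fun τ z h => hvc τ z h) hvd
      (β := B) (Real.continuous_rpow_const (by positivity) |>.comp (by fun_prop))
      (fun r r' h => Real.rpow_le_rpow (by positivity)
        (mul_le_mul_of_nonneg_left (by gcongr) hC0) (by positivity))
      (fun z ψ h => by
        simp only [B, max_eq_left (norm_nonneg z), one_div]
        rw [Real.le_rpow_inv_iff_of_pos (norm_nonneg _) (by positivity) (by positivity), Real.rpow_natCast]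
        exact hbound z ψ h) j
    obtain ⟨P, hPc, hP⟩ := exists_mvPolynomial_of_axes s D.q_ne 0 hcont fun z i => by
      obtain ⟨G, hGe, hG, hGb⟩ := hline z i
      have hsq : ∀ t, ‖G t‖ ^ 2 ≤ (2 ^ d) ^ 2 * (C * (1 + ‖z‖)) * (1 + ‖t‖) := by
        intro t
        have hr : (0 : ℝ) ≤ ‖z‖ + ‖t‖ := by positivity
        have hB1 : 1 ≤ C * (1 + (‖z‖ + ‖t‖)) := by nlinarith
        have := pow_le_pow_left₀ (norm_nonneg _) (hGb t) 2
        refine this.trans ?_
        rw [mul_pow, mul_assoc _ (C * (1 + ‖z‖))]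
        refine mul_le_mul_of_nonneg_left ?_ (by positivity)
        simp only [B, max_eq_left hr]
        rw [abs_of_nonneg (by positivity), ← pow_mul, ← Real.rpow_natCast, ← Real.rpow_mul (by positivity)]
        refine (Real.rpow_le_self_of_one_le hB1 ?_).trans ?_
        · rw [div_mul_eq_mul_div, one_mul, div_le_one (by positivity)]
          exact_mod_cast (by omega : j * 2 ≤ 2 * (d + 1))
        · rw [mul_assoc]
          refine mul_le_mul_of_nonneg_left ?_ hC0
          nlinarith [norm_nonneg z, norm_nonneg t]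
      obtain ⟨p, hp, hpe⟩ := exists_polynomial_of_growth 1 hG
        (C := 1 + (2 ^ d) ^ 2 * (C * (1 + ‖z‖))) (fun t => by
          have := hsq t
          have h0 : 0 ≤ (2 ^ d : ℝ) ^ 2 * (C * (1 + ‖z‖)) := by positivity
          nlinarith [norm_nonneg t, norm_nonneg (G t), sq_nonneg (‖G t‖ - 1)])
      refine ⟨p, ?_, fun t ht => (hGe t ht).trans (hpe t)⟩
      by_contra hne
      have h1 : p.natDegree = 1 := by omega
      have hc1 : p.coeff 1 ≠ 0 := by
        rw [← h1]
        exact Polynomial.leadingCoeff_ne_zero.2 fun h => by simp [h] at h1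
      have hlin : ∀ t, p.eval t = p.coeff 1 * t + p.coeff 0 := fun t => by
        rw [Polynomial.eval_eq_sum_range, h1, Finset.sum_range_succ, Finset.sum_range_one]; simp; ring
      set K := (2 ^ d : ℝ) ^ 2 * (C * (1 + ‖z‖))
      have hK : 0 ≤ K := by positivity
      -- evaluate at a point where the linear term dominates
      set R := 1 + 4 * K with hR
      have hR0 : 0 < R := by positivity
      have key := hsq ((R - p.coeff 0) / p.coeff 1)
      rw [hpe, hlin, mul_div_cancel₀ _ hc1, sub_add_cancel, Complex.norm_real, Real.norm_of_nonneg hR0.le] at key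
      have key' : R ^ 2 ≤ K * (1 + (R + ‖p.coeff 0‖) / ‖p.coeff 1‖) := by
        refine key.trans (mul_le_mul_of_nonneg_left ?_ hK)
        rw [norm_div]
        gcongr
        refine (norm_sub_le _ _).trans ?_
        rw [Complex.norm_real, Real.norm_of_nonneg hR0.le]
      have : ∀ R : ℝ, 0 < R → R ^ 2 ≤ K * (1 + (R + ‖p.coeff 0‖) / ‖p.coeff 1‖) := by
        intro R hR0
        have key := hsq ((R - p.coeff 0) / p.coeff 1)
        rw [hpe, hlin, mul_div_cancel₀ _ hc1, sub_add_cancel, Complex.norm_real, Real.norm_of_nonneg hR0.le] at key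
        refine key.trans (mul_le_mul_of_nonneg_left ?_ hK)
        rw [norm_div]
        gcongr
        refine (norm_sub_le _ _).trans ?_
        rw [Complex.norm_real, Real.norm_of_nonneg hR0.le]
      set a := K / ‖p.coeff 1‖
      set b := K * (1 + ‖p.coeff 0‖ / ‖p.coeff 1‖)
      have ha : 0 ≤ a := by positivity
      have hb : 0 ≤ b := by positivity
      have h2 := this (a + b + 1) (by positivity)
      have h3 : K * (1 + (a + b + 1 + ‖p.coeff 0‖) / ‖p.coeff 1‖) = b + a * (a + b + 1) := by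
        simp only [a, b]; ring
      rw [h3] at h2
      nlinarith
    obtain ⟨c, rfl⟩ := hPc rfl
    exact ⟨c, fun z hz => (hP z hz).trans (MvPolynomial.eval_C _)⟩
  choose! c hc using hconst
  let h : Polynomial ℂ := ∑ l ∈ Finset.range (d + 1), Polynomial.C ((-1) ^ (d - l) * c (d - l)) * Polynomial.X ^ l
  obtain ⟨z₁, -, hz₁⟩ := exists_eval_ne_zero_of_isOpen D.q_ne isOpen_univ ⟨0, trivial⟩
  have hh : ∀ z, eval z D.q ≠ 0 → h = (((D.fib z).val.map v).map fun t => Polynomial.X - Polynomial.C t).prod := by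
    intro z hz
    have hcd : Multiset.card ((D.fib z).val.map v) = d := by rw [Multiset.card_map]; exact D.card_fib hz
    ext l
    by_cases hl : l ≤ d
    · rw [Multiset.prod_X_sub_C_coeff _ (hcd ▸ hl), hcd]
      simp only [h, Polynomial.finsetSum_coeff, Polynomial.coeff_C_mul_X_pow, Finset.sum_ite_eq,
        Finset.mem_range, Nat.lt_succ_iff, hl, if_true]
      rw [← hc (d - l) (Nat.sub_le _ _) z hz, Pres.sym]
      simp only [Set.mem_univ, Finset.filter_true]
    · simp only [h, Polynomial.finsetSum_coeff, Polynomial.coeff_C_mul_X_pow, Finset.sum_ite_eq,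
        Finset.mem_range, Nat.lt_succ_iff, hl, if_false]
      rw [Polynomial.coeff_eq_zero_of_natDegree_lt]
      rw [Polynomial.natDegree_multiset_prod_X_sub_C_eq_card, hcd]
      omega
  have hh0 : h ≠ 0 := by
    rw [hh z₁ hz₁]
    exact (Polynomial.monic_multiset_prod_of_monic _ _ fun t _ => Polynomial.monic_X_sub_C t).ne_zero
  let T : Finset ℂ := h.roots.toFinset.image fun r => r ^ n
  have hgq : g D.q ≠ 0 := (map_ne_zero_iff _ hinj).2 D.q_ne
  have hgood : ∀ ψ : A →ₐ[ℂ] ℂ, ψ (g D.q) ≠ 0 → ψ u ∈ T := by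
    intro ψ hψq
    set z := fun i => ψ (g (MvPolynomial.X i))
    have hov : IsOverPt g z ψ := fun i => rfl
    rw [hov.apply] at hψq
    refine Finset.mem_image.2 ⟨v ψ, ?_, hvn ψ⟩
    rw [Multiset.mem_toFinset, hh z hψq, Polynomial.roots_multiset_prod_X_sub_C]
    exact Multiset.mem_map_of_mem v ((D.mem_fib hψq).2 hov)
  have hall : ∀ ψ : A →ₐ[ℂ] ℂ, ψ u ∈ T := by
    intro ψ
    by_contra hψ
    obtain ⟨ψ', h1, h2⟩ := exists_point_near_of_domain hgq ψ (W := {f | f u ∉ T})
      (T.finite_toSet.isClosed.isOpen_compl.preimage (continuous_apply (A := fun _ : A => ℂ) u)) hψ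
    exact h1 (hgood ψ' h2)
  intro φ φ'
  rcases mem_or_mem_of_domain (W₁ := {f | f u ∉ T.erase (φ u)}) (W₂ := {f | f u ≠ φ u})
    ((T.erase (φ u)).finite_toSet.isClosed.isOpen_compl.preimage (continuous_apply (A := fun _ : A => ℂ) u))
    (isOpen_ne_fun (continuous_apply u) continuous_const)
    (fun ψ => by
      by_cases e : ψ u = φ u
      · exact Or.inl fun h => (Finset.mem_erase.1 h).1 e
      · exact Or.inr e)
    (fun ψ h h' => h (Finset.mem_erase.2 ⟨h', hall ψ⟩)) with hcase | hcase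
  · by_contra hne
    exact hcase φ' (Finset.mem_erase.2 ⟨Ne.symm hne, hall φ'⟩)
  · exact absurd rfl (hcase φ)

end Groth.Agent.AnPtsTop
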