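import Groth.Agent.Lib.AnPtsTop.Density
import Groth.Agent.Lib.AnPtsTop.Connected
import Mathlib.Analysis.Complex.CoveringMap
import Mathlib.Topology.Homotopy.Lifting
import Mathlib.AlgebraicGeometry.Properties

/-!
Connected components of `An.Pts X`; regular functions with a continuous logarithm.
-/

open AlgebraicGeometry CategoryTheory TopologicalSpace Topology Opposite Limits

noncomputable section

namespace Groth.Agent.AnPtsTop

variable {X : Scheme.{0}} [X.Over An.SC]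

/-- data attached to an irreducible closed subset of an affine scheme -/
lemma exists_domain_param [IsAffine X] [LocallyOfFiniteType (X ↘ An.SC)] {Z : Set X} (hZc : IsClosed Z)
    (hZ : IsIrreducible Z) :
    letI := (An.strHom X).toAlgebra
    ∃ (𝔭 : Ideal Γ(X, ⊤)) (y : (Γ(X, ⊤) ⧸ 𝔭 →ₐ[ℂ] ℂ) → An.Pts X),
      𝔭.IsPrime ∧ Algebra.FiniteType ℂ (Γ(X, ⊤) ⧸ 𝔭) ∧ (∀ ψ a, (y ψ).evTop a = ψ (Ideal.Quotient.mk 𝔭 a)) ∧
      Set.range y = An.Pts.pt ⁻¹' Z ∧
      IsInducing (fun (x : An.Pts X) (a : Γ(X, ⊤)) => x.evTop a) := by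
  let := (An.strHom X).toAlgebra
  obtain ⟨n, s, hs⟩ := exists_generators (X := X)
  have : Algebra.FiniteType ℂ Γ(X, ⊤) := by
    let F : MvPolynomial (Fin n) ℂ →ₐ[ℂ] Γ(X, ⊤) :=
      { MvPolynomial.eval₂Hom (An.strHom X) s with commutes' := fun c => MvPolynomial.eval₂Hom_C _ _ c }
    exact Algebra.FiniteType.of_surjective F hs
  have hΦ : IsInducing (fun (y : An.Pts X) (a : Γ(X, ⊤)) => y.evTop a) :=
    IsInducing.of_comp (g := fun (v : Γ(X, ⊤) → ℂ) i => v (s i)) (continuous_pi continuous_evTop)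
      (continuous_pi fun i => continuous_apply _) (isClosedEmbedding_of_generators s hs).isInducing
  let e : X ≃ₜ PrimeSpectrum Γ(X, ⊤) := X.isoSpec.hom.homeomorph
  have hirr : IsIrreducible (e '' Z) := hZ.image e e.continuous.continuousOn
  set 𝔭 := PrimeSpectrum.vanishingIdeal (e '' Z)
  have hp : 𝔭.IsPrime := (PrimeSpectrum.isIrreducible_iff_vanishingIdeal_isPrime).1 hirr
  have hmem : ∀ x : An.Pts X, x.pt ∈ Z ↔ ∀ a ∈ 𝔭, x.evTop a = 0 := by
    intro x
    have hcl : PrimeSpectrum.zeroLocus (𝔭 : Set Γ(X, ⊤)) = e '' Z := by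
      rw [PrimeSpectrum.zeroLocus_vanishingIdeal_eq_closure]
      exact (e.isClosedMap _ hZc).closure_eq
    rw [← e.injective.mem_set_image (s := Z), ← hcl, PrimeSpectrum.mem_zeroLocus]
    exact forall₂_congr fun a _ => mem_toSpecΓ_iff x a
  have key : ∀ ψ : Γ(X, ⊤) ⧸ 𝔭 →ₐ[ℂ] ℂ, ∃ x : An.Pts X, ∀ a, x.evTop a = ψ (Ideal.Quotient.mk 𝔭 a) :=
    fun ψ => exists_pt_of_ringHom (ψ.toRingHom.comp (Ideal.Quotient.mk 𝔭)) fun c => ψ.commutes c
  choose y hy using key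
  refine ⟨𝔭, y, hp, Algebra.FiniteType.of_surjective (Ideal.Quotient.mkₐ ℂ 𝔭) (Ideal.Quotient.mkₐ_surjective ℂ 𝔭),
    hy, ?_, hΦ⟩
  ext x
  rw [Set.mem_preimage, hmem]
  constructor
  · rintro ⟨ψ, rfl⟩ a ha
    rw [hy, Ideal.Quotient.eq_zero_iff_mem.2 ha, map_zero]
  · intro h
    let φ : Γ(X, ⊤) →ₐ[ℂ] ℂ := ⟨evHom x ⊤ (Opens.mem_top _), evTop_strHom x⟩
    exact ⟨Ideal.Quotient.liftₐ 𝔭 φ h, ext_of_evTop fun a => hy _ a⟩

lemma isPreconnected_preimage_of_isAffine [IsAffine X] [LocallyOfFiniteType (X ↘ An.SC)] {Z : Set X}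
    (hZc : IsClosed Z) (hZ : IsIrreducible Z) : IsPreconnected (An.Pts.pt ⁻¹' Z : Set (An.Pts X)) := by
  let := (An.strHom X).toAlgebra
  obtain ⟨𝔭, y, hp, hft, hy, hrange, hΦ⟩ := exists_domain_param hZc hZ
  intro u v hu hv hcov hune hvne
  by_contra hne
  obtain ⟨U, hU, rfl⟩ := hΦ.isOpen_iff.1 hu
  obtain ⟨V, hV, rfl⟩ := hΦ.isOpen_iff.1 hv
  let r : (Γ(X, ⊤) ⧸ 𝔭 → ℂ) → (Γ(X, ⊤) → ℂ) := fun f a => f (Ideal.Quotient.mk 𝔭 a)
  have hr : Continuous r := continuous_pi fun a => continuous_apply _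
  have hmem : ∀ ψ : Γ(X, ⊤) ⧸ 𝔭 →ₐ[ℂ] ℂ, y ψ ∈ An.Pts.pt ⁻¹' Z := fun ψ => hrange ▸ ⟨ψ, rfl⟩
  have hre : ∀ ψ : Γ(X, ⊤) ⧸ 𝔭 →ₐ[ℂ] ℂ, (fun a => (y ψ).evTop a) = r ⇑ψ := fun ψ => funext (hy ψ)
  have hpre : ∀ (O : Set (Γ(X, ⊤) → ℂ)) (ψ : Γ(X, ⊤) ⧸ 𝔭 →ₐ[ℂ] ℂ),
      y ψ ∈ (fun (x : An.Pts X) (a : Γ(X, ⊤)) => x.evTop a) ⁻¹' O ↔ ⇑ψ ∈ r ⁻¹' O := fun O ψ => by
    rw [Set.mem_preimage, Set.mem_preimage, hre]
  rcases mem_or_mem_of_domain (hU.preimage hr) (hV.preimage hr)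
      (fun ψ => by
        rcases hcov (hmem ψ) with h | h
        · exact Or.inl ((hpre U ψ).1 h)
        · exact Or.inr ((hpre V ψ).1 h))
      (fun ψ h1 h2 => hne ⟨y ψ, hmem ψ, (hpre U ψ).2 h1, (hpre V ψ).2 h2⟩) with h | h
  · obtain ⟨x, hx, hxv⟩ := hvne
    obtain ⟨ψ, rfl⟩ : x ∈ Set.range y := hrange.symm ▸ hx
    exact hne ⟨y ψ, hx, (hpre U ψ).2 (h ψ), hxv⟩
  · obtain ⟨x, hx, hxu⟩ := hune
    obtain ⟨ψ, rfl⟩ : x ∈ Set.range y := hrange.symm ▸ hx
    exact hne ⟨y ψ, hx, hxu, (hpre V ψ).2 (h ψ)⟩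

lemma evTop_eq_of_log_of_isAffine [IsAffine X] [LocallyOfFiniteType (X ↘ An.SC)] {Z : Set X}
    (hZc : IsClosed Z) (hZ : IsIrreducible Z) (u : Γ(X, ⊤)) {L : An.Pts X → ℂ} (hL : Continuous L)
    (he : ∀ x, Complex.exp (L x) = x.evTop u) {a b : An.Pts X} (ha : a.pt ∈ Z) (hb : b.pt ∈ Z) :
    a.evTop u = b.evTop u := by
  let := (An.strHom X).toAlgebra
  obtain ⟨𝔭, y, hp, hft, hy, hrange, hΦ⟩ := exists_domain_param hZc hZ
  obtain ⟨φ, rfl⟩ : a ∈ Set.range y := hrange.symm ▸ ha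
  obtain ⟨φ', rfl⟩ : b ∈ Set.range y := hrange.symm ▸ hb
  rw [hy, hy]
  refine const_of_continuous_log (Ideal.Quotient.mk 𝔭 u) (fun ψ => L (y ψ))
    (fun ψ => (he _).trans (hy ψ u)) (fun {T} _ τ z h => ?_) φ φ'
  refine hL.continuousAt.comp ?_
  rw [ContinuousAt, hΦ.nhds_eq_comap, Filter.tendsto_comap_iff]
  refine tendsto_pi_nhds.2 fun c => ?_
  simp only [Function.comp_def, hy]
  exact h _

/-- reduction of statements about irreducible closed subsets to affine opens -/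
lemma pair_in_affine [LocallyOfFiniteType (X ↘ An.SC)] {Z : Set X} (hZc : IsClosed Z) (hZ : IsIrreducible Z)
    {a : An.Pts X} (ha : a.pt ∈ Z) {U : X.Opens} (hU : (Z ∩ U).Nonempty) :
    ∃ V : X.Opens, IsAffineOpen V ∧ a.pt ∈ V ∧ ∃ w : An.Pts X, w.pt ∈ Z ∧ w.pt ∈ V ∧ w.pt ∈ U := by
  obtain ⟨V, hV, haV, -⟩ := exists_isAffineOpen_mem_and_subset (U := (⊤ : X.Opens)) (x := a.pt) trivial
  refine ⟨V, hV, haV, ?_⟩
  obtain ⟨w, hw⟩ := exists_pt_mem (Z := Z ∩ ((V : Set X) ∩ U))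
    (hZ.2 V U V.isOpen U.isOpen ⟨a.pt, ha, haV⟩ hU)
    (hZc.isLocallyClosed.inter (V.isOpen.inter U.isOpen).isLocallyClosed)
  exact ⟨w, hw.1, hw.2.1, hw.2.2⟩

lemma isPreconnected_preimage_of_isIrreducible [LocallyOfFiniteType (X ↘ An.SC)] {Z : Set X}
    (hZc : IsClosed Z) (hZ : IsIrreducible Z) : IsPreconnected (An.Pts.pt ⁻¹' Z : Set (An.Pts X)) := by
  have hloc : ∀ {V : X.Opens}, IsAffineOpen V → (Z ∩ V).Nonempty →
      IsPreconnected (An.Pts.pt ⁻¹' (Z ∩ V) : Set (An.Pts X)) := by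
    intro V hV hne
    have : IsAffine V.toScheme := hV
    have h1 := isPreconnected_preimage_of_isAffine (X := V.toScheme) (hZc.preimage V.ι.continuous)
      (⟨by obtain ⟨p, hp1, hp2⟩ := hne; exact ⟨⟨p, hp2⟩, hp1⟩,
        hZ.2.preimage V.ι.isOpenEmbedding⟩ : IsIrreducible (V.ι ⁻¹' Z))
    have h2 := h1.image _ (An.Pts.continuous_map V.ι).continuousOn
    convert h2 using 1
    ext x
    constructor
    · rintro ⟨hxZ, hxV⟩
      obtain ⟨w, rfl⟩ := exists_map_eq_of_isOpenImmersion V.ι x (by rw [Scheme.Opens.range_ι]; exact hxV)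
      rw [An.Pts.pt_map] at hxZ
      exact ⟨w, hxZ, rfl⟩
    · rintro ⟨w, hw, rfl⟩
      rw [Set.mem_preimage, An.Pts.pt_map]
      exact ⟨hw, w.pt.2⟩
  refine isPreconnected_of_forall_pair fun a ha b hb => ?_
  obtain ⟨U, hU, hbU, -⟩ := exists_isAffineOpen_mem_and_subset (U := (⊤ : X.Opens)) (x := b.pt) trivial
  obtain ⟨V, hV, haV, w, hwZ, hwV, hwU⟩ := pair_in_affine hZc hZ ha (U := U) ⟨b.pt, hb, hbU⟩
  refine ⟨An.Pts.pt ⁻¹' (Z ∩ V) ∪ An.Pts.pt ⁻¹' (Z ∩ U),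
    Set.union_subset (fun x hx => hx.1) (fun x hx => hx.1), Or.inl ⟨ha, haV⟩, Or.inr ⟨hb, hbU⟩, ?_⟩
  exact (hloc hV ⟨a.pt, ha, haV⟩).union w ⟨hwZ, hwV⟩ ⟨hwZ, hwU⟩ (hloc hU ⟨b.pt, hb, hbU⟩)

lemma evTop_eq_of_log_of_isIrreducible [LocallyOfFiniteType (X ↘ An.SC)] {Z : Set X}
    (hZc : IsClosed Z) (hZ : IsIrreducible Z) (u : Γ(X, ⊤)) {L : An.Pts X → ℂ} (hL : Continuous L)
    (he : ∀ x, Complex.exp (L x) = x.evTop u) {a b : An.Pts X} (ha : a.pt ∈ Z) (hb : b.pt ∈ Z) :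
    a.evTop u = b.evTop u := by
  have hloc : ∀ {V : X.Opens}, IsAffineOpen V → ∀ {p q : An.Pts X}, p.pt ∈ Z → p.pt ∈ V → q.pt ∈ Z →
      q.pt ∈ V → p.evTop u = q.evTop u := by
    intro V hV p q hp hpV hq hqV
    have : IsAffine V.toScheme := hV
    obtain ⟨p', rfl⟩ := exists_map_eq_of_isOpenImmersion V.ι p (by rw [Scheme.Opens.range_ι]; exact hpV)
    obtain ⟨q', rfl⟩ := exists_map_eq_of_isOpenImmersion V.ι q (by rw [Scheme.Opens.range_ι]; exact hqV)
    rw [An.Pts.pt_map] at hp hq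
    rw [map_evTop, map_evTop]
    exact evTop_eq_of_log_of_isAffine (X := V.toScheme) (hZc.preimage V.ι.continuous)
      (⟨⟨p'.pt, hp⟩, hZ.2.preimage V.ι.isOpenEmbedding⟩ : IsIrreducible (V.ι ⁻¹' Z)) _
      (hL.comp (An.Pts.continuous_map V.ι)) (fun x => (he _).trans (map_evTop V.ι x u)) hp hq
  obtain ⟨U, hU, hbU, -⟩ := exists_isAffineOpen_mem_and_subset (U := (⊤ : X.Opens)) (x := b.pt) trivial
  obtain ⟨V, hV, haV, w, hwZ, hwV, hwU⟩ := pair_in_affine hZc hZ ha (U := U) ⟨b.pt, hb, hbU⟩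
  exact (hloc hV ha haV hwZ hwV).trans (hloc hU hwZ hwU hb hbU)

lemma isClopen_of_specializes [LocallyOfFiniteType (X ↘ An.SC)] {S : Set X}
    (h : ∀ a b : X, a ⤳ b → (a ∈ S ↔ b ∈ S)) : IsClopen S := by
  have key : ∀ S : Set X, (∀ a b : X, a ⤳ b → (a ∈ S ↔ b ∈ S)) → IsClosed S := by
    intro S h
    rw [← isOpen_compl_iff, isOpen_iff_forall_mem_open]
    intro q hq
    have := isLocallyNoetherian (X := X)
    obtain ⟨U, hU, hqU, -⟩ := exists_isAffineOpen_mem_and_subset (U := (⊤ : X.Opens)) (x := q) trivial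
    have : IsNoetherianRing Γ(X, U) := IsLocallyNoetherian.component_noetherian ⟨U, hU⟩
    have : NoetherianSpace U.toScheme := noetherianSpace_of_isAffineOpen U hU
    set bad := {Z ∈ irreducibleComponents U.toScheme | ∃ w ∈ Z, U.ι w ∈ S}
    have hfin : bad.Finite := NoetherianSpace.finite_irreducibleComponents.subset fun Z hZ => hZ.1
    have hbad : ∀ Z ∈ bad, ∀ w ∈ Z, U.ι w ∈ S := by
      rintro Z ⟨hZ, w₀, hw₀, hw₀S⟩ w hw
      obtain ⟨η, hη⟩ : ∃ η, IsGenericPoint η Z :=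
        QuasiSober.sober hZ.1 (isClosed_of_mem_irreducibleComponents Z hZ)
      have h1 := h _ _ ((hη.specializes hw₀).map U.ι.continuous)
      exact (h _ _ ((hη.specializes hw).map U.ι.continuous)).1 (h1.2 hw₀S)
    have hclosed : IsClosed (⋃₀ bad) := by
      rw [Set.sUnion_eq_biUnion]
      exact hfin.isClosed_biUnion fun Z hZ => isClosed_of_mem_irreducibleComponents Z hZ.1
    refine ⟨U.ι '' (⋃₀ bad)ᶜ, ?_, U.ι.isOpenEmbedding.isOpenMap _ hclosed.isOpen_compl, ⟨q, hqU⟩, ?_, rfl⟩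
    · rintro _ ⟨w, hw, rfl⟩ hwS
      exact hw ⟨_, ⟨irreducibleComponent_mem_irreducibleComponents w, w, mem_irreducibleComponent, hwS⟩,
        mem_irreducibleComponent⟩
    · rintro ⟨Z, hZ, hwZ⟩
      exact hq (hbad Z hZ _ hwZ)
  exact ⟨key S h, isClosed_compl_iff.1 (key Sᶜ fun a b hab => not_congr (h a b hab))⟩

/-- properties constant on irreducible closed subsets come from clopen subsets -/
lemma exists_isClopen [LocallyOfFiniteType (X ↘ An.SC)] (P : An.Pts X → Prop)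
    (hP : ∀ Z : Set X, IsClosed Z → IsIrreducible Z → ∀ a b : An.Pts X, a.pt ∈ Z → b.pt ∈ Z → (P a ↔ P b)) :
    ∃ S : Set X, IsClopen S ∧ ∀ x : An.Pts X, x.pt ∈ S ↔ P x := by
  refine ⟨{q | ∃ x : An.Pts X, q ⤳ x.pt ∧ P x}, isClopen_of_specializes fun a b hab => ?_, fun x => ?_⟩
  · constructor
    · rintro ⟨x, hx, hPx⟩
      obtain ⟨y, hy⟩ := exists_pt_mem (Z := closure {b}) ⟨b, subset_closure rfl⟩ isClosed_closure.isLocallyClosed
      have hby : b ⤳ y.pt := specializes_iff_mem_closure.2 hy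
      exact ⟨y, hby, (hP (closure {a}) isClosed_closure isIrreducible_singleton.closure x y
        (specializes_iff_mem_closure.1 hx) (specializes_iff_mem_closure.1 (hab.trans hby))).1 hPx⟩
    · rintro ⟨x, hx, hPx⟩
      exact ⟨x, hab.trans hx, hPx⟩
  · constructor
    · rintro ⟨y, hy, hPy⟩
      have : y.pt ∈ closure ({x.pt} : Set X) := specializes_iff_mem_closure.1 hy
      rw [(isClosed_pt x).closure_eq] at this
      rwa [pt_injective (this : y.pt = x.pt)] at hPy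
    · exact fun h => ⟨x, specializes_rfl, h⟩

lemma exists_isClopen_of_isClopen [LocallyOfFiniteType (X ↘ An.SC)] {M : Set (An.Pts X)} (hM : IsClopen M) :
    ∃ S : Set X, IsClopen S ∧ An.Pts.pt ⁻¹' S = M := by
  obtain ⟨S, hS, h⟩ := exists_isClopen (fun x => x ∈ M) fun Z hZc hZ a b ha hb =>
    ⟨fun h => (isPreconnected_preimage_of_isIrreducible hZc hZ).subset_isClopen hM ⟨a, ha, h⟩ hb,
      fun h => (isPreconnected_preimage_of_isIrreducible hZc hZ).subset_isClopen hM ⟨b, hb, h⟩ ha⟩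
  exact ⟨S, hS, Set.ext h⟩

theorem connectedSpace_iff [LocallyOfFiniteType (X ↘ An.SC)] :
    ConnectedSpace X ↔ ConnectedSpace (An.Pts X) := by
  have hne : Nonempty X ↔ Nonempty (An.Pts X) :=
    ⟨fun ⟨p⟩ => (exists_pt_mem (Z := Set.univ) ⟨p, trivial⟩ isOpen_univ.isLocallyClosed).nonempty,
      fun ⟨x⟩ => ⟨x.pt⟩⟩
  rw [connectedSpace_iff_clopen, connectedSpace_iff_clopen]
  constructor
  · rintro ⟨h1, h2⟩
    refine ⟨hne.1 h1, fun M hM => ?_⟩
    obtain ⟨S, hS, rfl⟩ := exists_isClopen_of_isClopen hM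
    rcases h2 S hS with rfl | rfl <;> simp
  · rintro ⟨h1, h2⟩
    refine ⟨hne.2 h1, fun S hS => ?_⟩
    rcases h2 _ (hS.preimage An.Pts.continuous_pt) with h | h
    · left
      by_contra hne
      obtain ⟨x, hx⟩ := exists_pt_mem (Set.nonempty_iff_ne_empty.2 hne) hS.1.isLocallyClosed
      exact Set.eq_empty_iff_forall_notMem.1 h x hx
    · right
      by_contra hne
      obtain ⟨x, hx⟩ := exists_pt_mem (Z := Sᶜ) (Set.nonempty_compl.2 hne) hS.2.isClosed_compl.isLocallyClosed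
      exact hx (by have := h ▸ Set.mem_univ x; exact this)

lemma isClopen_connectedComponent' [LocallyOfFiniteType (X ↘ An.SC)] (p : X) :
    IsClopen (connectedComponent p) :=
  isClopen_of_specializes fun a b hab => by
    have hb : b ∈ connectedComponent a :=
      (isPreconnected_singleton (x := a)).closure.subset_connectedComponent (subset_closure rfl)
        (specializes_iff_mem_closure.1 hab)
    constructor
    · intro ha; rw [connectedComponent_eq ha]; exact hb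
    · intro hb'
      rw [connectedComponent_eq hb', ← connectedComponent_eq hb]
      exact mem_connectedComponent

theorem connectedComponentsMap_bijective [LocallyOfFiniteType (X ↘ An.SC)] :
    Function.Bijective (An.Pts.continuous_pt (X := X)).connectedComponentsMap := by
  constructor
  · intro x y h
    obtain ⟨x, rfl⟩ := ConnectedComponents.surjective_coe x
    obtain ⟨y, rfl⟩ := ConnectedComponents.surjective_coe y
    rw [Continuous.connectedComponentsMap_mk, Continuous.connectedComponentsMap_mk,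
      ConnectedComponents.coe_eq_coe'] at h
    rw [ConnectedComponents.coe_eq_coe']
    set C := connectedComponent y.pt
    have hC := (isClopen_connectedComponent' y.pt).preimage An.Pts.continuous_pt
    have hpre : IsPreconnected (An.Pts.pt ⁻¹' C : Set (An.Pts X)) := by
      rw [isPreconnected_iff_preconnectedSpace, preconnectedSpace_iff_clopen]
      intro M hM
      have hM' : IsClopen (Subtype.val '' M : Set (An.Pts X)) :=
        ⟨hC.1.isClosedEmbedding_subtypeVal.isClosedMap _ hM.1, hC.2.isOpenEmbedding_subtypeVal.isOpenMap _ hM.2⟩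
      obtain ⟨S, hS, hSM⟩ := exists_isClopen_of_isClopen hM'
      by_cases hd : (C ∩ S).Nonempty
      · right
        have := isPreconnected_connectedComponent.subset_isClopen hS hd
        ext ⟨w, hw⟩
        refine iff_of_true ?_ trivial
        have : w ∈ An.Pts.pt ⁻¹' S := this hw
        rw [hSM] at this
        obtain ⟨w', hw', e⟩ := this
        rwa [show (⟨w, hw⟩ : An.Pts.pt ⁻¹' C) = w' from Subtype.ext e.symm]
      · left
        ext ⟨w, hw⟩
        refine iff_of_false (fun h => hd ⟨w.pt, hw, ?_⟩) id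
        have : w ∈ An.Pts.pt ⁻¹' S := hSM ▸ ⟨_, h, rfl⟩
        exact this
    exact hpre.subset_connectedComponent mem_connectedComponent h
  · intro c
    obtain ⟨p, rfl⟩ := ConnectedComponents.surjective_coe c
    obtain ⟨x, hx⟩ := exists_pt_mem ⟨p, mem_connectedComponent⟩ isClosed_connectedComponent.isLocallyClosed
    exact ⟨x, by rw [Continuous.connectedComponentsMap_mk, ConnectedComponents.coe_eq_coe']; exact hx⟩

theorem evTop_eq_of_nullhomotopic [LocallyOfFiniteType (X ↘ An.SC)] [ConnectedSpace X] (u : Γ(X, ⊤))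
    (φ : C(An.Pts X, {z : ℂ // z ≠ 0})) (hφ : ∀ x : An.Pts X, (φ x).1 = x.evTop u)
    (z₀ : {z : ℂ // z ≠ 0}) (hnull : φ.Homotopic (ContinuousMap.const (An.Pts X) z₀)) :
    ∀ x y : An.Pts X, x.evTop u = y.evTop u := by
  obtain ⟨H⟩ := hnull.symm
  let c₀ : C(An.Pts X, ℂ) := ContinuousMap.const _ (Complex.log z₀.1)
  have h0 : ∀ a, H.toContinuousMap (0, a) =
      (fun z : ℂ ↦ (⟨_, z.exp_ne_zero⟩ : {z : ℂ // z ≠ 0})) (c₀ a) := fun a =>
    (H.apply_zero a).trans (Subtype.ext (Complex.exp_log z₀.2).symm)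
  let G := Complex.isCoveringMap_exp.liftHomotopy H.toContinuousMap c₀ h0
  have hL : Continuous fun a => G (1, a) := G.continuous.comp (Continuous.prodMk_right 1)
  have he : ∀ a, Complex.exp (G (1, a)) = a.evTop u := fun a => by
    have := congr_fun (Complex.isCoveringMap_exp.liftHomotopy_lifts H.toContinuousMap c₀ h0) (1, a)
    rw [← hφ, ← H.apply_one]
    exact congrArg Subtype.val this
  intro x y
  obtain ⟨S, hS, hSP⟩ := exists_isClopen (fun a => a.evTop u = y.evTop u) fun Z hZc hZ a b ha hb => by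
    rw [evTop_eq_of_log_of_isIrreducible hZc hZ u hL he ha hb]
  have : S = Set.univ := hS.eq_univ ⟨y.pt, (hSP y).2 rfl⟩
  exact (hSP x).1 (this ▸ Set.mem_univ _)

end Groth.Agent.AnPtsTop
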