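import Mathlib.Analysis.Complex.Polynomial.Basic
import Mathlib.RingTheory.NoetherNormalization
import Mathlib.FieldTheory.Minpoly.IsIntegrallyClosed
import Mathlib.RingTheory.Polynomial.UniqueFactorization
import Mathlib.RingTheory.Polynomial.RationalRoot
import Mathlib.Algebra.MvPolynomial.Funext
import Mathlib.RingTheory.Ideal.GoingUp
import Mathlib.Topology.Algebra.MvPolynomial
import Mathlib.Analysis.Normed.Module.FiniteDimension

/-!
`ℂ`-valued points of finitely generated algebras, topologised as functions `A → ℂ`.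
-/

open Topology

noncomputable section

namespace Groth.Agent.AnPtsTop

section lift

variable {P A : Type*} [CommRing P] [CommRing A] [Algebra ℂ P] [Algebra ℂ A] [Algebra P A]
  [IsScalarTower ℂ P A] [Algebra.IsIntegral P A]

lemma exists_algHom_lift (φ : P →ₐ[ℂ] ℂ) (h : RingHom.ker (algebraMap P A) ≤ RingHom.ker φ) :
    ∃ ψ : A →ₐ[ℂ] ℂ, ∀ p, ψ (algebraMap P A p) = φ p := by
  have : (RingHom.ker φ).IsPrime := RingHom.ker_isPrime φ
  obtain ⟨Q, -, hQ, hQP⟩ := Ideal.exists_ideal_over_prime_of_isIntegral (RingHom.ker φ) (⊥ : Ideal A)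
    (by rwa [← RingHom.ker_eq_comap_bot])
  have key : (Ideal.Quotient.mk Q).comp (algebraMap P A) =
      (algebraMap ℂ (A ⧸ Q)).comp φ.toRingHom := by
    ext p
    have hp : p - algebraMap ℂ P (φ p) ∈ Q.comap (algebraMap P A) := by
      rw [hQP, RingHom.mem_ker, map_sub, AlgHom.commutes]; simp
    rw [Ideal.mem_comap, map_sub, ← IsScalarTower.algebraMap_apply] at hp
    exact (Ideal.Quotient.eq (I := Q)).2 hp
  have : Algebra.IsIntegral ℂ (A ⧸ Q) := ⟨fun x => by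
    obtain ⟨a, rfl⟩ := Ideal.Quotient.mk_surjective x
    obtain ⟨q, hq, hqa⟩ := Algebra.IsIntegral.isIntegral (R := P) a
    refine ⟨q.map φ.toRingHom, hq.map _, ?_⟩
    rw [Polynomial.eval₂_map, ← key, ← Polynomial.hom_eval₂, hqa, map_zero]⟩
  let e := AlgEquiv.ofBijective (Algebra.ofId ℂ (A ⧸ Q)) IsAlgClosed.algebraMap_bijective_of_isIntegral
  refine ⟨e.symm.toAlgHom.comp (Ideal.Quotient.mkₐ ℂ Q), fun p => ?_⟩
  apply e.injective
  change e (e.symm _) = _
  rw [e.apply_symm_apply]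
  exact RingHom.congr_fun key p

end lift

open Polynomial in
lemma exists_root_norm_pow_le {m : ℂ[X]} (hm : m.Monic) (hd : m.natDegree ≠ 0) :
    ∃ c, m.IsRoot c ∧ ‖c‖ ^ m.natDegree ≤ ‖m.coeff 0‖ := by
  have hs : m.Splits := IsAlgClosed.splits m
  have hcard : m.roots.card = m.natDegree := hs.natDegree_eq_card_roots.symm
  have hne : m.roots.toFinset.Nonempty := by
    rw [Multiset.toFinset_nonempty]
    intro h0
    rw [h0, Multiset.card_zero] at hcard
    exact hd hcard.symm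
  obtain ⟨c, hc, hmin⟩ := m.roots.toFinset.exists_min_image (fun r => ‖r‖) hne
  rw [Multiset.mem_toFinset, mem_roots hm.ne_zero] at hc
  refine ⟨c, hc, ?_⟩
  rw [hs.coeff_zero_eq_prod_roots_of_monic hm, norm_mul, norm_pow, norm_neg, norm_one, one_pow,
    one_mul]
  change _ ≤ normHom m.roots.prod
  rw [map_multiset_prod]
  calc ‖c‖ ^ m.natDegree = (m.roots.map fun _ => ‖c‖).prod := by
        rw [Multiset.map_const', Multiset.prod_replicate, hcard]
    _ ≤ _ := Multiset.prod_map_le_prod_map₀ _ _ (fun _ _ => norm_nonneg _)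
      (fun r hr => hmin r (Multiset.mem_toFinset.2 hr))

open Polynomial in
lemma norm_root_le {m : ℂ[X]} (hm : m.Monic) {r : ℂ} (hr : m.IsRoot r) :
    ‖r‖ ≤ 1 + ∑ i ∈ Finset.range m.natDegree, ‖m.coeff i‖ := by
  have hnn : 0 ≤ ∑ i ∈ Finset.range m.natDegree, ‖m.coeff i‖ := Finset.sum_nonneg fun i _ => norm_nonneg _
  rcases le_or_gt ‖r‖ 1 with h1 | h1
  · linarith
  obtain ⟨d, hd⟩ : ∃ d, m.natDegree = d + 1 := by
    rcases Nat.eq_zero_or_pos m.natDegree with h | h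
    · exfalso
      rw [hm.natDegree_eq_zero.1 h] at hr
      simp [IsRoot] at hr
    · exact ⟨_, (Nat.succ_pred_eq_of_pos h).symm⟩
  have he : r ^ (d + 1) = -∑ i ∈ Finset.range (d + 1), m.coeff i * r ^ i := by
    have := hr
    rw [IsRoot, eval_eq_sum_range, Finset.sum_range_succ, hm.coeff_natDegree, one_mul, hd] at this
    exact eq_neg_of_add_eq_zero_right this
  have hb : ‖r‖ ^ (d + 1) ≤ (∑ i ∈ Finset.range (d + 1), ‖m.coeff i‖) * ‖r‖ ^ d := by
    rw [← norm_pow, he, norm_neg, Finset.sum_mul]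
    refine (norm_sum_le _ _).trans (Finset.sum_le_sum fun i hi => ?_)
    rw [norm_mul, norm_pow]
    exact mul_le_mul_of_nonneg_left
      (pow_le_pow_right₀ h1.le (Nat.lt_succ_iff.1 (Finset.mem_range.1 hi))) (norm_nonneg _)
  rw [pow_succ' ] at hb
  have := le_of_mul_le_mul_right hb (pow_pos (by linarith) d)
  rw [hd]
  linarith

section finite

variable {A : Type*} [CommRing A] [Algebra ℂ A] {s : ℕ}
  (g : MvPolynomial (Fin s) ℂ →ₐ[ℂ] A)

/-- the algebra homs as a closed set of functions -/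
lemma isClosed_range_coe_algHom :
    IsClosed (Set.range (fun ψ : A →ₐ[ℂ] ℂ => (ψ : A → ℂ))) := by
  have : Set.range (fun ψ : A →ₐ[ℂ] ℂ => (ψ : A → ℂ)) =
      (⋂ (a : A) (b : A), {f | f (a * b) = f a * f b}) ∩ (⋂ (a : A) (b : A), {f | f (a + b) = f a + f b}) ∩
        (⋂ c : ℂ, {f | f (algebraMap ℂ A c) = c}) := by
    ext f
    simp only [Set.mem_inter_iff, Set.mem_iInter, Set.mem_ofPred_eq]
    constructor
    · rintro ⟨ψ, rfl⟩
      exact ⟨⟨map_mul ψ, map_add ψ⟩, ψ.commutes⟩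
    · rintro ⟨⟨hm, ha⟩, hc⟩
      have h1 : f 1 = 1 := by rw [← map_one (algebraMap ℂ A)]; exact hc 1
      have h0 : f 0 = 0 := by rw [← map_zero (algebraMap ℂ A)]; exact hc 0
      exact ⟨{ toFun := f, map_one' := h1, map_mul' := hm, map_zero' := h0, map_add' := ha,
               commutes' := hc }, rfl⟩
  rw [this]
  refine ((isClosed_iInter fun a => isClosed_iInter fun b => ?_).inter
    (isClosed_iInter fun a => isClosed_iInter fun b => ?_)).inter (isClosed_iInter fun c => ?_)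
  · exact isClosed_eq (continuous_apply _) ((continuous_apply (A := fun _ : A => ℂ) a).mul (continuous_apply b))
  · exact isClosed_eq (continuous_apply _) ((continuous_apply (A := fun _ : A => ℂ) a).add (continuous_apply b))
  · exact isClosed_eq (continuous_apply _) continuous_const

lemma algHom_comp_eq_aeval (ψ : A →ₐ[ℂ] ℂ) :
    ψ.comp g = MvPolynomial.aeval fun i => ψ (g (MvPolynomial.X i)) := by
  ext i; simp

variable {g}

lemma isRoot_of_aeval (ψ : A →ₐ[ℂ] ℂ) (z : Fin s → ℂ) (hz : ∀ i, ψ (g (MvPolynomial.X i)) = z i)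
    {q : Polynomial (MvPolynomial (Fin s) ℂ)} {a : A} (hq : q.eval₂ g.toRingHom a = 0) :
    (q.map (MvPolynomial.eval z)).IsRoot (ψ a) := by
  have he : ψ.toRingHom.comp g.toRingHom = MvPolynomial.eval z := by
    refine MvPolynomial.ringHom_ext (fun c => ?_) (fun i => ?_)
    · simp [← MvPolynomial.algebraMap_eq]
    · simpa using hz i
  rw [Polynomial.IsRoot, Polynomial.eval_map, ← he]
  change q.eval₂ _ (ψ.toRingHom a) = 0
  rw [← Polynomial.hom_eval₂, hq, map_zero]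

lemma isCompact_points_over (hg : g.Finite) {C : Set (Fin s → ℂ)} (hC : IsCompact C) :
    IsCompact {f : A → ℂ | (∃ ψ : A →ₐ[ℂ] ℂ, ⇑ψ = f) ∧ (fun i => f (g (MvPolynomial.X i))) ∈ C} := by
  have hint : ∀ a : A, ∃ q : Polynomial (MvPolynomial (Fin s) ℂ), q.Monic ∧ q.eval₂ g.toRingHom a = 0 :=
    fun a => RingHom.Finite.to_isIntegral hg a
  choose q hq hqa using hint
  have hbd : ∀ a : A, ∃ R : ℝ, ∀ z ∈ C,
      1 + ∑ i ∈ Finset.range (q a).natDegree, ‖MvPolynomial.eval z ((q a).coeff i)‖ ≤ R := by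
    intro a
    have hc : Continuous fun z : Fin s → ℂ =>
        1 + ∑ i ∈ Finset.range (q a).natDegree, ‖MvPolynomial.eval z ((q a).coeff i)‖ :=
      continuous_const.add (continuous_finsetSum _ fun i _ => (MvPolynomial.continuous_eval _).norm)
    obtain ⟨R, hR⟩ := (hC.image hc).bddAbove
    exact ⟨R, fun z hz => hR ⟨z, hz, rfl⟩⟩
  choose R hR using hbd
  refine (isCompact_univ_pi fun a => isCompact_closedBall (0 : ℂ) (R a)).of_isClosed_subset ?_ ?_
  · exact isClosed_range_coe_algHom.inter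
      (hC.isClosed.preimage (continuous_pi fun i => continuous_apply _))
  · rintro f ⟨⟨ψ, rfl⟩, hz⟩ a -
    rw [mem_closedBall_zero_iff]
    have := norm_root_le ((hq a).map _) (isRoot_of_aeval ψ _ (fun i => rfl) (hqa a))
    rw [(hq a).natDegree_map] at this
    simp only [Polynomial.coeff_map] at this
    exact this.trans (hR a _ hz)

/-- the projection to the base is open at every point, for a domain finite over a polynomial ring -/
lemma exists_open_subset_image [IsDomain A] (hinj : Function.Injective g) (hg : g.Finite)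
    (φ : A →ₐ[ℂ] ℂ) {W : Set (A → ℂ)} (hW : IsOpen W) (hφ : ⇑φ ∈ W) :
    ∃ Q : Set (Fin s → ℂ), IsOpen Q ∧ (fun i => φ (g (MvPolynomial.X i))) ∈ Q ∧
      ∀ z ∈ Q, ∃ ψ : A →ₐ[ℂ] ℂ, ⇑ψ ∈ W ∧ ∀ i, ψ (g (MvPolynomial.X i)) = z i := by
  classical
  let := g.toRingHom.toAlgebra
  have : IsScalarTower ℂ (MvPolynomial (Fin s) ℂ) A := IsScalarTower.of_algebraMap_eq fun c => (g.commutes c).symm
  have : Algebra.IsIntegral (MvPolynomial (Fin s) ℂ) A := ⟨RingHom.Finite.to_isIntegral hg⟩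
  have : Module.IsTorsionFree (MvPolynomial (Fin s) ℂ) A :=
    Module.isTorsionFree_iff_algebraMap_injective.2 hinj
  set p : Fin s → ℂ := fun i => φ (g (MvPolynomial.X i))
  -- the fibre is finite
  have hfin : {ψ : A →ₐ[ℂ] ℂ | ∀ i, ψ (g (MvPolynomial.X i)) = p i}.Finite := by
    have hft : Algebra.FiniteType ℂ A := by
      have : Module.Finite (MvPolynomial (Fin s) ℂ) A := hg
      exact Algebra.FiniteType.trans (S := MvPolynomial (Fin s) ℂ) inferInstance inferInstance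
    obtain ⟨t, ht⟩ := hft.out
    have hq : ∀ b : t, ∃ q : Polynomial (MvPolynomial (Fin s) ℂ), q.Monic ∧ q.eval₂ g.toRingHom (b : A) = 0 :=
      fun b => RingHom.Finite.to_isIntegral hg b.1
    choose q hq hqb using hq
    refine Set.Finite.of_finite_image (f := fun ψ => fun b : t => ψ (b : A)) ?_ ?_
    · refine (Set.Finite.pi' fun b : t => ((q b).map (MvPolynomial.eval p)).roots.toFinset.finite_toSet).subset ?_
      rintro _ ⟨ψ, hψ, rfl⟩ b
      rw [Finset.mem_coe, Multiset.mem_toFinset, Polynomial.mem_roots ((hq b).map _).ne_zero]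
      exact isRoot_of_aeval ψ p hψ (hqb b)
    · intro ψ _ ψ' _ e
      exact AlgHom.ext_of_adjoin_eq_top ht fun b hb => congr_fun e ⟨b, hb⟩
  -- a separating element
  obtain ⟨a, ha0, ha⟩ : ∃ a : A, φ a = 0 ∧ ∀ ψ : A →ₐ[ℂ] ℂ,
      (∀ i, ψ (g (MvPolynomial.X i)) = p i) → ψ a = 0 → ψ = φ := by
    by_contra hne
    push Not at hne
    have hsub : (RingHom.ker φ : Set A) ⊆
        ⋃ ψ ∈ (↑(hfin.toFinset.filter (· ≠ φ)) : Set (A →ₐ[ℂ] ℂ)), (RingHom.ker ψ : Set A) := by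
      intro a ha
      obtain ⟨ψ, h1, h2, h3⟩ := hne a ha
      exact Set.mem_iUnion₂.2 ⟨ψ, by simp [h1, h3], h2⟩
    obtain ⟨ψ, hψ, hle⟩ := (Ideal.subset_union_prime φ φ (fun ψ _ _ _ => RingHom.ker_isPrime ψ)).1 hsub
    simp only [Finset.mem_filter] at hψ
    apply hψ.2
    ext b
    have : b - algebraMap ℂ A (φ b) ∈ RingHom.ker φ := by simp
    have := hle this
    rw [RingHom.mem_ker, map_sub, AlgHom.commutes, sub_eq_zero] at this
    simpa using this
  set m := minpoly (MvPolynomial (Fin s) ℂ) a with hm_def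
  have hai : IsIntegral (MvPolynomial (Fin s) ℂ) a := Algebra.IsIntegral.isIntegral a
  have hmm : m.Monic := minpoly.monic hai
  have hma : m.eval₂ g.toRingHom a = 0 := minpoly.aeval _ a
  have hd : m.natDegree ≠ 0 := (minpoly.natDegree_pos hai).ne'
  have hm0 : MvPolynomial.eval p (m.coeff 0) = 0 := by
    have := isRoot_of_aeval φ p (fun i => rfl) hma
    rw [ha0, Polynomial.IsRoot, ← Polynomial.coeff_zero_eq_eval_zero, Polynomial.coeff_map] at this
    exact this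
  have hK := isCompact_points_over (g := g) hg (isCompact_closedBall p 1)
  set K := {f : A → ℂ | (∃ ψ : A →ₐ[ℂ] ℂ, ⇑ψ = f) ∧ (fun i => f (g (MvPolynomial.X i))) ∈ Metric.closedBall p 1}
  set Λ : (A → ℂ) → (Fin s → ℂ) × ℂ := fun f => (fun i => f (g (MvPolynomial.X i)), f a)
  have hΛ : Continuous Λ := (continuous_pi fun i => continuous_apply _).prodMk (continuous_apply _)
  have hC : IsClosed (Λ '' (K \ W)) := ((hK.diff hW).image hΛ).isClosed
  have hnot : (p, (0 : ℂ)) ∉ Λ '' (K \ W) := by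
    rintro ⟨f, ⟨⟨⟨ψ, rfl⟩, -⟩, hfW⟩, e⟩
    obtain ⟨e1, e2⟩ := Prod.ext_iff.1 e
    rw [ha ψ (fun i => congr_fun e1 i) e2] at hfW
    exact hfW hφ
  obtain ⟨ε, hε, hball⟩ := Metric.isOpen_iff.1 hC.isOpen_compl _ hnot
  have hcont : Continuous fun z : Fin s → ℂ => MvPolynomial.eval z (m.coeff 0) := MvPolynomial.continuous_eval _
  refine ⟨Metric.ball p (min ε 1) ∩ {z | ‖MvPolynomial.eval z (m.coeff 0)‖ < ε ^ m.natDegree},
    Metric.isOpen_ball.inter (isOpen_lt hcont.norm continuous_const),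
    ⟨Metric.mem_ball_self (lt_min hε one_pos), by simp [hm0, pow_pos hε]⟩, ?_⟩
  rintro z ⟨hz, hzε⟩
  rw [Metric.mem_ball, lt_min_iff] at hz
  obtain ⟨c, hc, hcle⟩ := exists_root_norm_pow_le (hmm.map (MvPolynomial.eval z))
    (by rw [hmm.natDegree_map]; exact hd)
  rw [hmm.natDegree_map, Polynomial.coeff_map] at hcle
  have hcε : ‖c‖ < ε := lt_of_pow_lt_pow_left₀ _ hε.le (hcle.trans_lt hzε)
  let := (Polynomial.aeval (R := MvPolynomial (Fin s) ℂ) a).toRingHom.toAlgebra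
  have : IsScalarTower (MvPolynomial (Fin s) ℂ) (Polynomial (MvPolynomial (Fin s) ℂ)) A :=
    IsScalarTower.of_algebraMap_eq fun q => ((Polynomial.aeval a).commutes q).symm
  have : IsScalarTower ℂ (Polynomial (MvPolynomial (Fin s) ℂ)) A :=
    IsScalarTower.of_algebraMap_eq fun c => (((Polynomial.aeval a).restrictScalars ℂ).commutes c).symm
  have : Algebra.IsIntegral (Polynomial (MvPolynomial (Fin s) ℂ)) A :=
    Algebra.IsIntegral.tower_top (MvPolynomial (Fin s) ℂ)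
  let ev : Polynomial (MvPolynomial (Fin s) ℂ) →ₐ[ℂ] ℂ :=
    ((Polynomial.aeval c).restrictScalars ℂ).comp (Polynomial.mapAlgHom (MvPolynomial.aeval z))
  have hev : ∀ q, ev q = (q.map (MvPolynomial.eval z)).eval c := fun q => by
    simp [ev]
  have hker : RingHom.ker (algebraMap (Polynomial (MvPolynomial (Fin s) ℂ)) A) ≤ RingHom.ker ev := by
    rw [show algebraMap (Polynomial (MvPolynomial (Fin s) ℂ)) A = (Polynomial.aeval a).toRingHom from rfl,
      minpoly.ker_eval hai, Ideal.span_singleton_le_iff_mem, RingHom.mem_ker, hev]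
    exact hc
  obtain ⟨ψ, hψ⟩ := exists_algHom_lift ev hker
  have hψz : ∀ i, ψ (g (MvPolynomial.X i)) = z i := fun i => by
    have := hψ (Polynomial.C (MvPolynomial.X i))
    rw [hev, Polynomial.map_C, Polynomial.eval_C, MvPolynomial.eval_X] at this
    rw [← this]
    exact congrArg ψ (Polynomial.aeval_C a _).symm
  have hψa : ψ a = c := by
    have := hψ Polynomial.X
    rw [hev, Polynomial.map_X, Polynomial.eval_X] at this
    rw [← this]
    exact congrArg ψ (Polynomial.aeval_X a).symm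
  refine ⟨ψ, ?_, hψz⟩
  by_contra hψW
  refine hball (?_ : Λ ψ ∈ Metric.ball (p, (0 : ℂ)) ε) ⟨ψ, ⟨⟨⟨ψ, rfl⟩, ?_⟩, hψW⟩, rfl⟩
  · rw [Metric.mem_ball, Prod.dist_eq, max_lt_iff]
    simp only [Λ, hψa, dist_zero_right]
    exact ⟨by simpa [hψz] using hz.1, hcε⟩
  · simp only [hψz, Metric.mem_closedBall]
    exact hz.2.le

end finite

/-- polynomials vanishing on a nonempty open set of `ℂⁿ` are zero -/
lemma exists_eval_ne_zero_of_isOpen {s : ℕ} {q : MvPolynomial (Fin s) ℂ} (hq : q ≠ 0)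
    {Q : Set (Fin s → ℂ)} (hQ : IsOpen Q) (hne : Q.Nonempty) : ∃ z ∈ Q, MvPolynomial.eval z q ≠ 0 := by
  by_contra hall
  push Not at hall
  obtain ⟨p, hp⟩ := hne
  obtain ⟨r, hr, hb⟩ := Metric.isOpen_iff.1 hQ p hp
  refine hq (MvPolynomial.funext_set (fun i => Metric.ball (p i) r) (fun i => ?_) fun z hz => ?_)
  · exact infinite_of_mem_nhds (p i) (Metric.ball_mem_nhds _ hr)
  · rw [map_zero]
    exact hall z (hb (by rw [ball_pi _ hr]; exact hz))

open Polynomial in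
lemma minpoly_coeff_zero_ne_zero {P A : Type*} [CommRing P] [IsDomain P] [CommRing A] [IsDomain A]
    [Algebra P A] {h : A} (hi : IsIntegral P h) (hh : h ≠ 0) : (minpoly P h).coeff 0 ≠ 0 := by
  intro h0
  obtain ⟨r, hr⟩ := Polynomial.X_dvd_iff.2 h0
  have hm := minpoly.monic hi
  rw [hr] at hm
  have hrm : r.Monic := monic_X.of_mul_monic_left hm
  have hr0 : aeval h r = 0 := by
    have := minpoly.aeval P h
    rw [hr, map_mul, aeval_X] at this
    exact (mul_eq_zero.1 this).resolve_left hh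
  have hle := minpoly.min P h hrm hr0
  rw [hr, degree_mul, degree_X, degree_eq_natDegree hrm.ne_zero] at hle
  exact absurd hle (by norm_cast; omega)

theorem exists_point_near_of_domain {A : Type*} [CommRing A] [IsDomain A] [Algebra ℂ A]
    [Algebra.FiniteType ℂ A] {h : A} (hh : h ≠ 0) (φ : A →ₐ[ℂ] ℂ) {W : Set (A → ℂ)}
    (hW : IsOpen W) (hφ : ⇑φ ∈ W) : ∃ ψ : A →ₐ[ℂ] ℂ, ⇑ψ ∈ W ∧ ψ h ≠ 0 := by
  obtain ⟨s, g, hinj, hfin⟩ := exists_finite_inj_algHom_of_fg ℂ A
  obtain ⟨Q, hQ, hpQ, hlift⟩ := exists_open_subset_image hinj hfin φ hW hφ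
  let := g.toRingHom.toAlgebra
  have hi : IsIntegral (MvPolynomial (Fin s) ℂ) h := RingHom.Finite.to_isIntegral hfin h
  have hq : (minpoly (MvPolynomial (Fin s) ℂ) h).coeff 0 ≠ 0 := minpoly_coeff_zero_ne_zero hi hh
  obtain ⟨z, hz, hzq⟩ := exists_eval_ne_zero_of_isOpen hq hQ ⟨_, hpQ⟩
  obtain ⟨ψ, hψW, hψz⟩ := hlift z hz
  refine ⟨ψ, hψW, fun h0 => hzq ?_⟩
  have := isRoot_of_aeval (g := g) ψ z hψz (minpoly.aeval (MvPolynomial (Fin s) ℂ) h)
  rwa [h0, Polynomial.IsRoot, ← Polynomial.coeff_zero_eq_eval_zero, Polynomial.coeff_map] at this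

/-- points of `V(J) ∩ D(h)` are dense in the points of its Zariski closure -/
theorem exists_point_near {A : Type*} [CommRing A] [Algebra ℂ A] [Algebra.FiniteType ℂ A]
    (φ : A →ₐ[ℂ] ℂ) {𝔭 : Ideal A} [𝔭.IsPrime] (h𝔭 : 𝔭 ≤ RingHom.ker φ) {h : A} (hh : h ∉ 𝔭)
    {W : Set (A → ℂ)} (hW : IsOpen W) (hφ : ⇑φ ∈ W) :
    ∃ ψ : A →ₐ[ℂ] ℂ, ⇑ψ ∈ W ∧ 𝔭 ≤ RingHom.ker ψ ∧ ψ h ≠ 0 := by
  let φ' : A ⧸ 𝔭 →ₐ[ℂ] ℂ := Ideal.Quotient.liftₐ 𝔭 φ fun a ha => h𝔭 ha
  have : Algebra.FiniteType ℂ (A ⧸ 𝔭) :=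
    Algebra.FiniteType.of_surjective (Ideal.Quotient.mkₐ ℂ 𝔭) (Ideal.Quotient.mkₐ_surjective ℂ 𝔭)
  obtain ⟨ψ, hψ, hψh⟩ := exists_point_near_of_domain (h := Ideal.Quotient.mk 𝔭 h)
    (by rwa [Ne, Ideal.Quotient.eq_zero_iff_mem]) φ'
    (hW.preimage (continuous_pi fun a => continuous_apply (Ideal.Quotient.mk 𝔭 a)))
    (show (fun a => φ' (Ideal.Quotient.mk 𝔭 a)) ∈ W from hφ)
  refine ⟨ψ.comp (Ideal.Quotient.mkₐ ℂ 𝔭), hψ, fun a ha => ?_, hψh⟩
  simp [RingHom.mem_ker, Ideal.Quotient.eq_zero_iff_mem.2 ha]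

/-- points in the closure of `V(J) ∩ D(f)` come from a prime of it -/
lemma exists_prime_le {A : Type*} [CommRing A] {J m : Ideal A} [m.IsPrime] {f : A}
    (H : ∀ g, g ∉ m → ∀ k : ℕ, g * f ^ k ∉ J) : ∃ 𝔭 : Ideal A, 𝔭.IsPrime ∧ J ≤ 𝔭 ∧ 𝔭 ≤ m ∧ f ∉ 𝔭 := by
  have hd : Disjoint (J : Set A) ↑(m.primeCompl ⊔ Submonoid.powers f) := by
    rw [Set.disjoint_left]
    intro x hx hxS
    obtain ⟨g, hg, y, ⟨k, rfl⟩, rfl⟩ := Submonoid.mem_sup.1 hxS
    exact H g hg k hx
  obtain ⟨𝔭, h1, h2, h3⟩ := Ideal.exists_le_prime_disjoint J _ hd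
  refine ⟨𝔭, h1, h2, fun x hx => ?_, fun hf => ?_⟩
  · by_contra hxm
    exact Set.disjoint_left.1 h3 hx (Submonoid.mem_sup_left (hxm : x ∈ m.primeCompl))
  · exact Set.disjoint_left.1 h3 hf (Submonoid.mem_sup_right (Submonoid.mem_powers f))

end Groth.Agent.AnPtsTop
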