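import Groth.Agent.Lib.AnPtsTop.Global
import Groth.Agent.Lib.AnPtsTop.DenseAlg
import Mathlib.RingTheory.Spectrum.Prime.ConstructibleSet

/-!
The complex closure of the points of a constructible set is the set of points of its Zariski closure.
-/

open AlgebraicGeometry CategoryTheory TopologicalSpace Topology Opposite Limits

noncomputable section

namespace Groth.Agent.AnPtsTop

variable {X Y : Scheme.{0}} [X.Over An.SC] [Y.Over An.SC]

lemma mem_toSpecΓ_iff (x : An.Pts X) (f : Γ(X, ⊤)) :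
    f ∈ (X.toSpecΓ x.pt).asIdeal ↔ x.evTop f = 0 := by
  have h : x.pt ∈ X.toSpecΓ ⁻¹ᵁ PrimeSpectrum.basicOpen f ↔ x.pt ∈ X.basicOpen f := by
    rw [Scheme.toSpecΓ_preimage_basicOpen]
  rw [pt_mem_basicOpen_iff x (Opens.mem_top _) f] at h
  exact not_iff_not.1 h

lemma exists_pt_mem_of_isAffine [IsAffine X] [LocallyOfFiniteType (X ↘ An.SC)] {Z : Set X}
    (hZ : IsLocallyConstructible Z) {x : An.Pts X} (hx : x.pt ∈ closure Z)
    {W : Set (An.Pts X)} (hW : IsOpen W) (hxW : x ∈ W) : ∃ y ∈ W, y.pt ∈ Z := by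
  let := (An.strHom X).toAlgebra
  obtain ⟨n, s, hs⟩ := exists_generators (X := X)
  have : Algebra.FiniteType ℂ Γ(X, ⊤) := by
    let F : MvPolynomial (Fin n) ℂ →ₐ[ℂ] Γ(X, ⊤) :=
      { MvPolynomial.eval₂Hom (An.strHom X) s with commutes' := fun c => MvPolynomial.eval₂Hom_C _ _ c }
    exact Algebra.FiniteType.of_surjective F hs
  have hΦ : IsInducing (fun (y : An.Pts X) (a : Γ(X, ⊤)) => y.evTop a) :=
    IsInducing.of_comp (g := fun (v : Γ(X, ⊤) → ℂ) i => v (s i)) (continuous_pi continuous_evTop)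
      (continuous_pi fun i => continuous_apply _) (isClosedEmbedding_of_generators s hs).isInducing
  obtain ⟨W', hW', rfl⟩ := hΦ.isOpen_iff.1 hW
  let φ : Γ(X, ⊤) →ₐ[ℂ] ℂ := ⟨evHom x ⊤ (Opens.mem_top _), evTop_strHom x⟩
  let e : X ≃ₜ PrimeSpectrum Γ(X, ⊤) := X.isoSpec.hom.homeomorph
  have he : ∀ q : X, e q = (X.toSpecΓ q : PrimeSpectrum Γ(X, ⊤)) := fun q => rfl
  have hc : IsConstructible (e.symm ⁻¹' Z : Set (PrimeSpectrum Γ(X, ⊤))) :=
    (hZ.preimage_of_isOpenEmbedding e.symm.isOpenEmbedding).isConstructible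
  obtain ⟨S, hS⟩ := PrimeSpectrum.exists_constructibleSetData_iff.2 hc
  have hx' : (e x.pt : PrimeSpectrum Γ(X, ⊤)) ∈ closure S.toSet := by
    have := Set.mem_image_of_mem e hx
    rw [e.image_closure, ← e.preimage_symm] at this
    rw [hS]
    exact this
  rw [PrimeSpectrum.ConstructibleSetData.toSet, Finset.closure_biUnion, Set.mem_iUnion₂] at hx'
  obtain ⟨C, hC, hx'⟩ := hx'
  have : Ideal.IsPrime (X.toSpecΓ x.pt).asIdeal := (e x.pt).2
  obtain ⟨𝔭, hp, hJ, hpm, hfp⟩ := exists_prime_le (J := Ideal.span (Set.range C.g))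
    (m := (X.toSpecΓ x.pt).asIdeal) (f := C.f) (by
    intro g hg k hk
    obtain ⟨q, hq1, hq2, hq3⟩ := mem_closure_iff.1 hx' _ (PrimeSpectrum.basicOpen g).isOpen
      (by rw [he]; exact hg)
    rw [PrimeSpectrum.mem_zeroLocus, ← Ideal.span_le] at hq2
    rw [PrimeSpectrum.mem_zeroLocus, Set.singleton_subset_iff] at hq3
    rcases q.2.mem_or_mem (hq2 hk) with h | h
    · exact hq1 h
    · exact hq3 (q.2.mem_of_pow_mem k h))
  obtain ⟨ψ, hψW, hψ𝔭, hψf⟩ := exists_point_near φ (𝔭 := 𝔭)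
    (fun a ha => (mem_toSpecΓ_iff x a).1 (hpm ha)) hfp hW' hxW
  obtain ⟨y, hy⟩ := exists_pt_of_ringHom ψ.toRingHom ψ.commutes
  refine ⟨y, ?_, ?_⟩
  · change (fun a => y.evTop a) ∈ W'
    rwa [show (fun a => y.evTop a) = ⇑ψ from funext hy]
  · have : (e y.pt : PrimeSpectrum Γ(X, ⊤)) ∈ S.toSet := by
      refine Set.mem_iUnion₂.2 ⟨C, hC, ?_, ?_⟩
      · rw [PrimeSpectrum.mem_zeroLocus, he]
        intro a ha
        rw [SetLike.mem_coe, mem_toSpecΓ_iff, hy]
        exact hψ𝔭 (hJ (Ideal.subset_span ha))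
      · rw [PrimeSpectrum.mem_zeroLocus, Set.singleton_subset_iff, he, SetLike.mem_coe, mem_toSpecΓ_iff, hy]
        exact hψf
    rw [hS] at this
    change e.symm (e y.pt) ∈ Z at this
    rwa [e.symm_apply_apply] at this

theorem preimage_closure [LocallyOfFiniteType (X ↘ An.SC)] {Z : Set X} (hZ : IsLocallyConstructible Z) :
    An.Pts.pt ⁻¹' closure Z = closure (An.Pts.pt ⁻¹' Z : Set (An.Pts X)) := by
  refine subset_antisymm (fun x hx => ?_) (An.Pts.continuous_pt.closure_preimage_subset Z)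
  rw [mem_closure_iff]
  intro W hW hxW
  obtain ⟨U, hU, hxU, -⟩ := exists_isAffineOpen_mem_and_subset (U := (⊤ : X.Opens)) (x := x.pt) trivial
  have : IsAffine U.toScheme := hU
  obtain ⟨u, rfl⟩ := exists_map_eq_of_isOpenImmersion U.ι x (by rw [Scheme.Opens.range_ι]; exact hxU)
  obtain ⟨v, hv, hvZ⟩ := exists_pt_mem_of_isAffine
    (hZ.preimage_of_isOpenEmbedding U.ι.isOpenEmbedding) (x := u)
    (by
      rw [← U.ι.isOpenEmbedding.isOpenMap.preimage_closure_eq_closure_preimage U.ι.continuous]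
      change U.ι u.pt ∈ closure Z
      rw [← An.Pts.pt_map]
      exact hx)
    (hW.preimage (An.Pts.continuous_map U.ι)) hxW
  exact ⟨An.Pts.map U.ι v, hv, by rw [Set.mem_preimage, An.Pts.pt_map]; exact hvZ⟩

lemma isLocallyConstructible_of_isOpen [LocallyOfFiniteType (X ↘ An.SC)] {C : Set X} (hC : IsOpen C) :
    IsLocallyConstructible C := by
  intro p
  have := isLocallyNoetherian (X := X)
  obtain ⟨U, hU, hpU, -⟩ := exists_isAffineOpen_mem_and_subset (U := (⊤ : X.Opens)) (x := p) trivial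
  have : IsNoetherianRing Γ(X, U) := IsLocallyNoetherian.component_noetherian ⟨U, hU⟩
  have : NoetherianSpace (U : Set X) := noetherianSpace_of_isAffineOpen U hU
  exact ⟨U, U.isOpen.mem_nhds hpU, U.isOpen,
    IsRetrocompact.isConstructible (hC.preimage continuous_subtype_val) (fun _ _ _ => NoetherianSpace.isCompact _)⟩

lemma isLocallyConstructible_of_isClosed [LocallyOfFiniteType (X ↘ An.SC)] {C : Set X} (hC : IsClosed C) :
    IsLocallyConstructible C := by
  simpa using isLocallyConstructible_compl (isLocallyConstructible_of_isOpen hC.isOpen_compl)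

theorem isOpen_iff [LocallyOfFiniteType (X ↘ An.SC)] {Z : Set X} (hZ : IsLocallyConstructible Z) :
    IsOpen Z ↔ IsOpen (An.Pts.pt ⁻¹' Z : Set (An.Pts X)) := by
  refine ⟨fun h => h.preimage An.Pts.continuous_pt, fun h => ?_⟩
  have hc := isLocallyConstructible_compl hZ
  have hp := preimage_closure hc
  rw [Set.preimage_compl, h.isClosed_compl.closure_eq] at hp
  rw [← isClosed_compl_iff, ← closure_subset_iff_isClosed]
  have hd : IsLocallyConstructible (closure Zᶜ ∩ Z) :=
    IsLocallyConstructible.inter (isLocallyConstructible_of_isClosed isClosed_closure) hZ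
  have := eq_empty_of_forall_pt_notMem hd fun x hx => by
    have h1 : x ∈ An.Pts.pt ⁻¹' closure Zᶜ := hx.1
    rw [hp] at h1
    exact h1 hx.2
  intro p hp' hpZ
  exact Set.eq_empty_iff_forall_notMem.1 this p ⟨hp', hpZ⟩

theorem dense_iff [LocallyOfFiniteType (X ↘ An.SC)] {Z : Set X} (hZ : IsLocallyConstructible Z) :
    Dense Z ↔ Dense (An.Pts.pt ⁻¹' Z : Set (An.Pts X)) := by
  rw [dense_iff_closure_eq, dense_iff_closure_eq, ← preimage_closure hZ]
  refine ⟨fun h => by rw [h, Set.preimage_univ], fun h => ?_⟩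
  have := eq_empty_of_forall_pt_notMem
    (isLocallyConstructible_compl (isLocallyConstructible_of_isClosed (isClosed_closure (s := Z))))
    fun x hx => hx (by have := h ▸ Set.mem_univ x; exact this)
  exact Set.compl_empty_iff.1 this

theorem denseRange_iff [LocallyOfFiniteType (X ↘ An.SC)] [LocallyOfFiniteType (Y ↘ An.SC)]
    (f : X ⟶ Y) [f.IsOver An.SC] [QuasiCompact f] :
    DenseRange f.base ↔ DenseRange (An.Pts.map f) := by
  have := lfp_hom f
  have hc := f.isLocallyConstructible_image (s := Set.univ) IsLocallyConstructible.univ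
  rw [Set.image_univ] at hc
  rw [DenseRange, DenseRange, range_map_of_forall_exists]
  exact dense_iff hc

end Groth.Agent.AnPtsTop
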