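import Groth.Agent.Lib.AnPtsTop.Density
import Mathlib.Analysis.Complex.Cardinality
import Mathlib.RingTheory.Artinian.Module

/-!
Discreteness of the complex topology.
-/

open AlgebraicGeometry CategoryTheory TopologicalSpace Topology Opposite Limits

noncomputable section

namespace Groth.Agent.AnPtsTop

lemma isArtinianRing_of_countable_points {A : Type*} [CommRing A] [Algebra ℂ A] [Algebra.FiniteType ℂ A]
    [Nontrivial A] [Countable (A →ₐ[ℂ] ℂ)] : IsArtinianRing A := by
  obtain ⟨s, g, hinj, hfin⟩ := exists_finite_inj_algHom_of_fg ℂ A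
  let := g.toRingHom.toAlgebra
  have : IsScalarTower ℂ (MvPolynomial (Fin s) ℂ) A := IsScalarTower.of_algebraMap_eq fun c => (g.commutes c).symm
  have : Algebra.IsIntegral (MvPolynomial (Fin s) ℂ) A := ⟨RingHom.Finite.to_isIntegral hfin⟩
  rcases Nat.eq_zero_or_pos s with rfl | hs
  · have : Module.Finite (MvPolynomial (Fin 0) ℂ) A := hfin
    have : Module.Finite ℂ (MvPolynomial (Fin 0) ℂ) :=
      Module.Finite.equiv (MvPolynomial.isEmptyAlgEquiv ℂ (Fin 0)).symm.toLinearEquiv
    have : Module.Finite ℂ A := Module.Finite.trans (MvPolynomial (Fin 0) ℂ) A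
    exact IsArtinianRing.of_finite ℂ A
  · exfalso
    have hsurj : Function.Surjective fun ψ : A →ₐ[ℂ] ℂ => ψ (g (MvPolynomial.X ⟨0, hs⟩)) := by
      intro c
      obtain ⟨ψ, hψ⟩ := exists_algHom_lift (A := A) (MvPolynomial.aeval (R := ℂ) fun _ : Fin s => c)
        (by rw [(RingHom.injective_iff_ker_eq_bot _).1 (show Function.Injective (algebraMap _ A) from hinj)]
            exact bot_le)
      refine ⟨ψ, ?_⟩
      have := hψ (MvPolynomial.X ⟨0, hs⟩)
      rwa [MvPolynomial.aeval_X] at this
    have := hsurj.countable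
    exact not_countable_complex (Set.countable_univ)

lemma discreteTopology_iff {X : Scheme.{0}} [X.Over An.SC] [LocallyOfFiniteType (X ↘ An.SC)] :
    DiscreteTopology X ↔ DiscreteTopology (An.Pts X) := by
  constructor
  · intro h
    exact discreteTopology_iff_isOpen_singleton.2 fun x => by
      have := (isOpen_discrete ({x.pt} : Set X)).preimage An.Pts.continuous_pt
      rwa [show An.Pts.pt ⁻¹' {x.pt} = {x} from Set.ext fun y => ⟨fun hy => pt_injective hy, fun hy => hy ▸ rfl⟩] at this
  · intro h
    refine discreteTopology_iff_isOpen_singleton.2 fun p => ?_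
    obtain ⟨U, hU, hpU, -⟩ := exists_isAffineOpen_mem_and_subset (U := (⊤ : X.Opens)) (x := p) trivial
    have : IsAffine U.toScheme := hU
    obtain ⟨n, s, hs⟩ := exists_generators (X := U.toScheme)
    have : DiscreteTopology (An.Pts U.toScheme) := (isOpenEmbedding_map U.ι).isEmbedding.discreteTopology
    have : SecondCountableTopology (An.Pts U.toScheme) :=
      (isClosedEmbedding_of_generators s hs).isInducing.secondCountableTopology
    have : Countable (An.Pts U.toScheme) := separableSpace_iff_countable.1 inferInstance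
    let := (An.strHom U.toScheme).toAlgebra
    have : Algebra.FiniteType ℂ Γ(U.toScheme, ⊤) := by
      let F : MvPolynomial (Fin n) ℂ →ₐ[ℂ] Γ(U.toScheme, ⊤) :=
        { MvPolynomial.eval₂Hom (An.strHom U.toScheme) s with
          commutes' := fun c => MvPolynomial.eval₂Hom_C _ _ c }
      exact Algebra.FiniteType.of_surjective F hs
    have : Countable (Γ(U.toScheme, ⊤) →ₐ[ℂ] ℂ) := by
      refine Function.Surjective.countable (f := fun x : An.Pts U.toScheme =>
        (⟨evHom x ⊤ (Opens.mem_top _), evTop_strHom x⟩ : Γ(U.toScheme, ⊤) →ₐ[ℂ] ℂ)) fun ψ => ?_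
      obtain ⟨y, hy⟩ := exists_pt_of_ringHom ψ.toRingHom ψ.commutes
      exact ⟨y, AlgHom.ext hy⟩
    have : Nonempty U.toScheme := ⟨⟨p, hpU⟩⟩
    have : Nontrivial Γ(U.toScheme, ⊤) :=
      PrimeSpectrum.nonempty_iff_nontrivial.1 ⟨U.toScheme.isoSpec.hom ⟨p, hpU⟩⟩
    have := isArtinianRing_of_countable_points (A := Γ(U.toScheme, ⊤))
    have : DiscreteTopology U.toScheme := by
      let e : U.toScheme ≃ₜ PrimeSpectrum Γ(U.toScheme, ⊤) := U.toScheme.isoSpec.hom.homeomorph
      exact e.isEmbedding.discreteTopology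
    have := U.ι.isOpenEmbedding.isOpenMap _ (isOpen_discrete ({⟨p, hpU⟩} : Set U.toScheme))
    convert this using 1
    exact (Set.image_singleton (f := ⇑U.ι) (a := ⟨p, hpU⟩)).symm

end Groth.Agent.AnPtsTop
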