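import Groth.Agent.Lib.AnPtsTop.OpenPts
import Groth.Agent.Lib.AnPtsTop.Connected
import Mathlib.AlgebraicGeometry.Morphisms.Etale
import Mathlib.Topology.IsLocalHomeomorph
import Mathlib.RingTheory.Unramified.LocalStructure

/-!
Etale morphisms induce local homeomorphisms of complex points.
-/

open AlgebraicGeometry CategoryTheory TopologicalSpace Topology Opposite Limits Filter

noncomputable section

namespace Groth.Agent.AnPtsTop

section roots

variable {T R : Type*} [TopologicalSpace T] [CommRing R] (e : T → R →+* ℂ) {t₀ : T}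
  (he : ∀ a, ContinuousAt (fun t => e t a) t₀) (f : Polynomial R)

/-- `(f(r) - f(r'))/(r - r')` -/
def divDiff (p : T × ℂ × ℂ) : ℂ :=
  ∑ l ∈ Finset.range (f.natDegree + 1), e p.1 (f.coeff l) *
    ∑ k ∈ Finset.range l, p.2.1 ^ k * p.2.2 ^ (l - 1 - k)

omit [TopologicalSpace T] in
lemma divDiff_mul (t : T) (r r' : ℂ) :
    (r - r') * divDiff e f (t, r, r') = f.eval₂ (e t) r - f.eval₂ (e t) r' := by
  rw [Polynomial.eval₂_eq_sum_range, Polynomial.eval₂_eq_sum_range, ← Finset.sum_sub_distrib, divDiff, Finset.mul_sum]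
  refine Finset.sum_congr rfl fun l _ => ?_
  rw [← mul_sub, ← geom_sum₂_mul]
  ring

omit [TopologicalSpace T] in
lemma divDiff_self (t : T) (r : ℂ) : divDiff e f (t, r, r) = f.derivative.eval₂ (e t) r := by
  conv_rhs => rw [Polynomial.derivative_apply, Polynomial.sum_over_range' _ (by simp) (f.natDegree + 1) (Nat.lt_succ_self _)]
  rw [Polynomial.eval₂_finsetSum, divDiff]
  refine Finset.sum_congr rfl fun l _ => ?_
  simp only [Polynomial.eval₂_mul, Polynomial.eval₂_C, Polynomial.eval₂_pow, Polynomial.eval₂_X, Polynomial.eval₂_natCast, map_mul, map_natCast]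
  rw [geom_sum₂_self]
  ring

include he

lemma continuousAt_eval₂ {r : T → ℂ} (hr : ContinuousAt r t₀) (q : Polynomial R) :
    ContinuousAt (fun t => q.eval₂ (e t) (r t)) t₀ := by
  simp only [Polynomial.eval₂_eq_sum_range]
  exact continuousAt_finsetSum' fun l _ => (he _).mul (hr.pow l)

lemma continuousAt_divDiff (r r' : ℂ) : ContinuousAt (divDiff e f) (t₀, r, r') := by
  refine continuousAt_finsetSum' fun l _ => ContinuousAt.mul ?_ (continuousAt_finsetSum' fun k _ => ?_)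
  · exact ContinuousAt.comp (g := fun t => e t (f.coeff l)) (f := Prod.fst) (x := (t₀, r, r')) (he _) continuousAt_fst
  · fun_prop

lemma eventually_exists_root_near (hf : f.Monic) {c₀ : ℂ} (hc₀ : f.eval₂ (e t₀) c₀ = 0) {δ : ℝ} (hδ : 0 < δ) :
    ∀ᶠ t in 𝓝 t₀, ∃ r, f.eval₂ (e t) r = 0 ∧ dist r c₀ < δ := by
  have hd : f.natDegree ≠ 0 := fun h => by
    rw [hf.natDegree_eq_zero.1 h] at hc₀
    simp at hc₀
  have hev : ∀ᶠ t in 𝓝 t₀, ‖f.eval₂ (e t) c₀‖ < δ ^ f.natDegree := by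
    refine (continuousAt_eval₂ e he continuousAt_const f).norm.eventually_lt continuousAt_const ?_
    rw [hc₀, norm_zero]; exact pow_pos hδ _
  filter_upwards [hev] with t ht
  have hq : ((f.map (e t)).comp (Polynomial.X + Polynomial.C c₀)).Monic := (hf.map _).comp_X_add_C c₀
  have hqd : ((f.map (e t)).comp (Polynomial.X + Polynomial.C c₀)).natDegree = f.natDegree := by
    rw [Polynomial.natDegree_comp, Polynomial.natDegree_X_add_C, mul_one, hf.natDegree_map]
  obtain ⟨r, hr, hrle⟩ := exists_root_norm_pow_le hq (hqd ▸ hd)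
  rw [hqd, Polynomial.coeff_zero_eq_eval_zero, Polynomial.eval_comp] at hrle
  rw [Polynomial.IsRoot, Polynomial.eval_comp] at hr
  simp only [Polynomial.eval_add, Polynomial.eval_X, Polynomial.eval_C, zero_add, Polynomial.eval_map] at hr hrle
  refine ⟨r + c₀, hr, ?_⟩
  rw [dist_eq_norm, add_sub_cancel_right]
  exact lt_of_pow_lt_pow_left₀ _ hδ.le (hrle.trans_lt ht)

end roots

variable {X Y : Scheme.{0}} [X.Over An.SC] [Y.Over An.SC]

/-- a morphism which is standard etale over affine opens gives an open partial homeomorphism -/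
lemma exists_openPartialHomeomorph [LocallyOfFiniteType (X ↘ An.SC)] [LocallyOfFiniteType (Y ↘ An.SC)]
    (g : X ⟶ Y) [g.IsOver An.SC] {V : Y.Opens} (hV : IsAffineOpen V) {D : X.Opens} (hD : IsAffineOpen D)
    (hDV : D ≤ g ⁻¹ᵁ V)
    (hst : letI := (g.appLE V D hDV).hom.toAlgebra; Algebra.IsStandardEtale Γ(Y, V) Γ(X, D))
    (x₀ : An.Pts X) (hx₀ : x₀.pt ∈ D) :
    ∃ h : OpenPartialHomeomorph (An.Pts X) (An.Pts Y), x₀ ∈ h.source ∧ Set.EqOn (An.Pts.map g) h h.source := by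
  classical
  let := (g.appLE V D hDV).hom.toAlgebra
  obtain ⟨P⟩ := hst.nonempty_standardEtalePresentation
  set e := P.equivRing.symm with he_def
  set E : {x : An.Pts Y // x.pt ∈ V} → Γ(Y, V) →+* ℂ := fun y => evHom y.1 V y.2
  have hE : ∀ (y₀ : {x : An.Pts Y // x.pt ∈ V}) a, ContinuousAt (fun y => E y a) y₀ :=
    fun y₀ a => (continuous_ev V a).continuousAt
  set G := (P.x : Γ(X, D))
  have hP : P.P.HasMap G := P.hasMap
  set f := P.P.f
  set q := P.P.g
  have hmem : ∀ x : An.Pts X, x.pt ∈ D → (An.Pts.map g x).pt ∈ V := fun x h => by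
    rw [An.Pts.pt_map]; exact hDV h
  let π : {x : An.Pts X // x.pt ∈ D} → {x : An.Pts Y // x.pt ∈ V} := fun x => ⟨An.Pts.map g x.1, hmem _ x.2⟩
  have hroot : ∀ (x : {x : An.Pts X // x.pt ∈ D}) (p : Polynomial Γ(Y, V)),
      p.eval₂ (E (π x)) (x.1.ev D x.2 G) = x.1.ev D x.2 (Polynomial.aeval G p) := by
    intro x p
    change _ = evHom x.1 D x.2 (p.eval₂ (g.appLE V D hDV).hom G)
    rw [Polynomial.hom_eval₂]
    refine Polynomial.eval₂_congr ?_ rfl rfl
    ext a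
    exact ev_map_appLE g x.1 hDV x.2 a
  set c₀ := x₀.ev D hx₀ G
  set y₀ := π ⟨x₀, hx₀⟩
  have hc₀ : f.eval₂ (E y₀) c₀ = 0 := by
    rw [hroot, hP.1]; exact map_zero (evHom x₀ D hx₀)
  have hder : f.derivative.eval₂ (E y₀) c₀ ≠ 0 := by
    rw [hroot]; exact ((hP.isUnit_derivative_f).map (evHom x₀ D hx₀)).ne_zero
  have hq₀ : q.eval₂ (E y₀) c₀ ≠ 0 := by
    rw [hroot]; exact (hP.2.map (evHom x₀ D hx₀)).ne_zero
  -- a box on which roots are unique and `g` does not vanish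
  have hB : ∀ᶠ p in 𝓝 (y₀, c₀, c₀), divDiff E f p ≠ 0 ∧ q.eval₂ (E p.1) p.2.1 ≠ 0 := by
    refine ((continuousAt_divDiff E (hE y₀) f c₀ c₀).eventually_ne (by rwa [divDiff_self])).and ?_
    have : ContinuousAt (fun p : {x : An.Pts Y // x.pt ∈ V} × ℂ × ℂ => q.eval₂ (E p.1) p.2.1) (y₀, c₀, c₀) :=
      continuousAt_eval₂ (fun p : {x : An.Pts Y // x.pt ∈ V} × ℂ × ℂ => E p.1)
        (fun a => ContinuousAt.comp (g := fun y => E y a) (f := Prod.fst) (x := (y₀, c₀, c₀)) (hE y₀ a) continuousAt_fst)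
        (by fun_prop) q
    exact this.eventually_ne hq₀
  rw [nhds_prod_eq, nhds_prod_eq, eventually_prod_iff] at hB
  obtain ⟨pO, hO, pR, hR, hbox⟩ := hB
  rw [eventually_prod_iff] at hR
  obtain ⟨pr, hr, pr', hr', hR⟩ := hR
  obtain ⟨δ, hδ, hball⟩ := Metric.eventually_nhds_iff.1 (hr.and hr')
  obtain ⟨O', hO', hO'o, hO'0⟩ := eventually_nhds_iff.1 (hO.and (eventually_exists_root_near E (hE y₀) f P.monic_f hc₀ hδ))
  have huniq : ∀ y ∈ O', ∀ r r', f.eval₂ (E y) r = 0 → f.eval₂ (E y) r' = 0 →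
      dist r c₀ < δ → dist r' c₀ < δ → r = r' := by
    intro y hy r r' hr hr' hd hd'
    have := divDiff_mul E f y r r'
    rw [hr, hr', sub_zero] at this
    exact sub_eq_zero.1 ((mul_eq_zero.1 this).resolve_right
      (hbox (hO' y hy).1 (hR (hball hd).1 (hball hd').2)).1)
  have hqne : ∀ y ∈ O', ∀ r, dist r c₀ < δ → q.eval₂ (E y) r ≠ 0 := fun y hy r hd =>
    (hbox (hO' y hy).1 (hR (x := r) (hball hd).1 (y := r) (hball hd).2)).2
  -- the section
  have hsec : ∀ (y : {x : An.Pts Y // x.pt ∈ V}) (r : ℂ), f.eval₂ (E y) r = 0 → q.eval₂ (E y) r ≠ 0 →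
      ∃ x : {x : An.Pts X // x.pt ∈ D}, π x = y ∧ x.1.ev D x.2 G = r ∧
        ∀ b, ∀ Q, e.symm b = Ideal.Quotient.mk _ Q →
          x.1.ev D x.2 b = Polynomial.eval₂ (Polynomial.eval₂RingHom (E y) r) (q.eval₂ (E y) r)⁻¹ Q := by
    intro y r hr hq
    let : Algebra Γ(Y, V) ℂ := (E y).toAlgebra
    have hm : P.P.HasMap r := ⟨hr, Ne.isUnit hq⟩
    let ψ : Γ(X, D) →ₐ[Γ(Y, V)] ℂ := (P.P.lift r hm).comp e.symm.toAlgHom
    obtain ⟨x, hx, hxev⟩ := exists_pt_of_ringHom_open hD ψ.toRingHom fun c => by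
      have h1 : strOn D c = (g.appLE V D hDV) (strOn V c) := by
        change X.presheaf.map (homOfLE le_top).op (An.strHom X c) =
          (Y.presheaf.map (homOfLE le_top).op ≫ g.appLE V D hDV) (An.strHom Y c)
        rw [Scheme.Hom.map_appLE, ← appTop_comp_strHom g]
        change (g.appTop ≫ X.presheaf.map (homOfLE le_top).op) (An.strHom Y c) = _
        congr 1
      rw [h1]
      exact (ψ.commutes (strOn V c)).trans (ev_strOn y.1 y.2 c)
    refine ⟨⟨x, hx⟩, ?_, ?_, fun b Q hQ => ?_⟩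
    · refine Subtype.ext (pts_eq_of_ev hV (hmem x hx) y.2 fun a => ?_)
      rw [ev_map_appLE g x hDV hx, hxev]
      exact ψ.commutes a
    · rw [hxev]
      change P.P.lift r hm (e.symm P.x) = r
      rw [show e.symm P.x = P.P.X from P.equivRing_x, StandardEtalePair.lift_X]
    · rw [hxev]
      change P.P.lift r hm (e.symm b) = _
      rw [hQ, StandardEtalePair.lift]
      change Polynomial.aevalAeval r (↑(hm.2.unit⁻¹) : ℂ) Q = _
      rw [show (↑(hm.2.unit⁻¹) : ℂ) = (q.eval₂ (E y) r)⁻¹ by rw [Units.val_inv_eq_inv_val]; rfl]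
      exact DFunLike.congr_fun (show (Polynomial.aevalAeval r (q.eval₂ (E y) r)⁻¹).toRingHom =
        Polynomial.eval₂RingHom (Polynomial.eval₂RingHom (E y) r) (q.eval₂ (E y) r)⁻¹ from by
          refine Polynomial.ringHom_ext (fun a => ?_) ?_
          · simp [Polynomial.eval₂_C]; rfl
          · simp) Q
  have hext : ∀ x x' : {x : An.Pts X // x.pt ∈ D}, π x = π x' → x.1.ev D x.2 G = x'.1.ev D x'.2 G → x = x' := by
    intro x x' hπ hG
    let : Algebra Γ(Y, V) ℂ := (E (π x)).toAlgebra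
    let ψ : Γ(X, D) →ₐ[Γ(Y, V)] ℂ := ⟨evHom x.1 D x.2, fun a => (ev_map_appLE g x.1 hDV x.2 a).symm⟩
    let ψ' : Γ(X, D) →ₐ[Γ(Y, V)] ℂ := ⟨evHom x'.1 D x'.2, fun a => by
      change _ = E (π x) a
      rw [hπ]
      exact (ev_map_appLE g x'.1 hDV x'.2 a).symm⟩
    have he : ψ = ψ' := P.hom_ext hG
    exact Subtype.ext (pts_eq_of_ev hD x.2 x'.2 fun b => AlgHom.congr_fun he b)
  have hexr : ∀ y ∈ O', ∃ x : {x : An.Pts X // x.pt ∈ D}, π x = y ∧ dist (x.1.ev D x.2 G) c₀ < δ := by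
    intro y hy
    obtain ⟨r, hr, hd⟩ := (hO' y hy).2
    obtain ⟨x, hx, hxr, -⟩ := hsec y r hr (hqne y hy r hd)
    exact ⟨x, hx, hxr ▸ hd⟩
  let σ : {x : An.Pts Y // x.pt ∈ V} → An.Pts X := fun y => if h : y ∈ O' then (hexr y h).choose.1 else x₀
  have hσ : ∀ y ∈ O', ∃ h : (σ y).pt ∈ D, π ⟨σ y, h⟩ = y ∧ dist ((σ y).ev D h G) c₀ < δ := by
    intro y hy
    simp only [σ, dif_pos hy]
    exact ⟨(hexr y hy).choose.2, (hexr y hy).choose_spec⟩
  have hre' : ∀ y (h : (σ y).pt ∈ D), π ⟨σ y, h⟩ = y → f.eval₂ (E y) ((σ y).ev D h G) = 0 := by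
    intro y h hπ
    have := hroot ⟨σ y, h⟩ f
    rw [hπ, hP.1] at this
    exact this.trans (map_zero (evHom _ D h))
  have hrc : ∀ y₁ ∈ O', ∀ r₁, f.eval₂ (E y₁) r₁ = 0 → dist r₁ c₀ < δ → ∀ ρ > (0 : ℝ),
      ∀ᶠ y in 𝓝 y₁, ∃ h : (σ y).pt ∈ D, dist ((σ y).ev D h G) r₁ < ρ := by
    intro y₁ hy₁ r₁ hr₁ hd₁ ρ hρ
    filter_upwards [hO'o.mem_nhds hy₁, eventually_exists_root_near E (hE y₁) f P.monic_f hr₁
      (lt_min hρ (sub_pos.2 hd₁))] with y hy hroot'
    obtain ⟨r, hr, hrd⟩ := hroot'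
    rw [lt_min_iff] at hrd
    obtain ⟨h, hπ, hd⟩ := hσ y hy
    refine ⟨h, ?_⟩
    have hre := hre' y h hπ
    rw [huniq y hy _ r hre hr hd (by linarith [dist_triangle r r₁ c₀])]
    exact hrd.1
  -- the sets
  let O : Set (An.Pts Y) := Subtype.val '' O'
  have hOo : IsOpen O := (An.Pts.isOpen_preimage_pt V).isOpenMap_subtype_val _ hO'o
  let N : Set (An.Pts X) := {x | ∃ h : x.pt ∈ D, π ⟨x, h⟩ ∈ O' ∧ dist (x.ev D h G) c₀ < δ}
  have hNo : IsOpen N := by
    have hπc : Continuous π := ((An.Pts.continuous_map g).comp continuous_subtype_val).subtype_mk _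
    have : N = Subtype.val '' (π ⁻¹' O' ∩ {x : {x : An.Pts X // x.pt ∈ D} | dist (x.1.ev D x.2 G) c₀ < δ}) := by
      ext x
      constructor
      · rintro ⟨h, h1, h2⟩; exact ⟨⟨x, h⟩, ⟨h1, h2⟩, rfl⟩
      · rintro ⟨⟨x, h⟩, ⟨h1, h2⟩, rfl⟩; exact ⟨h, h1, h2⟩
    rw [this]
    exact (An.Pts.isOpen_preimage_pt D).isOpenMap_subtype_val _
      ((hO'o.preimage hπc).inter (isOpen_lt ((continuous_ev D G).dist continuous_const) continuous_const))
  let inv : An.Pts Y → An.Pts X := fun y => if h : y.pt ∈ V then σ ⟨y, h⟩ else x₀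
  refine ⟨{ toFun := An.Pts.map g, invFun := inv, source := N, target := O,
            map_source' := ?_, map_target' := ?_, left_inv' := ?_, right_inv' := ?_,
            open_source := hNo, open_target := hOo,
            continuousOn_toFun := (An.Pts.continuous_map g).continuousOn, continuousOn_invFun := ?_ },
    ⟨hx₀, hO'0, by simpa [c₀] using hδ⟩, fun _ _ => rfl⟩
  · rintro x ⟨h, h1, h2⟩; exact ⟨_, h1, rfl⟩
  · rintro _ ⟨y, hy, rfl⟩
    simp only [inv, dif_pos y.2]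
    obtain ⟨h, hπ, hd⟩ := hσ y hy
    exact ⟨h, hπ.symm ▸ hy, hd⟩
  · rintro x ⟨h, h1, h2⟩
    simp only [inv, dif_pos (hmem x h)]
    obtain ⟨h', hπ, hd⟩ := hσ _ h1
    refine congrArg Subtype.val (hext ⟨σ (π ⟨x, h⟩), h'⟩ ⟨x, h⟩ hπ (huniq _ h1 _ _ ?_ ?_ hd h2))
    · exact hre' _ h' hπ
    · rw [hroot ⟨x, h⟩ f, hP.1]; exact map_zero (evHom _ D h)
  · rintro _ ⟨y, hy, rfl⟩
    simp only [inv, dif_pos y.2]
    obtain ⟨h, hπ, -⟩ := hσ y hy
    exact congrArg Subtype.val hπ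
  · rintro _ ⟨y₁, hy₁, rfl⟩
    refine ContinuousAt.continuousWithinAt ?_
    rw [← (An.Pts.isOpen_preimage_pt V).isOpenEmbedding_subtypeVal.continuousAt_iff (x := y₁) (g := inv)]
    refine ContinuousAt.congr (f := σ) ?_ (Filter.Eventually.of_forall fun y => show σ y = inv y.1 by simp [inv, show y.1.pt ∈ V from y.2])
    obtain ⟨h₁, hπ₁, hd₁⟩ := hσ y₁ hy₁
    have hr₁ := hre' y₁ h₁ hπ₁
    let R : {x : An.Pts Y // x.pt ∈ V} → ℂ := fun y => if h : (σ y).pt ∈ D then (σ y).ev D h G else 0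
    have hRc : ContinuousAt R y₁ := by
      rw [Metric.continuousAt_iff']
      intro ρ hρ
      filter_upwards [hrc y₁ hy₁ _ hr₁ hd₁ ρ hρ] with y hy
      obtain ⟨h, hd⟩ := hy
      simpa [R, dif_pos h, dif_pos h₁] using hd
    have hQ : ∀ b : Γ(X, D), ∃ Q, e.symm b = Ideal.Quotient.mk _ Q :=
      fun b => (Ideal.Quotient.mk_surjective (e.symm b)).imp fun _ h => h.symm
    choose Q hQ using hQ
    refine continuousAt_of_ev hD
      (fun b y => Polynomial.eval₂ (Polynomial.eval₂RingHom (E y) (R y)) (q.eval₂ (E y) (R y))⁻¹ (Q b)) h₁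
      (fun b => ?_) (fun b => ?_)
    · filter_upwards [hO'o.mem_nhds hy₁] with y hy
      obtain ⟨h, hπ, hd⟩ := hσ y hy
      refine ⟨h, ?_⟩
      have hre : f.eval₂ (E y) (R y) = 0 := by
        simp only [R, dif_pos h]
        exact hre' y h hπ
      obtain ⟨x, hxπ, hxG, hxb⟩ := hsec y (R y) hre (hqne y hy _ (by simpa [R, dif_pos h] using hd))
      have : (⟨σ y, h⟩ : {x : An.Pts X // x.pt ∈ D}) = x :=
        hext _ x (hπ.trans hxπ.symm) (by rw [hxG]; simp [R, dif_pos h])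
      subst this
      exact hxb b (Q b) (hQ b)
    · simp only [Polynomial.eval₂_eq_sum_range]
      refine continuousAt_finsetSum' fun l _ => ContinuousAt.mul ?_ (ContinuousAt.pow (ContinuousAt.inv₀ ?_ ?_) l)
      · simp only [Polynomial.coe_eval₂RingHom]
        exact continuousAt_eval₂ E (hE y₁) hRc _
      · simpa only [Polynomial.eval₂_eq_sum_range] using continuousAt_eval₂ E (hE y₁) hRc q
      · have := hqne y₁ hy₁ (R y₁) (by simpa [R, dif_pos h₁] using hd₁)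
        simpa only [Polynomial.eval₂_eq_sum_range] using this

theorem isLocalHomeomorph_map_of_etale [LocallyOfFiniteType (Y ↘ An.SC)] (g : X ⟶ Y) [g.IsOver An.SC] [Etale g] :
    IsLocalHomeomorph (An.Pts.map g) := by
  have : LocallyOfFiniteType (X ↘ An.SC) := lft_of_hom g
  refine IsLocalHomeomorph.mk (An.Pts.map g) fun x => ?_
  obtain ⟨V, hV, hxV, -⟩ := exists_isAffineOpen_mem_and_subset (U := (⊤ : Y.Opens)) (x := g x.pt) trivial
  obtain ⟨U, hU, hxU, hUV⟩ := exists_isAffineOpen_mem_and_subset (U := g ⁻¹ᵁ V) (x := x.pt) hxV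
  replace hUV : U ≤ g ⁻¹ᵁ V := hUV
  let := (g.appLE V U hUV).hom.toAlgebra
  have het : Algebra.Etale Γ(Y, V) Γ(X, U) :=
    HasRingHomProperty.appLE @Etale g inferInstance ⟨V, hV⟩ ⟨U, hU⟩ hUV
  let Q := (hU.primeIdealOf ⟨x.pt, hxU⟩).asIdeal
  obtain ⟨h, hhQ, hst⟩ := Algebra.IsEtaleAt.exists_isStandardEtale (R := Γ(Y, V)) Q
  have hxD : x.pt ∈ X.basicOpen h := by
    by_contra hx
    apply hhQ
    have : hU.primeIdealOf ⟨x.pt, hxU⟩ ∉ PrimeSpectrum.basicOpen h := by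
      intro hm
      apply hx
      have hp : (hU.primeIdealOf ⟨x.pt, hxU⟩) ∈ hU.fromSpec ⁻¹ᵁ X.basicOpen h := by
        rw [hU.fromSpec_preimage_basicOpen]; exact hm
      have : hU.fromSpec (hU.primeIdealOf ⟨x.pt, hxU⟩) ∈ X.basicOpen h := hp
      rwa [hU.fromSpec_primeIdealOf] at this
    simpa using this
  have hDU : X.basicOpen h ≤ U := X.basicOpen_le h
  refine exists_openPartialHomeomorph g hV (hU.basicOpen h) (hDU.trans hUV) ?_ x hxD
  let := (g.appLE V (X.basicOpen h) (hDU.trans hUV)).hom.toAlgebra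
  have : IsScalarTower Γ(Y, V) Γ(X, U) Γ(X, X.basicOpen h) := IsScalarTower.of_algebraMap_eq fun a => by
    change g.appLE V (X.basicOpen h) _ a = (g.appLE V U hUV ≫ X.presheaf.map (homOfLE hDU).op) a
    rw [Scheme.Hom.appLE_map]
  have := hU.isLocalization_basicOpen h
  exact Algebra.IsStandardEtale.of_equiv
    ((IsLocalization.algEquiv (Submonoid.powers h) (Localization.Away h) Γ(X, X.basicOpen h)).restrictScalars Γ(Y, V))

end Groth.Agent.AnPtsTop
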