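import Groth.Agent.Lib.AnPtsTop.Density
import Mathlib.AlgebraicGeometry.Morphisms.Affine
import Mathlib.AlgebraicGeometry.Morphisms.Separated
import Mathlib.Topology.SeparatedMap

/-!
Points of fibre products; separatedness.
-/

open AlgebraicGeometry CategoryTheory TopologicalSpace Topology Opposite Limits

noncomputable section

namespace Groth.Agent.AnPtsTop

variable {X Y S : Scheme.{0}} [X.Over An.SC] [Y.Over An.SC] [S.Over An.SC]

lemma subring_eq_top_of_isPushout {A B C D : CommRingCat.{0}} {f : A ⟶ B} {g : A ⟶ C} {i : B ⟶ D} {j : C ⟶ D}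
    (h : IsPushout f g i j) (R : Subring D) (hi : ∀ b, i b ∈ R) (hj : ∀ c, j c ∈ R) : R = ⊤ := by
  rw [eq_top_iff]
  intro d _
  let σ : D ⟶ CommRingCat.of R := h.desc (CommRingCat.ofHom (i.hom.codRestrict R hi))
    (CommRingCat.ofHom (j.hom.codRestrict R hj)) (by
      ext a
      exact congrArg (fun φ => φ.hom a) h.w)
  have hσ : σ ≫ CommRingCat.ofHom R.subtype = 𝟙 D := by
    apply h.hom_ext
    · rw [← Category.assoc, h.inl_desc]; rfl
    · rw [← Category.assoc, h.inr_desc]; rfl
  rw [show d = ((σ d : R) : D) from (congrArg (fun φ => φ.hom d) hσ).symm]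
  exact (σ d).2

lemma pullback_generators (fU : X ⟶ S) (gV : Y ⟶ S) [fU.IsOver An.SC] [gV.IsOver An.SC]
    [IsAffine X] [IsAffine Y] [IsAffine S] {σ τ : Type*} (s : σ → Γ(X, ⊤)) (t : τ → Γ(Y, ⊤))
    (hs : Function.Surjective (MvPolynomial.eval₂Hom (An.strHom X) s))
    (ht : Function.Surjective (MvPolynomial.eval₂Hom (An.strHom Y) t)) :
    Function.Surjective (MvPolynomial.eval₂Hom (An.strHom (pullback fU gV))
      (Sum.elim (fun i => (pullback.fst fU gV).appTop (s i)) (fun i => (pullback.snd fU gV).appTop (t i)))) := by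
  have hpo := isPushout_appTop_of_isPullback (IsPullback.of_hasPullback fU gV)
  set E := MvPolynomial.eval₂Hom (An.strHom (pullback fU gV))
      (Sum.elim (fun i => (pullback.fst fU gV).appTop (s i)) (fun i => (pullback.snd fU gV).appTop (t i))) with hE
  rw [← RingHom.range_eq_top]
  refine subring_eq_top_of_isPushout hpo _ (fun b => ?_) (fun c => ?_)
  · obtain ⟨P, rfl⟩ := hs b
    refine ⟨MvPolynomial.rename Sum.inl P, ?_⟩
    change E (MvPolynomial.rename Sum.inl P) = (pullback.fst fU gV).appTop.hom _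
    rw [hE, ← RingHom.comp_apply ((pullback.fst fU gV).appTop.hom), MvPolynomial.comp_eval₂Hom,
      appTop_comp_strHom, MvPolynomial.eval₂Hom_rename]
    rfl
  · obtain ⟨P, rfl⟩ := ht c
    refine ⟨MvPolynomial.rename Sum.inr P, ?_⟩
    change E (MvPolynomial.rename Sum.inr P) = (pullback.snd fU gV).appTop.hom _
    rw [hE, ← RingHom.comp_apply ((pullback.snd fU gV).appTop.hom), MvPolynomial.comp_eval₂Hom,
      appTop_comp_strHom, MvPolynomial.eval₂Hom_rename]
    rfl

lemma isInducing_prod_of_isAffine (fU : X ⟶ S) (gV : Y ⟶ S) [fU.IsOver An.SC] [gV.IsOver An.SC]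
    [IsAffine X] [IsAffine Y] [IsAffine S]
    [LocallyOfFiniteType (X ↘ An.SC)] [LocallyOfFiniteType (Y ↘ An.SC)] :
    IsInducing (fun z => (An.Pts.map (pullback.fst fU gV) z, An.Pts.map (pullback.snd fU gV) z)) := by
  obtain ⟨n, s, hs⟩ := exists_generators (X := X)
  obtain ⟨m, t, ht⟩ := exists_generators (X := Y)
  refine IsInducing.of_comp (g := fun q : An.Pts X × An.Pts Y =>
      Sum.elim (fun i => q.1.evTop (s i)) (fun i => q.2.evTop (t i)))
    ((An.Pts.continuous_map _).prodMk (An.Pts.continuous_map _))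
    (continuous_pi fun i => ?_) ?_
  · cases i with
    | inl i => exact (continuous_evTop (s i)).comp continuous_fst
    | inr i => exact (continuous_evTop (t i)).comp continuous_snd
  · convert (isClosedEmbedding_of_generators _ (pullback_generators fU gV s t hs ht)).isInducing using 1
    ext z i
    cases i with
    | inl i => exact map_evTop _ z (s i)
    | inr i => exact map_evTop _ z (t i)

lemma isHomeomorph_pullback (f : X ⟶ S) (g : Y ⟶ S) [f.IsOver An.SC] [g.IsOver An.SC]
    [LocallyOfFiniteType (X ↘ An.SC)] [LocallyOfFiniteType (Y ↘ An.SC)] :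
    IsHomeomorph (fun z : An.Pts (pullback f g) =>
      (⟨(An.Pts.map (pullback.fst f g) z, An.Pts.map (pullback.snd f g) z),
        An.Pts.map_pullback_condition f g z⟩ :
        {q : An.Pts X × An.Pts Y // An.Pts.map f q.1 = An.Pts.map g q.2})) := by
  set Φ := fun z : An.Pts (pullback f g) =>
      (⟨(An.Pts.map (pullback.fst f g) z, An.Pts.map (pullback.snd f g) z),
        An.Pts.map_pullback_condition f g z⟩ :
        {q : An.Pts X × An.Pts Y // An.Pts.map f q.1 = An.Pts.map g q.2})
  have hcont : Continuous Φ :=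
    ((An.Pts.continuous_map _).prodMk (An.Pts.continuous_map _)).subtype_mk _
  refine ⟨hcont, ?_, ⟨?_, ?_⟩⟩
  · refine isOpenMap_iff_nhds_le.2 fun z => ?_
    obtain ⟨W, hW, hzW, -⟩ := exists_isAffineOpen_mem_and_subset (U := (⊤ : S.Opens))
      (x := f (pullback.fst f g z.pt)) trivial
    obtain ⟨U, hU, hzU, hUW⟩ := exists_isAffineOpen_mem_and_subset (U := f ⁻¹ᵁ W)
      (x := pullback.fst f g z.pt) hzW
    obtain ⟨V, hV, hzV, hVW⟩ := exists_isAffineOpen_mem_and_subset (U := g ⁻¹ᵁ W)
      (x := pullback.snd f g z.pt) (by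
        change g (pullback.snd f g z.pt) ∈ W
        rw [← Scheme.Hom.comp_apply, ← pullback.condition, Scheme.Hom.comp_apply]
        exact hzW)
    have : IsAffine W.toScheme := hW
    have : IsAffine U.toScheme := hU
    have : IsAffine V.toScheme := hV
    replace hUW : U ≤ f ⁻¹ᵁ W := hUW
    replace hVW : V ≤ g ⁻¹ᵁ W := hVW
    let fU := f.resLE W U hUW
    let gV := g.resLE W V hVW
    have : Scheme.Hom.IsOver fU An.SC := ⟨by
      change f.resLE W U hUW ≫ W.ι ≫ S ↘ An.SC = U.ι ≫ X ↘ An.SC
      rw [← Category.assoc, Scheme.Hom.resLE_comp_ι, Category.assoc, comp_over f An.SC]⟩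
    have : Scheme.Hom.IsOver gV An.SC := ⟨by
      change g.resLE W V hVW ≫ W.ι ≫ S ↘ An.SC = V.ι ≫ Y ↘ An.SC
      rw [← Category.assoc, Scheme.Hom.resLE_comp_ι, Category.assoc, comp_over g An.SC]⟩
    let j : pullback fU gV ⟶ pullback f g := pullback.map fU gV f g U.ι V.ι W.ι
      (f.resLE_comp_ι hUW) (g.resLE_comp_ι hVW)
    have hj1 : j ≫ pullback.fst f g = pullback.fst fU gV ≫ U.ι := pullback.lift_fst _ _ _
    have hj2 : j ≫ pullback.snd f g = pullback.snd fU gV ≫ V.ι := pullback.lift_snd _ _ _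
    have : Scheme.Hom.IsOver j An.SC := ⟨by
      change j ≫ pullback.fst f g ≫ X ↘ An.SC = pullback.fst fU gV ≫ U.ι ≫ X ↘ An.SC
      rw [← Category.assoc, hj1, Category.assoc]⟩
    have : IsOpenImmersion j := inferInstance
    have hsq : Prod.map (An.Pts.map U.ι) (An.Pts.map V.ι) ∘
        (fun u => (An.Pts.map (pullback.fst fU gV) u, An.Pts.map (pullback.snd fU gV) u)) =
        Subtype.val ∘ (Φ ∘ An.Pts.map j) := by
      ext1 u
      refine Prod.ext ?_ ?_
      · apply pts_ext
        change (u.1 ≫ pullback.fst fU gV) ≫ U.ι = (u.1 ≫ j) ≫ pullback.fst f g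
        rw [Category.assoc, Category.assoc, hj1]
      · apply pts_ext
        change (u.1 ≫ pullback.snd fU gV) ≫ V.ι = (u.1 ≫ j) ≫ pullback.snd f g
        rw [Category.assoc, Category.assoc, hj2]
    have hind : IsInducing (Φ ∘ An.Pts.map j) := by
      rw [← IsEmbedding.subtypeVal.isInducing.of_comp_iff, ← hsq]
      exact ((isOpenEmbedding_map U.ι).isInducing.prodMap (isOpenEmbedding_map V.ι).isInducing).comp
        (isInducing_prod_of_isAffine fU gV)
    have hrange : Set.range (Φ ∘ An.Pts.map j) =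
        {q | q.1.1.pt ∈ U} ∩ {q | q.1.2.pt ∈ V} := by
      apply subset_antisymm
      · rintro _ ⟨u, rfl⟩
        have := congr_fun hsq u
        simp only [Function.comp_apply] at this
        simp only [Function.comp_apply, Set.mem_inter_iff, Set.mem_ofPred_eq, ← this, Prod.map_fst,
          Prod.map_snd, An.Pts.pt_map]
        exact ⟨Subtype.prop _, Subtype.prop _⟩
      · rintro ⟨⟨a, b⟩, hab⟩ ⟨ha, hb⟩
        obtain ⟨a', rfl⟩ := exists_map_eq_of_isOpenImmersion U.ι a (by rw [Scheme.Opens.range_ι]; exact ha)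
        obtain ⟨b', rfl⟩ := exists_map_eq_of_isOpenImmersion V.ι b (by rw [Scheme.Opens.range_ι]; exact hb)
        have hcond : a'.1 ≫ fU = b'.1 ≫ gV := by
          rw [← cancel_mono W.ι, Category.assoc, Category.assoc, Scheme.Hom.resLE_comp_ι,
            Scheme.Hom.resLE_comp_ι, ← Category.assoc, ← Category.assoc]
          exact congrArg Subtype.val hab
        refine ⟨⟨pullback.lift a'.1 b'.1 hcond, ?_⟩, ?_⟩
        · change pullback.lift a'.1 b'.1 hcond ≫ pullback.fst fU gV ≫ U.toScheme ↘ An.SC = _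
          rw [pullback.lift_fst_assoc, a'.2]
        · apply Subtype.ext
          refine (congr_fun hsq.symm _).trans ?_
          refine Prod.ext (pts_ext ?_) (pts_ext ?_)
          · change (pullback.lift a'.1 b'.1 hcond ≫ _) ≫ U.ι = a'.1 ≫ U.ι
            rw [pullback.lift_fst]
          · change (pullback.lift a'.1 b'.1 hcond ≫ _) ≫ V.ι = b'.1 ≫ V.ι
            rw [pullback.lift_snd]
    have hopen : IsOpen (Set.range (Φ ∘ An.Pts.map j)) := by
      rw [hrange]
      exact ((An.Pts.isOpen_preimage_pt U).preimage (continuous_fst.comp continuous_subtype_val)).inter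
        ((An.Pts.isOpen_preimage_pt V).preimage (continuous_snd.comp continuous_subtype_val))
    obtain ⟨u, hu⟩ : Φ z ∈ Set.range (Φ ∘ An.Pts.map j) := by
      rw [hrange]
      simp only [Φ, Set.mem_inter_iff, Set.mem_ofPred_eq, An.Pts.pt_map]
      exact ⟨hzU, hzV⟩
    have hu' : An.Pts.map j u = z := by
      have := congrArg Subtype.val hu
      obtain ⟨e1, e2⟩ := Prod.ext_iff.1 this
      exact pts_ext (pullback.hom_ext (congrArg Subtype.val e1) (congrArg Subtype.val e2))
    calc 𝓝 (Φ z) = Filter.map (Φ ∘ An.Pts.map j) (𝓝 u) := by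
          rw [hind.map_nhds_of_mem u (hopen.mem_nhds ⟨u, rfl⟩), Function.comp_apply, hu']
      _ = Filter.map Φ (Filter.map (An.Pts.map j) (𝓝 u)) := Filter.map_map.symm
      _ ≤ Filter.map Φ (𝓝 z) := Filter.map_mono (hu' ▸ (An.Pts.continuous_map j).continuousAt)
  · intro z z' h
    obtain ⟨e1, e2⟩ := Prod.ext_iff.1 (congrArg Subtype.val h)
    exact pts_ext (pullback.hom_ext (congrArg Subtype.val e1) (congrArg Subtype.val e2))
  · rintro ⟨⟨a, b⟩, hab⟩
    refine ⟨⟨pullback.lift a.1 b.1 (congrArg Subtype.val hab), ?_⟩, ?_⟩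
    · change pullback.lift a.1 b.1 _ ≫ pullback.fst f g ≫ X ↘ An.SC = _
      exact (pullback.lift_fst_assoc _ _ _ _).trans a.2
    · exact Subtype.ext (Prod.ext (pts_ext (pullback.lift_fst _ _ _)) (pts_ext (pullback.lift_snd _ _ _)))

lemma isSeparated_iff (f : X ⟶ Y) [f.IsOver An.SC] [LocallyOfFiniteType (X ↘ An.SC)] :
    IsSeparated f ↔ IsSeparatedMap (An.Pts.map f) := by
  have := lft_pullback f f
  have hd : Scheme.Hom.IsOver (pullback.diagonal f) An.SC := ⟨by
    change pullback.diagonal f ≫ pullback.fst f f ≫ X ↘ An.SC = X ↘ An.SC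
    rw [pullback.diagonal_fst_assoc]⟩
  have hH := isHomeomorph_pullback f f
  have hrange : Set.range (An.Pts.map (pullback.diagonal f)) =
      An.Pts.pt ⁻¹' Set.range (pullback.diagonal f) := range_map_of_forall_exists _
  have hdiag : ∀ z : An.Pts (pullback f f),
      z ∈ Set.range (An.Pts.map (pullback.diagonal f)) ↔
        An.Pts.map (pullback.fst f f) z = An.Pts.map (pullback.snd f f) z := by
    intro z
    constructor
    · rintro ⟨x, rfl⟩
      apply pts_ext
      change (x.1 ≫ pullback.diagonal f) ≫ _ = (x.1 ≫ pullback.diagonal f) ≫ _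
      rw [Category.assoc, Category.assoc, pullback.diagonal_fst, pullback.diagonal_snd]
    · intro h
      refine ⟨An.Pts.map (pullback.fst f f) z, pts_ext (pullback.hom_ext ?_ ?_)⟩
      · simp
      · simp only [An.Pts.map_val, Category.assoc, pullback.diagonal_snd, Category.comp_id]
        exact congrArg Subtype.val h
  have key : IsSeparatedMap (An.Pts.map f) ↔
      IsClosed (An.Pts.pt ⁻¹' Set.range (pullback.diagonal f) : Set (An.Pts (pullback f f))) := by
    rw [isSeparatedMap_iff_isClosed_diagonal]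
    let h := hH.homeomorph _
    rw [← h.isClosed_preimage, ← hrange]
    refine iff_of_eq (congrArg _ (Set.ext fun z => ?_))
    rw [hdiag]
    rfl
  rw [key]
  refine ⟨fun h => (pullback.diagonal f).isClosedEmbedding.isClosed_range.preimage An.Pts.continuous_pt,
    fun h => ⟨IsClosedImmersion.of_isPreimmersion _ ?_⟩⟩
  have hlc : IsLocallyConstructible (Set.range (pullback.diagonal f)) := by
    obtain ⟨U, C, hU, hC, e⟩ := (pullback.diagonal f).isLocallyClosed_range
    rw [e]
    exact (isLocallyConstructible_of_isOpen hU).inter (isLocallyConstructible_of_isClosed hC)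
  have := (isOpen_iff (isLocallyConstructible_compl hlc)).2 (by rw [Set.preimage_compl]; exact h.isOpen_compl)
  exact isOpen_compl_iff.1 this

instance : Subsingleton (An.Pts An.SC) :=
  ⟨fun a b => pts_ext <| by
    have ha := a.2
    have hb := b.2
    simp only [over] at ha hb
    exact (Category.comp_id a.1).symm.trans (ha.trans (hb.symm.trans (Category.comp_id b.1)))⟩

lemma t2Space_iff [LocallyOfFiniteType (X ↘ An.SC)] :
    IsSeparated (X ↘ An.SC) ↔ T2Space (An.Pts X) := by
  have : Scheme.Hom.IsOver (X ↘ An.SC) An.SC := ⟨Category.comp_id _⟩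
  rw [Groth.Agent.AnPtsTop.isSeparated_iff (X ↘ An.SC), _root_.t2Space_iff]
  exact ⟨fun h x y hxy => h x y (Subsingleton.elim _ _) hxy, fun h x y _ hxy => h hxy⟩

end Groth.Agent.AnPtsTop
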