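import Groth.Prelude.Def_AnEps
import Groth.Agent.Lib.AnPtsTop.Pullback
import Groth.Agent.Lib.AnPtsTop.Etale
import Mathlib.CategoryTheory.Functor.Flat
import Mathlib.CategoryTheory.Limits.Constructions.LimitsOfProductsAndEqualizers
import Mathlib.Algebra.Category.Grp.AB

/-!
The comparison functor is a morphism of sites.
-/

open AlgebraicGeometry CategoryTheory CategoryTheory.Limits TopologicalSpace Opposite

set_option backward.isDefEq.respectTransparency.types false

noncomputable section

namespace Groth.Agent.AnPtsTop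

universe v₁ v₂ u₁ u₂ v₃ u₃

set_option backward.defeqAttrib.useBackward true in
set_option backward.isDefEq.respectTransparency false in
/-- evaluation of a left Kan extension as a colimit (no size restrictions) -/
def lanEvalIso {C : Type u₁} [Category.{v₁} C] {D : Type u₂} [Category.{v₂} D] {E : Type u₃} [Category.{v₃} E]
    (F : C ⥤ D) [∀ G : C ⥤ E, F.HasPointwiseLeftKanExtension G] (X : D)
    [HasColimitsOfShape (CostructuredArrow F X) E] :
    F.lan ⋙ (evaluation D E).obj X ≅
      (Functor.whiskeringLeft _ _ E).obj (CostructuredArrow.proj F X) ⋙ colim :=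
  NatIso.ofComponents (fun G =>
    IsColimit.coconePointUniqueUpToIso
    (Functor.isPointwiseLeftKanExtensionLeftKanExtensionUnit F G X)
    (colimit.isColimit _)) (fun {G₁ G₂} φ => by
      apply (Functor.isPointwiseLeftKanExtensionLeftKanExtensionUnit F G₁ X).hom_ext
      intro T
      have h₁ := fun (G : C ⥤ E) => IsColimit.comp_coconePointUniqueUpToIso_hom
        (Functor.isPointwiseLeftKanExtensionLeftKanExtensionUnit F G X) (colimit.isColimit _) T
      have h₂ := congr_app (F.lanUnit.naturality φ) T.left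
      dsimp at h₁ h₂ ⊢
      simp only [Category.assoc] at h₁ ⊢
      simp only [Functor.lan, Functor.lanUnit] at h₂ ⊢
      rw [reassoc_of% h₁, NatTrans.naturality_assoc, ← reassoc_of% h₂, h₁,
        ι_colimMap, Functor.whiskerLeft_app]
      rfl)

/-- left Kan extension of abelian presheaves along a flat functor is left exact -/
theorem lan_preservesFiniteLimits {C : Type 1} [Category.{0} C] {D : Type 1} [Category.{0} D] (F : C ⥤ D)
    [RepresentablyFlat F] : PreservesFiniteLimits (F.op.lan : (Cᵒᵖ ⥤ AddCommGrpCat.{1}) ⥤ Dᵒᵖ ⥤ AddCommGrpCat.{1}) := by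
  have hshape : ∀ K : Dᵒᵖ, HasColimitsOfShape (CostructuredArrow F.op K) AddCommGrpCat.{1} ∧
      PreservesFiniteLimits (colim : (CostructuredArrow F.op K ⥤ AddCommGrpCat.{1}) ⥤ _) := by
    intro K
    have : IsFiltered (CostructuredArrow F.op K) :=
      IsFiltered.of_equivalence (structuredArrowOpEquivalence F (unop K))
    have : Small.{1} (CostructuredArrow F.op K) := small_self _
    have : EssentiallySmall.{1} (CostructuredArrow F.op K) := essentiallySmall_of_small_of_locallySmall _
    let e := equivSmallModel.{1} (CostructuredArrow F.op K)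
    have : IsFiltered (SmallModel.{1} (CostructuredArrow F.op K)) := IsFiltered.of_equivalence e
    have : HasColimitsOfShape (CostructuredArrow F.op K) AddCommGrpCat.{1} :=
      hasColimitsOfShape_of_equivalence e.symm
    have : HasExactColimitsOfShape (SmallModel.{1} (CostructuredArrow F.op K)) AddCommGrpCat.{1} := inferInstance
    have := HasExactColimitsOfShape.of_domain_equivalence (C := AddCommGrpCat.{1}) e.symm
    exact ⟨‹_›, inferInstance⟩
  have := fun K => (hshape K).1
  apply preservesFiniteLimits_of_preservesFiniteLimitsOfSize.{1}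
  intro J _ _
  apply preservesLimitsOfShape_of_evaluation (F.op.lan : (Cᵒᵖ ⥤ AddCommGrpCat.{1}) ⥤ Dᵒᵖ ⥤ AddCommGrpCat.{1}) J
  intro K
  have := (hshape K).2
  exact preservesLimitsOfShape_of_natIso (lanEvalIso F.op K).symm

variable {X : Scheme.{0}} [X.Over An.SC] [LocallyOfFiniteType (X ↘ An.SC)]

lemma lft_etale (U : X.Etale) : LocallyOfFiniteType (U.left ↘ An.SC) :=
  have : Etale (U.left ↘ X) := U.prop
  lft_of_hom (U.left ↘ X)

variable [Fact An.EtaleLH]

theorem eps_preservesPullbacks : PreservesLimitsOfShape WalkingCospan (An.eps X) := by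
  constructor
  intro K
  suffices ∀ {U V W : X.Etale} (a : U ⟶ W) (b : V ⟶ W), PreservesLimit (cospan a b) (An.eps X) from
    preservesLimit_of_iso_diagram _ (diagramIsoCospan K).symm
  intro U V W a b
  refine preservesLimit_of_preserves_limit_cone (pullbackIsPullback a b)
    ((isLimitMapConePullbackConeEquiv (An.eps X) _).symm ?_)
  have := lft_etale U
  have := lft_etale V
  have hsq : IsPullback (pullback.fst a b).left (pullback.snd a b).left a.left b.left :=
    ((IsPullback.of_hasPullback a b).map (MorphismProperty.Over.forget _ _ X ⋙ Over.forget X) :)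
  let e := hsq.isoPullback
  have he : Scheme.Hom.IsOver (X := (pullback a b).left) e.hom An.SC := ⟨by
    change e.hom ≫ pullback.fst a.left b.left ≫ (U.left ↘ X) ≫ X ↘ An.SC = ((pullback a b).left ↘ X) ≫ X ↘ An.SC
    rw [← Category.assoc, hsq.isoPullback_hom_fst, ← Category.assoc]
    congr 1
    exact Over.w (pullback.fst a b).hom⟩
  have hi : Scheme.Hom.IsOver (Y := (pullback a b).left) e.inv An.SC := ⟨by
    rw [Iso.inv_comp_eq]; exact (comp_over e.hom An.SC).symm⟩
  let H : An.Pts (pullback a b).left ≃ₜ An.Pts (pullback a.left b.left) :=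
    { toFun := An.Pts.map e.hom
      invFun := An.Pts.map e.inv
      left_inv := fun x => pts_ext (by simp)
      right_inv := fun x => pts_ext (by simp)
      continuous_toFun := An.Pts.continuous_map _
      continuous_invFun := An.Pts.continuous_map _ }
  let Φ := H.trans ((isHomeomorph_pullback a.left b.left).homeomorph _)
  have hΦ1 : ∀ x, (Φ x).1.1 = An.Pts.map (pullback.fst a b).left x := fun x => pts_ext (by
    change (x.1 ≫ e.hom) ≫ pullback.fst a.left b.left = x.1 ≫ (pullback.fst a b).left
    rw [Category.assoc, hsq.isoPullback_hom_fst])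
  have hΦ2 : ∀ x, (Φ x).1.2 = An.Pts.map (pullback.snd a b).left x := fun x => pts_ext (by
    change (x.1 ≫ e.hom) ≫ pullback.snd a.left b.left = x.1 ≫ (pullback.snd a b).left
    rw [Category.assoc, hsq.isoPullback_hom_snd])
  let q : ∀ s : PullbackCone ((An.eps X).map a) ((An.eps X).map b), s.pt.E →
      {q : An.Pts U.left × An.Pts V.left // An.Pts.map a.left q.1 = An.Pts.map b.left q.2} :=
    fun s w => ⟨(s.fst.toFun w, s.snd.toFun w), congr_fun (congrArg An.Cl.Hom.toFun s.condition) w⟩
  refine PullbackCone.IsLimit.mk _ (fun s => ⟨fun w => Φ.symm (q s w),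
      Φ.symm.continuous.comp ((s.fst.continuous.prodMk s.snd.continuous).subtype_mk _), fun w => ?_⟩)
    (fun s => ?_) (fun s => ?_) (fun s m h1 h2 => ?_)
  · change An.Pts.map ((pullback a b).left ↘ X) (Φ.symm (q s w)) = s.pt.p w
    rw [← s.fst.over w]
    change _ = An.Pts.map (U.left ↘ X) (s.fst.toFun w)
    rw [show s.fst.toFun w = (Φ (Φ.symm (q s w))).1.1 by rw [Φ.apply_symm_apply], hΦ1]
    apply pts_ext
    change _ ≫ _ = (_ ≫ (pullback.fst a b).left) ≫ U.hom
    rw [Category.assoc]
    congr 1
    exact (Over.w (pullback.fst a b).hom).symm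
  · refine An.Cl.hom_ext (funext fun w => ?_)
    change An.Pts.map (pullback.fst a b).left (Φ.symm (q s w)) = s.fst.toFun w
    rw [← hΦ1, Φ.apply_symm_apply]
  · refine An.Cl.hom_ext (funext fun w => ?_)
    change An.Pts.map (pullback.snd a b).left (Φ.symm (q s w)) = s.snd.toFun w
    rw [← hΦ2, Φ.apply_symm_apply]
  · refine An.Cl.hom_ext (funext fun w => Φ.injective ?_)
    change Φ (m.toFun w) = Φ (Φ.symm (q s w))
    rw [Φ.apply_symm_apply]
    exact Subtype.ext (Prod.ext ((hΦ1 _).trans (congr_fun (congrArg An.Cl.Hom.toFun h1) w))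
      ((hΦ2 _).trans (congr_fun (congrArg An.Cl.Hom.toFun h2) w)))

theorem eps_flat : RepresentablyFlat (An.eps X) := by
  have hterm : IsTerminal (EtCoh.top X) := MorphismProperty.Over.mkIdTerminal _ X
  have := hterm.hasTerminal
  have : HasFiniteLimits X.Etale := hasFiniteLimits_of_hasTerminal_and_pullbacks
  have := eps_preservesPullbacks (X := X)
  have : PreservesLimit (Functor.empty.{0} X.Etale) (An.eps X) :=
    preservesLimit_of_preserves_limit_cone hterm
      ((isLimitMapConeEmptyConeEquiv _ _).symm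
        (IsTerminal.ofIso (An.Cl.selfIsTerminal (An.Pts X)) (An.epsTopIso X).symm))
  have : PreservesLimitsOfShape (Discrete PEmpty.{1}) (An.eps X) := preservesLimitsOfShape_pempty_of_preservesTerminal _
  have : PreservesFiniteLimits (An.eps X) := preservesFiniteLimits_of_preservesTerminal_and_pullbacks _
  exact flat_of_preservesFiniteLimits _

omit [Fact An.EtaleLH] in
lemma exists_openEmbedding_restrict {T : Type} [TopologicalSpace T] {A B : An.Cl T} (f : A ⟶ B) (w : A.E) :
    ∃ (h : Set A.E) (ho : IsOpen h), Topology.IsOpenEmbedding (An.Cl.restrictOpenι A h ho ≫ f).toFun ∧ w ∈ h := by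
  have hf : IsLocalHomeomorph f.toFun :=
    IsLocalHomeomorph.of_comp (g := B.p) (by rw [show B.p ∘ f.toFun = A.p from funext f.over]; exact A.lh) B.lh f.continuous
  obtain ⟨U, hU, hemb⟩ := isLocalHomeomorph_iff_isOpenEmbedding_restrict.1 hf w
  obtain ⟨O, hOU, hO, hwO⟩ := mem_nhds_iff.1 hU
  exact ⟨O, hO, hemb.comp ⟨Topology.IsEmbedding.inclusion hOU, (hO.isOpenMap_inclusion hOU).isOpen_range⟩, hwO⟩

theorem eps_coverPreserving :
    CoverPreserving X.smallEtaleTopology (An.Cl.topology (An.Pts X)) (An.eps X) := by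
  constructor
  intro U S hS x
  have := lft_etale U
  obtain ⟨𝒰, _, hP, hle⟩ := (Scheme.mem_smallGrothendieckTopology _ _).1 hS
  obtain ⟨i, p, hp⟩ := 𝒰.exists_eq x.pt
  let V : X.Etale := MorphismProperty.Over.mk ⊤ (𝒰.X i ↘ X) (hP i)
  let m : V ⟶ U := MorphismProperty.Over.homMk (𝒰.f i) (comp_over (𝒰.f i) X)
  have hmS : S m := hle _ _ (Presieve.ofArrows.mk i)
  have := lft_etale V
  obtain ⟨w, hw⟩ : ∃ w : An.Pts V.left, An.Pts.map (X := V.left) (Y := U.left) m.left w = x := by
    obtain ⟨w, hw⟩ := exists_pt_mem (X := V.left) (Z := m.left ⁻¹' {x.pt}) ⟨p, hp⟩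
      ((isClosed_pt x).preimage m.left.continuous).isLocallyClosed
    exact ⟨w, pt_injective ((An.Pts.pt_map _ w).trans hw)⟩
  obtain ⟨h, hwh, hh⟩ := exists_openEmbedding_restrict ((An.eps X).map m) w
  refine ⟨_, An.Cl.restrictOpenι ((An.eps X).obj V) h hwh ≫ (An.eps X).map m,
    ⟨V, m, _, hmS, rfl⟩, hh.1, ?_⟩
  exact ⟨⟨w, hh.2⟩, hw⟩

theorem epsCont : An.EpsCont X :=
  have := eps_flat (X := X)
  Functor.isContinuous_of_coverPreserving (compatiblePreservingOfFlat _ _) eps_coverPreserving

theorem epsPull_preservesFiniteLimits [An.EpsCont X] : PreservesFiniteLimits (An.epsPull X) := by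
  have := eps_flat (X := X)
  have := lan_preservesFiniteLimits (An.eps X)
  exact Functor.sheafPullbackConstruction.preservesFiniteLimits _ _ _ _

end Groth.Agent.AnPtsTop
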