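import Mathlib.Analysis.Complex.Basic
import Mathlib.Order.Filter.FilterProduct
import Mathlib.RingTheory.Valuation.ValuationSubring
import Mathlib.AlgebraicGeometry.AffineScheme
import Mathlib.AlgebraicGeometry.Stalk

/-!
The valuation ring of bounded germs along an ultrafilter, with its standard-part map; morphisms from
spectra into affine opens.
-/

open Filter Topology

noncomputable section

namespace Groth.Agent.AnPtsTop

variable {I : Type} (𝒰 : Ultrafilter I)

/-- bounded germs -/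
def boundedGerms : ValuationSubring (Germ (𝒰 : Filter I) ℂ) where
  carrier := {x | ∃ C : ℝ, Germ.LiftPred (fun z => ‖z‖ ≤ C) x}
  mul_mem' {a b} := by
    induction a using Germ.inductionOn with | h f => ?_
    induction b using Germ.inductionOn with | h g => ?_
    rintro ⟨C, hC⟩ ⟨D, hD⟩
    rw [Germ.liftPred_coe] at hC hD
    refine ⟨C * D, ?_⟩
    rw [← Germ.coe_mul, Germ.liftPred_coe]
    filter_upwards [hC, hD] with i h1 h2
    rw [Pi.mul_apply, norm_mul]
    exact mul_le_mul h1 h2 (norm_nonneg _) ((norm_nonneg _).trans h1)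
  one_mem' := ⟨1, by rw [← Germ.coe_one, Germ.liftPred_coe]; simp⟩
  add_mem' {a b} := by
    induction a using Germ.inductionOn with | h f => ?_
    induction b using Germ.inductionOn with | h g => ?_
    rintro ⟨C, hC⟩ ⟨D, hD⟩
    rw [Germ.liftPred_coe] at hC hD
    refine ⟨C + D, ?_⟩
    rw [← Germ.coe_add, Germ.liftPred_coe]
    filter_upwards [hC, hD] with i h1 h2
    exact (norm_add_le _ _).trans (add_le_add h1 h2)
  zero_mem' := ⟨0, by rw [← Germ.coe_zero, Germ.liftPred_coe]; simp⟩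
  neg_mem' {a} := by
    induction a using Germ.inductionOn with | h f => ?_
    rintro ⟨C, hC⟩
    rw [Germ.liftPred_coe] at hC
    refine ⟨C, ?_⟩
    rw [← Germ.coe_neg, Germ.liftPred_coe]
    simpa using hC
  mem_or_inv_mem' a := by
    induction a using Germ.inductionOn with | h f => ?_
    by_cases h : ∀ᶠ i in (𝒰 : Filter I), ‖f i‖ ≤ 1
    · exact Or.inl ⟨1, Germ.liftPred_coe.2 h⟩
    · refine Or.inr ⟨1, ?_⟩
      rw [← Germ.coe_inv, Germ.liftPred_coe]
      filter_upwards [Ultrafilter.eventually_not.2 h] with i hi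
      rw [Pi.inv_apply, norm_inv]
      exact inv_le_one_of_one_le₀ (not_le.1 hi).le

lemma exists_standardPart (x : boundedGerms 𝒰) : ∃ c : ℂ, (x : Germ (𝒰 : Filter I) ℂ).Tendsto (𝓝 c) := by
  obtain ⟨x, C, hC⟩ := x
  induction x using Germ.inductionOn with | h f => ?_
  rw [Germ.liftPred_coe] at hC
  have hle : (𝒰.map f : Filter ℂ) ≤ 𝓟 (Metric.closedBall 0 C) := by
    rw [Ultrafilter.coe_map, le_principal_iff, Filter.mem_map]
    exact hC.mono fun i hi => mem_closedBall_zero_iff.2 hi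
  obtain ⟨c, -, hc⟩ := (isCompact_closedBall (0 : ℂ) C).ultrafilter_le_nhds _ hle
  exact ⟨c, hc⟩

/-- standard part -/
def stdPart : boundedGerms 𝒰 →+* ℂ := by
  have hex := fun x => (exists_standardPart 𝒰 x).choose_spec
  have huniq : ∀ x (c : ℂ), (x : Germ (𝒰 : Filter I) ℂ).Tendsto (𝓝 c) →
      ∀ y : boundedGerms 𝒰, (y : Germ (𝒰 : Filter I) ℂ) = x → (exists_standardPart 𝒰 y).choose = c := by
    intro x c hc y hy
    have hy' := hex y
    generalize (exists_standardPart 𝒰 y).choose = a at hy' ⊢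
    rw [hy] at hy'
    clear hy
    induction x using Germ.inductionOn with | h f => ?_
    exact tendsto_nhds_unique (Germ.coe_tendsto.1 hy') (Germ.coe_tendsto.1 hc)
  refine
    { toFun := fun x => (exists_standardPart 𝒰 x).choose
      map_one' := huniq 1 1 (by rw [← Germ.coe_one, Germ.coe_tendsto]; exact tendsto_const_nhds) 1 rfl
      map_mul' := fun x y => ?_
      map_zero' := huniq 0 0 (by rw [← Germ.coe_zero, Germ.coe_tendsto]; exact tendsto_const_nhds) 0 rfl
      map_add' := fun x y => ?_ }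
  · have hx := hex x
    have hy := hex y
    generalize (exists_standardPart 𝒰 x).choose = a at hx ⊢
    generalize (exists_standardPart 𝒰 y).choose = b at hy ⊢
    obtain ⟨x, hxm⟩ := x
    obtain ⟨y, hym⟩ := y
    induction x using Germ.inductionOn with | h f => ?_
    induction y using Germ.inductionOn with | h g => ?_
    refine huniq _ _ ?_ _ rfl
    change ((f : Germ (𝒰 : Filter I) ℂ) * g).Tendsto _
    rw [← Germ.coe_mul, Germ.coe_tendsto]
    exact (Germ.coe_tendsto.1 hx).mul (Germ.coe_tendsto.1 hy)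
  · have hx := hex x
    have hy := hex y
    generalize (exists_standardPart 𝒰 x).choose = a at hx ⊢
    generalize (exists_standardPart 𝒰 y).choose = b at hy ⊢
    obtain ⟨x, hxm⟩ := x
    obtain ⟨y, hym⟩ := y
    induction x using Germ.inductionOn with | h f => ?_
    induction y using Germ.inductionOn with | h g => ?_
    refine huniq _ _ ?_ _ rfl
    change ((f : Germ (𝒰 : Filter I) ℂ) + g).Tendsto _
    rw [← Germ.coe_add, Germ.coe_tendsto]
    exact (Germ.coe_tendsto.1 hx).add (Germ.coe_tendsto.1 hy)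

lemma tendsto_stdPart {f : I → ℂ} (x : boundedGerms 𝒰) (hx : (x : Germ (𝒰 : Filter I) ℂ) = f) :
    Tendsto f 𝒰 (𝓝 (stdPart 𝒰 x)) := by
  have := (exists_standardPart 𝒰 x).choose_spec
  change Tendsto f 𝒰 (𝓝 (exists_standardPart 𝒰 x).choose)
  generalize (exists_standardPart 𝒰 x).choose = a at this ⊢
  rw [hx] at this
  exact Germ.coe_tendsto.1 this

open AlgebraicGeometry CategoryTheory Opposite TopologicalSpace

variable {X Y : Scheme.{0}} {S T : CommRingCat.{0}}

/-- pullback of sections along a morphism from a spectrum landing in an open -/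
def secHom (l : Spec S ⟶ X) (U : X.Opens) (h : ⊤ ≤ l ⁻¹ᵁ U) : Γ(X, U) ⟶ S :=
  l.appLE U ⊤ h ≫ (Scheme.ΓSpecIso S).hom

lemma specMap_secHom_fromSpec (l : Spec S ⟶ X) {U : X.Opens} (hU : IsAffineOpen U) (h : ⊤ ≤ l ⁻¹ᵁ U) :
    Spec.map (secHom l U h) ≫ hU.fromSpec = l := by
  rw [secHom, Spec.map_comp, Category.assoc, IsAffineOpen.SpecMap_appLE_fromSpec l hU (isAffineOpen_top _) h,
    IsAffineOpen.fromSpec_top, Scheme.isoSpec_Spec_inv, ← Category.assoc, ← Spec.map_comp]
  simp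

lemma top_le_fromSpec_preimage {U : X.Opens} (hU : IsAffineOpen U) (φ : Γ(X, U) ⟶ S) :
    ⊤ ≤ (Spec.map φ ≫ hU.fromSpec) ⁻¹ᵁ U := fun p _ => by
  change (Spec.map φ ≫ hU.fromSpec) p ∈ (U : Set X)
  rw [← hU.range_fromSpec, Scheme.Hom.comp_apply]
  exact ⟨_, rfl⟩

lemma eq_of_fromSpec_eq {U : X.Opens} (hU : IsAffineOpen U) {a b : Γ(X, U) ⟶ S}
    (e : Spec.map a ≫ hU.fromSpec = Spec.map b ≫ hU.fromSpec) : a = b :=
  Spec.map_injective ((cancel_mono hU.fromSpec).1 e)

lemma secHom_fromSpec {U : X.Opens} (hU : IsAffineOpen U) (φ : Γ(X, U) ⟶ S) (h) :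
    secHom (Spec.map φ ≫ hU.fromSpec) U h = φ :=
  eq_of_fromSpec_eq hU (specMap_secHom_fromSpec _ hU h)

lemma secHom_specMap_comp (k : S ⟶ T) (l : Spec S ⟶ X) {U : X.Opens} (hU : IsAffineOpen U)
    (h : ⊤ ≤ l ⁻¹ᵁ U) (h') : secHom (Spec.map k ≫ l) U h' = secHom l U h ≫ k := by
  apply eq_of_fromSpec_eq hU
  rw [specMap_secHom_fromSpec, Spec.map_comp, Category.assoc, specMap_secHom_fromSpec]

lemma secHom_comp (l : Spec S ⟶ X) (g : X ⟶ Y) {U : X.Opens} (hU : IsAffineOpen U) {V : Y.Opens}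
    (hV : IsAffineOpen V) (hUV : U ≤ g ⁻¹ᵁ V) (h : ⊤ ≤ l ⁻¹ᵁ U) (h') :
    secHom (l ≫ g) V h' = g.appLE V U hUV ≫ secHom l U h := by
  apply eq_of_fromSpec_eq hV
  rw [specMap_secHom_fromSpec, Spec.map_comp, Category.assoc, IsAffineOpen.SpecMap_appLE_fromSpec g hV hU hUV,
    ← Category.assoc, specMap_secHom_fromSpec]

lemma secHom_res (l : Spec S ⟶ X) {U U' : X.Opens} (i : U' ≤ U) (h : ⊤ ≤ l ⁻¹ᵁ U') (h') :
    secHom l U h' = X.presheaf.map (homOfLE i).op ≫ secHom l U' h := by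
  unfold secHom
  rw [← Category.assoc, Scheme.Hom.map_appLE]

lemma mem_basicOpen_iff_of_field {K : Type} [Field K] (l : Spec (CommRingCat.of K) ⟶ X) {U : X.Opens}
    (h : ⊤ ≤ l ⁻¹ᵁ U) (b : Γ(X, U)) (p : Spec (CommRingCat.of K)) :
    l p ∈ X.basicOpen b ↔ secHom l U h b ≠ 0 := by
  have hb : (Spec (CommRingCat.of K)).basicOpen (l.appLE U ⊤ h b) = ⊤ ⊓ l ⁻¹ᵁ X.basicOpen b := by
    rw [Scheme.preimage_basicOpen]
    exact Scheme.basicOpen_res _ _ _
  have : l p ∈ X.basicOpen b ↔ p ∈ (Spec (CommRingCat.of K)).basicOpen (l.appLE U ⊤ h b) := by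
    rw [hb]; exact ⟨fun hh => ⟨trivial, hh⟩, fun hh => hh.2⟩
  rw [this, basicOpen_eq_of_affine']
  change (secHom l U h) b ∉ (p : PrimeSpectrum K).asIdeal ↔ _
  rw [(Ideal.eq_bot_or_top (p : PrimeSpectrum K).asIdeal).resolve_right p.2.ne_top, Ideal.mem_bot]

end Groth.Agent.AnPtsTop
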