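import Groth.Agent.Lib.AnPtsTop.Global

/-!
Points lying in an affine open, described by evaluation of sections over that open.
-/

open AlgebraicGeometry CategoryTheory TopologicalSpace Topology Opposite Limits

noncomputable section

namespace Groth.Agent.AnPtsTop

variable {X Y : Scheme.{0}} [X.Over An.SC] [Y.Over An.SC]

/-- constants as sections over an open -/
def strOn (D : X.Opens) : ℂ →+* Γ(X, D) :=
  (X.presheaf.map (homOfLE le_top).op).hom.comp (An.strHom X)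

lemma ev_strOn (x : An.Pts X) {D : X.Opens} (h : x.pt ∈ D) (c : ℂ) : x.ev D h (strOn D c) = c :=
  (ev_res x le_top h (An.strHom X c)).trans (evTop_strHom x c)

lemma map_ι_pt_mem {D : X.Opens} (u : An.Pts D.toScheme) : (An.Pts.map D.ι u).pt ∈ D := by
  rw [An.Pts.pt_map]; exact u.pt.2

lemma ev_map_appLE (g : X ⟶ Y) [g.IsOver An.SC] (x : An.Pts X) {V : Y.Opens} {D : X.Opens}
    (hDV : D ≤ g ⁻¹ᵁ V) (hx : x.pt ∈ D) (b : Γ(Y, V)) :
    (An.Pts.map g x).ev V (by rw [An.Pts.pt_map]; exact hDV hx) b = x.ev D hx (g.appLE V D hDV b) := by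
  rw [An.Pts.ev_map]
  exact (ev_res x hDV hx (g.app V b)).symm

omit [X.Over An.SC] in
lemma top_le_ι_preimage (D : X.Opens) : (⊤ : D.toScheme.Opens) ≤ D.ι ⁻¹ᵁ D := by simp

lemma ev_map_ι {D : X.Opens} (u : An.Pts D.toScheme) (b : Γ(X, D)) :
    (An.Pts.map D.ι u).ev D (map_ι_pt_mem u) b = u.evTop (D.ι.appLE D ⊤ (top_le_ι_preimage D) b) :=
  ev_map_appLE D.ι u (top_le_ι_preimage D) (Opens.mem_top _) b

lemma isIso_ι_appLE (D : X.Opens) : IsIso (D.ι.appLE D ⊤ (top_le_ι_preimage D)) := by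
  have h1 : IsIso (D.ι.app D) := Scheme.Hom.isIso_app D.ι D (by simp)
  have h2 : IsIso (homOfLE (top_le_ι_preimage D)) :=
    ⟨⟨homOfLE le_top, Subsingleton.elim _ _, Subsingleton.elim _ _⟩⟩
  rw [Scheme.Hom.appLE]
  infer_instance

lemma exists_ι_appLE_eq (D : X.Opens) (a : Γ(D.toScheme, ⊤)) :
    ∃ b, D.ι.appLE D ⊤ (top_le_ι_preimage D) b = a :=
  have := isIso_ι_appLE D
  (ConcreteCategory.bijective_of_isIso (D.ι.appLE D ⊤ (top_le_ι_preimage D))).2 a

lemma ι_appLE_strOn (D : X.Opens) (c : ℂ) :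
    D.ι.appLE D ⊤ (top_le_ι_preimage D) (strOn D c) = An.strHom D.toScheme c := by
  rw [← appTop_comp_strHom D.ι]
  change (X.presheaf.map (homOfLE le_top).op ≫ D.ι.appLE D ⊤ _) (An.strHom X c) = D.ι.appTop (An.strHom X c)
  rw [Scheme.Hom.map_appLE]
  congr 1
  exact congrArg _ (D.ι.appLE_eq_app)

lemma pts_eq_of_ev {D : X.Opens} (hD : IsAffineOpen D) {x y : An.Pts X} (hx : x.pt ∈ D) (hy : y.pt ∈ D)
    (h : ∀ b, x.ev D hx b = y.ev D hy b) : x = y := by
  have : IsAffine D.toScheme := hD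
  obtain ⟨u, rfl⟩ := exists_map_eq_of_isOpenImmersion D.ι x (by rw [Scheme.Opens.range_ι]; exact hx)
  obtain ⟨v, rfl⟩ := exists_map_eq_of_isOpenImmersion D.ι y (by rw [Scheme.Opens.range_ι]; exact hy)
  congr 1
  refine ext_of_evTop fun a => ?_
  obtain ⟨b, rfl⟩ := exists_ι_appLE_eq D a
  rw [← ev_map_ι, ← ev_map_ι]
  exact h b

lemma exists_pt_of_ringHom_open {D : X.Opens} (hD : IsAffineOpen D) (ψ : Γ(X, D) →+* ℂ)
    (hψ : ∀ c, ψ (strOn D c) = c) : ∃ (x : An.Pts X) (hx : x.pt ∈ D), ∀ b, x.ev D hx b = ψ b := by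
  have : IsAffine D.toScheme := hD
  have := isIso_ι_appLE D
  set φ := D.ι.appLE D ⊤ (top_le_ι_preimage D)
  have hinv : ∀ b, (inv φ) (φ b) = b := fun b => congrArg (fun f => f.hom b) (IsIso.hom_inv_id φ)
  obtain ⟨u, hu⟩ := exists_pt_of_ringHom (X := D.toScheme) (ψ.comp (inv φ).hom) fun c => by
    rw [← ι_appLE_strOn, RingHom.comp_apply, hinv]
    exact hψ c
  refine ⟨An.Pts.map D.ι u, map_ι_pt_mem u, fun b => ?_⟩
  rw [ev_map_ι, hu, RingHom.comp_apply, hinv]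

lemma continuous_ev (D : X.Opens) (b : Γ(X, D)) :
    Continuous fun x : {x : An.Pts X // x.pt ∈ D} => x.1.ev D x.2 b := by
  refine continuous_def.2 fun V hV => ?_
  have : (fun x : {x : An.Pts X // x.pt ∈ D} => x.1.ev D x.2 b) ⁻¹' V = Subtype.val ⁻¹' An.Pts.basicSet D b V := by
    ext x
    exact ⟨fun h => ⟨x.2, h⟩, fun ⟨_, h⟩ => h⟩
  rw [this]
  exact (An.Pts.isOpen_basicSet _ _ hV).preimage continuous_subtype_val

lemma continuousAt_of_ev [LocallyOfFiniteType (X ↘ An.SC)] {T : Type*} [TopologicalSpace T] {D : X.Opens}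
    (hD : IsAffineOpen D) {τ : T → An.Pts X} {t₀ : T} (F : Γ(X, D) → T → ℂ) (ht₀ : (τ t₀).pt ∈ D)
    (hF : ∀ b, ∀ᶠ t in 𝓝 t₀, ∃ h : (τ t).pt ∈ D, (τ t).ev D h b = F b t)
    (hc : ∀ b, ContinuousAt (F b) t₀) : ContinuousAt τ t₀ := by
  classical
  have : IsAffine D.toScheme := hD
  obtain ⟨n, s, hs⟩ := exists_generators (X := D.toScheme)
  have hemb := isClosedEmbedding_of_generators s hs
  have hmem : ∀ᶠ t in 𝓝 t₀, (τ t).pt ∈ D := (hF 0).mono fun t h => h.1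
  obtain ⟨u₀, hu₀⟩ := exists_map_eq_of_isOpenImmersion D.ι (τ t₀) (by rw [Scheme.Opens.range_ι]; exact ht₀)
  have hlift : ∀ t, ∃ u : An.Pts D.toScheme, (τ t).pt ∈ D → An.Pts.map D.ι u = τ t := fun t => by
    by_cases h : (τ t).pt ∈ D
    · obtain ⟨u, hu⟩ := exists_map_eq_of_isOpenImmersion D.ι (τ t) (by rw [Scheme.Opens.range_ι]; exact h)
      exact ⟨u, fun _ => hu⟩
    · exact ⟨u₀, fun h' => absurd h' h⟩
  choose σ hσ using hlift
  have hσc : ContinuousAt σ t₀ := by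
    rw [ContinuousAt, hemb.isInducing.nhds_eq_comap, Filter.tendsto_comap_iff]
    refine tendsto_pi_nhds.2 fun i => ?_
    obtain ⟨b, hb⟩ := exists_ι_appLE_eq D (s i)
    have hev : ∀ᶠ t in 𝓝 t₀, (σ t).evTop (s i) = F b t := by
      filter_upwards [hF b] with t ht
      obtain ⟨h, e⟩ := ht
      rw [← hb, ← ev_map_ι, ← e]
      congr 1
      exact hσ t h
    have h0 : (σ t₀).evTop (s i) = F b t₀ := hev.self_of_nhds
    exact ((hc b).congr (Filter.EventuallyEq.symm hev)).tendsto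
  refine ((An.Pts.continuous_map D.ι).continuousAt.comp hσc).congr ?_
  filter_upwards [hmem] with t ht using hσ t ht

end Groth.Agent.AnPtsTop
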