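import Groth.Agent.Lib.AnPtsTop.OpenPts
import Groth.Agent.Lib.AnPtsTop.Germ
import Mathlib.AlgebraicGeometry.ValuativeCriterion
import Mathlib.AlgebraicGeometry.Morphisms.Proper
import Mathlib.Topology.Maps.Proper.Basic

/-!
Proper morphisms give proper maps of complex points, by the valuative criterion applied to the valuation
ring of bounded germs along an ultrafilter.
-/

open AlgebraicGeometry CategoryTheory TopologicalSpace Topology Opposite Limits Filter

noncomputable section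

namespace Groth.Agent.AnPtsTop

variable {X Y : Scheme.{0}} [X.Over An.SC] [Y.Over An.SC]

open scoped Classical in
/-- the value of a section, zero outside the open -/
def evOr (U : X.Opens) (b : Γ(X, U)) (x : An.Pts X) : ℂ := if h : x.pt ∈ U then x.ev U h b else 0

lemma evOr_eq (U : X.Opens) (b : Γ(X, U)) {x : An.Pts X} (h : x.pt ∈ U) : evOr U b x = x.ev U h b := dif_pos h

/-- the germ of the values of sections along a family of points -/
def germHom {I : Type} (𝒰 : Ultrafilter I) (τ : I → An.Pts X) (U : X.Opens)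
    (h : ∀ᶠ i in (𝒰 : Filter I), (τ i).pt ∈ U) : Γ(X, U) →+* Germ (𝒰 : Filter I) ℂ where
  toFun b := ↑(fun i => evOr U b (τ i))
  map_one' := Germ.coe_eq.2 <| h.mono fun i hi => by
    change evOr U 1 (τ i) = 1; rw [evOr_eq U 1 hi]; exact map_one (evHom (τ i) U hi)
  map_mul' a b := Germ.coe_eq.2 <| h.mono fun i hi => by
    change evOr U (a * b) (τ i) = evOr U a (τ i) * evOr U b (τ i); rw [evOr_eq U (a * b) hi, evOr_eq U a hi, evOr_eq U b hi]; exact map_mul (evHom (τ i) U hi) a b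
  map_zero' := Germ.coe_eq.2 <| h.mono fun i hi => by
    change evOr U 0 (τ i) = 0; rw [evOr_eq U 0 hi]; exact map_zero (evHom (τ i) U hi)
  map_add' a b := Germ.coe_eq.2 <| h.mono fun i hi => by
    change evOr U (a + b) (τ i) = evOr U a (τ i) + evOr U b (τ i); rw [evOr_eq U (a + b) hi, evOr_eq U a hi, evOr_eq U b hi]; exact map_add (evHom (τ i) U hi) a b

lemma ev_eq_secHom (x : An.Pts X) {U : X.Opens} (h : x.pt ∈ U) (b : Γ(X, U)) :
    x.ev U h b = secHom x.1 U (An.Pts.top_le_preimage x h) b := rfl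

theorem isProperMap_of_isProper [LocallyOfFiniteType (X ↘ An.SC)] [LocallyOfFiniteType (Y ↘ An.SC)]
    (f : X ⟶ Y) [f.IsOver An.SC] [IsProper f] : IsProperMap (An.Pts.map f) := by
  classical
  refine isProperMap_iff_ultrafilter.2 ⟨An.Pts.continuous_map f, fun 𝒰 y hy => ?_⟩
  obtain ⟨V, hV, hyV, -⟩ := exists_isAffineOpen_mem_and_subset (U := (⊤ : Y.Opens)) (x := y.pt) trivial
  have hevV : ∀ᶠ x in (𝒰 : Filter (An.Pts X)), (An.Pts.map f x).pt ∈ V :=
    hy.eventually ((An.Pts.isOpen_preimage_pt V).mem_nhds hyV)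
  -- an affine chart containing the ultrafilter
  obtain ⟨U, hU, hUV, hevU⟩ : ∃ U : X.Opens, IsAffineOpen U ∧ U ≤ f ⁻¹ᵁ V ∧
      ∀ᶠ x in (𝒰 : Filter (An.Pts X)), x.pt ∈ U := by
    have hcp : IsCompact ((f ⁻¹ᵁ V : X.Opens) : Set X) :=
      QuasiCompact.isCompact_preimage _ V.2 hV.isCompact
    have hc : ∀ p : X, ∃ U : X.Opens, p ∈ f ⁻¹ᵁ V → IsAffineOpen U ∧ U ≤ f ⁻¹ᵁ V ∧ p ∈ U := fun p => by
      by_cases hp : p ∈ f ⁻¹ᵁ V
      · obtain ⟨U, hU, hpU, hUV⟩ := exists_isAffineOpen_mem_and_subset (U := f ⁻¹ᵁ V) (x := p) hp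
        exact ⟨U, fun _ => ⟨hU, hUV, hpU⟩⟩
      · exact ⟨⊤, fun h => absurd h hp⟩
    choose Uc hUc using hc
    obtain ⟨t, htV, ht⟩ := hcp.elim_nhds_subcover (fun p => (Uc p : Set X))
      (fun p hp => (Uc p).2.mem_nhds (hUc p hp).2.2)
    have hmem : (⋃ p ∈ (t : Set X), An.Pts.pt ⁻¹' (Uc p : Set X)) ∈ 𝒰 :=
      hevV.mono fun x hx => by
        rw [An.Pts.pt_map] at hx
        obtain ⟨p, hp, hxp⟩ := Set.mem_iUnion₂.1 (ht hx)
        exact Set.mem_iUnion₂.2 ⟨p, hp, hxp⟩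
    obtain ⟨p, hp, hpm⟩ := (Ultrafilter.finite_biUnion_mem_iff t.finite_toSet).1 hmem
    exact ⟨Uc p, (hUc p (htV p hp)).1, (hUc p (htV p hp)).2.1, hpm⟩
  set φ := germHom 𝒰 id U hevU
  -- values at the limit of bounded germs
  have htend : ∀ a : Γ(Y, V), Tendsto (fun x => evOr V a (An.Pts.map f x)) 𝒰 (𝓝 (y.ev V hyV a)) := by
    intro a
    rw [tendsto_nhds]
    intro O hO haO
    exact (hy.eventually ((An.Pts.isOpen_basicSet V a hO).mem_nhds ⟨hyV, haO⟩)).mono fun x ⟨h, hx⟩ => by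
      change evOr V a (An.Pts.map f x) ∈ O; rw [evOr_eq V a h]; exact hx
  have hbdd : ∀ a, germHom 𝒰 (An.Pts.map f) V hevV a ∈ boundedGerms 𝒰 := fun a => by
    refine ⟨‖y.ev V hyV a‖ + 1, Germ.liftPred_coe.2 ?_⟩
    exact ((htend a).norm.eventually (gt_mem_nhds (lt_add_one _))).mono fun x hx => hx.le
  let φA : Γ(Y, V) →+* boundedGerms 𝒰 := (germHom 𝒰 (An.Pts.map f) V hevV).codRestrict _ hbdd
  have hφA : ∀ a, stdPart 𝒰 (φA a) = y.ev V hyV a := fun a =>
    tendsto_nhds_unique (tendsto_stdPart 𝒰 (φA a) rfl) (htend a)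
  let alg : CommRingCat.of (boundedGerms 𝒰) ⟶ CommRingCat.of (Germ (𝒰 : Filter (An.Pts X)) ℂ) :=
    CommRingCat.ofHom (algebraMap (boundedGerms 𝒰) (Germ (𝒰 : Filter (An.Pts X)) ℂ))
  let xK : Spec (CommRingCat.of (Germ (𝒰 : Filter (An.Pts X)) ℂ)) ⟶ X :=
    Spec.map (CommRingCat.ofHom φ) ≫ hU.fromSpec
  let i₂ : Spec (CommRingCat.of (boundedGerms 𝒰)) ⟶ Y := Spec.map (CommRingCat.ofHom φA) ≫ hV.fromSpec
  have hsq : xK ≫ f = Spec.map alg ≫ i₂ := by
    change (Spec.map _ ≫ hU.fromSpec) ≫ f = Spec.map alg ≫ Spec.map _ ≫ hV.fromSpec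
    rw [Category.assoc, ← IsAffineOpen.SpecMap_appLE_fromSpec f hV hU hUV, ← Category.assoc, ← Spec.map_comp,
      ← Category.assoc (Spec.map alg), ← Spec.map_comp]
    congr 2
    ext a
    refine Germ.coe_eq.2 ?_
    filter_upwards [hevU] with x hx
    have hx' : (An.Pts.map f x).pt ∈ V := by rw [An.Pts.pt_map]; exact hUV hx
    change evOr U (f.appLE V U hUV a) x = evOr V a (An.Pts.map f x)
    rw [evOr_eq U _ hx, evOr_eq V a hx']
    exact (ev_map_appLE f x hUV hx a).symm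
  have hex : ValuativeCriterion.Existence f := by
    have h : UniversallyClosed f := inferInstance
    rw [UniversallyClosed.eq_valuativeCriterion] at h
    exact h.1
  obtain ⟨l, hl₁, hl₂⟩ : ∃ l : Spec (CommRingCat.of (boundedGerms 𝒰)) ⟶ X, Spec.map alg ≫ l = xK ∧ l ≫ f = i₂ := by
    obtain ⟨⟨l, h1, h2⟩⟩ := (hex ⟨boundedGerms 𝒰, Germ (𝒰 : Filter (An.Pts X)) ℂ, xK, i₂, ⟨hsq⟩⟩).exists_lift
    exact ⟨l, h1, h2⟩
  -- the limit
  let st : CommRingCat.of (boundedGerms 𝒰) ⟶ CommRingCat.of ℂ := CommRingCat.ofHom (stdPart 𝒰)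
  have hx1 : (Spec.map st ≫ l) ≫ f = y.1 := by
    rw [Category.assoc, hl₂, ← specMap_secHom_fromSpec y.1 hV (An.Pts.top_le_preimage y hyV)]
    change Spec.map st ≫ Spec.map (CommRingCat.ofHom φA) ≫ hV.fromSpec = _
    rw [← Category.assoc, ← Spec.map_comp]
    congr 2
    ext a
    exact hφA a
  let x : An.Pts X := ⟨Spec.map st ≫ l, by rw [← comp_over f An.SC, ← Category.assoc, hx1, y.2]⟩
  refine ⟨x, pts_ext hx1, ?_⟩
  change Tendsto id (𝒰 : Filter (An.Pts X)) (𝓝 x)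
  rw [TopologicalSpace.tendsto_nhds_generateFrom_iff]
  rintro _ ⟨W, b, O, hO, rfl⟩ ⟨hxW, hxO⟩
  obtain ⟨U', hU', hxU', hU'W⟩ := exists_isAffineOpen_mem_and_subset (U := W) (x := x.pt) hxW
  replace hU'W : U' ≤ W := hU'W
  have hclosed : Spec.map st An.cpt = IsLocalRing.closedPoint (boundedGerms 𝒰) := by
    apply PrimeSpectrum.ext
    change Ideal.comap (stdPart 𝒰) (An.cpt : PrimeSpectrum ℂ).asIdeal = IsLocalRing.maximalIdeal _
    rw [(Ideal.eq_bot_or_top (An.cpt : PrimeSpectrum ℂ).asIdeal).resolve_right (An.cpt : PrimeSpectrum ℂ).2.ne_top,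
      ← RingHom.ker_eq_comap_bot]
    refine IsLocalRing.eq_maximalIdeal (RingHom.ker_isMaximal_of_surjective _ fun c => ?_)
    refine ⟨⟨↑(fun _ : An.Pts X => c), ‖c‖, Germ.liftPred_coe.2 (Eventually.of_forall fun _ => le_rfl)⟩, ?_⟩
    exact tendsto_nhds_unique (tendsto_stdPart 𝒰 _ rfl) tendsto_const_nhds
  have hlU' : ⊤ ≤ l ⁻¹ᵁ U' := by
    refine (Scheme.preimage_eq_top_of_closedPoint_mem l ?_).ge
    have : x.pt = l (Spec.map st An.cpt) := Scheme.Hom.comp_apply _ _ _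
    rw [hclosed] at this
    rw [← this]
    exact hxU'
  have hxK' : ⊤ ≤ xK ⁻¹ᵁ U' := by
    rw [← hl₁]
    intro p _
    change (Spec.map alg ≫ l) p ∈ U'
    rw [Scheme.Hom.comp_apply]
    exact hlU' trivial
  have hxKU : ⊤ ≤ xK ⁻¹ᵁ U := top_le_fromSpec_preimage hU _
  -- a basic open through the generic point
  let η : Spec (CommRingCat.of (Germ (𝒰 : Filter (An.Pts X)) ℂ)) := (⊥ : PrimeSpectrum (Germ (𝒰 : Filter (An.Pts X)) ℂ))
  obtain ⟨h, hDU', hηD⟩ := hU.exists_basicOpen_le (V := U') ⟨xK η, hxK' trivial⟩ (hxKU trivial)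
  replace hDU' : X.basicOpen h ≤ U' := hDU'
  have hsecU : secHom xK U hxKU = CommRingCat.ofHom φ := secHom_fromSpec hU _ _
  have hφh : φ h ≠ 0 := by
    have := (mem_basicOpen_iff_of_field xK hxKU h η).1 hηD
    rwa [hsecU] at this
  have hevD : ∀ᶠ z in (𝒰 : Filter (An.Pts X)), z.pt ∈ X.basicOpen h := by
    have h0 : ¬ ∀ᶠ z in (𝒰 : Filter (An.Pts X)), evOr U h z = 0 := fun hh => hφh (Germ.coe_eq.2 hh)
    filter_upwards [Ultrafilter.eventually_not.2 h0, hevU] with z hz hzU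
    rw [evOr_eq U h hzU] at hz
    exact (pt_mem_basicOpen_iff z hzU h).2 hz
  have hxKD : ⊤ ≤ xK ⁻¹ᵁ X.basicOpen h := fun p _ => by
    have : p = η := Subsingleton.elim (α := PrimeSpectrum _) _ _
    rw [this]; exact hηD
  have hDU : X.basicOpen h ≤ U := X.basicOpen_le h
  have hsecD : (secHom xK (X.basicOpen h) hxKD).hom = germHom 𝒰 id (X.basicOpen h) hevD := by
    have := hU.isLocalization_basicOpen h
    refine IsLocalization.ringHom_ext (Submonoid.powers h) (RingHom.ext fun a => ?_)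
    change secHom xK (X.basicOpen h) hxKD (X.presheaf.map (homOfLE hDU).op a) = _
    have h1 := secHom_res xK hDU hxKD hxKU
    rw [hsecU] at h1
    refine (congrArg (fun r => r.hom a) h1).symm.trans ?_
    refine Germ.coe_eq.2 ?_
    filter_upwards [hevD] with z hz
    change evOr U a z = evOr (X.basicOpen h) (X.presheaf.map (homOfLE hDU).op a) z
    rw [evOr_eq _ _ hz, evOr_eq U a (hDU hz), ev_res z hDU hz a]
  set b' := X.presheaf.map (homOfLE hU'W).op b
  set ψb := secHom l U' hlU' b'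
  have hgerm : ((ψb : boundedGerms 𝒰) : Germ (𝒰 : Filter (An.Pts X)) ℂ) = ↑(fun z => evOr U' b' z) := by
    have hxK'' : ⊤ ≤ (Spec.map alg ≫ l) ⁻¹ᵁ U' := hl₁.symm ▸ hxK'
    have hcongr : ∀ (k k' : Spec (CommRingCat.of (Germ (𝒰 : Filter (An.Pts X)) ℂ)) ⟶ X) (_ : k = k') h h',
        secHom k U' h = secHom k' U' h' := by rintro k k' rfl h h'; rfl
    have h1 : secHom (Spec.map alg ≫ l) U' hxK'' b' = secHom xK U' hxK' b' := by
      rw [hcongr _ _ hl₁ hxK'' hxK']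
    rw [secHom_specMap_comp alg l hU' hlU'] at h1
    refine h1.trans ?_
    rw [secHom_res xK hDU' hxKD hxK']
    change (secHom xK (X.basicOpen h) hxKD).hom _ = _
    rw [hsecD]
    refine Germ.coe_eq.2 ?_
    filter_upwards [hevD] with z hz
    change evOr (X.basicOpen h) (X.presheaf.map (homOfLE hDU').op b') z = evOr U' b' z
    rw [evOr_eq _ _ hz, evOr_eq U' b' (hDU' hz), ev_res z hDU' hz b']
  have hlim : Tendsto (fun z => evOr U' b' z) 𝒰 (𝓝 (x.ev W hxW b)) := by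
    have := tendsto_stdPart 𝒰 ψb hgerm
    convert this using 2
    rw [← ev_res x hU'W hxU', ev_eq_secHom]
    change secHom (Spec.map st ≫ l) U' _ b' = _
    rw [secHom_specMap_comp st l hU' hlU']
    rfl
  filter_upwards [hlim.eventually (hO.mem_nhds hxO), hevD] with z hz hzD
  refine ⟨hU'W (hDU' hzD), ?_⟩
  rw [evOr_eq U' b' (hDU' hzD), ev_res z hU'W] at hz
  exact hz

end Groth.Agent.AnPtsTop
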