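import Groth.Agent.Lib.AnPtsTop.Proper
import Groth.Agent.Lib.AnPtsTop.Pullback
import Groth.Agent.Lib.AnPtsTop.Etale
import Mathlib.AlgebraicGeometry.ZariskisMainTheorem
import Mathlib.Topology.Covering.Basic

/-!
Properness and finiteness read off from complex points; finite etale morphisms give coverings.
-/

open AlgebraicGeometry CategoryTheory TopologicalSpace Topology Opposite Limits Filter

noncomputable section

namespace Groth.Agent.AnPtsTop

variable {X Y : Scheme.{0}} [X.Over An.SC] [Y.Over An.SC]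

lemma isClosedMap_pullback_fst [LocallyOfFiniteType (X ↘ An.SC)] [LocallyOfFiniteType (Y ↘ An.SC)]
    (f : X ⟶ Y) [f.IsOver An.SC] [QuasiCompact f] (hf : IsProperMap (An.Pts.map f))
    {T : Scheme.{0}} [T.Over An.SC] [LocallyOfFiniteType (T ↘ An.SC)] (g : T ⟶ Y) [g.IsOver An.SC] :
    IsClosedMap (pullback.fst g f) := by
  intro C hC
  have := lft_pullback g f
  have := lfp_hom (pullback.fst g f)
  have hZ : IsLocallyConstructible (pullback.fst g f '' C) :=
    (pullback.fst g f).isLocallyConstructible_image (isLocallyConstructible_of_isClosed hC)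
  have hH := isHomeomorph_pullback g f
  have hproj : IsClosedMap
      (fun q : {q : An.Pts T × An.Pts X // An.Pts.map g q.1 = An.Pts.map f q.2} => q.1.1) := by
    refine IsProperMap.isClosedMap (isProperMap_iff_ultrafilter.2 ⟨continuous_fst.comp continuous_subtype_val,
      fun 𝒰 a ha => ?_⟩)
    have h2 : Tendsto (An.Pts.map f) (𝒰.map fun q => q.1.2 : Ultrafilter (An.Pts X)) (𝓝 (An.Pts.map g a)) := by
      rw [Ultrafilter.coe_map, tendsto_map'_iff]
      exact (((An.Pts.continuous_map g).tendsto a).comp ha).congr fun q => q.2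
    obtain ⟨b, hb, hbl⟩ := hf.ultrafilter_le_nhds_of_tendsto h2
    refine ⟨⟨(a, b), hb.symm⟩, rfl, ?_⟩
    rw [nhds_subtype_eq_comap, ← map_le_iff_le_comap]
    exact Tendsto.prodMk_nhds ha hbl
  have hmap : IsClosedMap (An.Pts.map (pullback.fst g f)) := hproj.comp hH.isClosedMap
  have hpre : (An.Pts.pt ⁻¹' (pullback.fst g f '' C) : Set (An.Pts T)) =
      An.Pts.map (pullback.fst g f) '' (An.Pts.pt ⁻¹' C) := by
    ext t
    constructor
    · rintro ⟨c, hc, e⟩
      obtain ⟨z, hz⟩ := exists_pt_mem (Z := C ∩ pullback.fst g f ⁻¹' {t.pt}) ⟨c, hc, e⟩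
        (hC.inter ((isClosed_pt t).preimage (pullback.fst g f).continuous)).isLocallyClosed
      exact ⟨z, hz.1, pt_injective ((An.Pts.pt_map _ z).trans hz.2)⟩
    · rintro ⟨z, hz, rfl⟩
      exact ⟨z.pt, hz, (An.Pts.pt_map _ z).symm⟩
  have := (isOpen_iff (isLocallyConstructible_compl hZ)).2 (by
    rw [Set.preimage_compl, hpre]
    exact (hmap _ (hC.preimage An.Pts.continuous_pt)).isOpen_compl)
  exact isOpen_compl_iff.1 this

omit [X.Over An.SC] in
lemma existence_of_isClosedMap [LocallyOfFiniteType (Y ↘ An.SC)] (f : X ⟶ Y) [QuasiCompact f]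
    (H : ∀ (T : Scheme.{0}) [T.Over An.SC] [LocallyOfFiniteType (T ↘ An.SC)] (g : T ⟶ Y) [g.IsOver An.SC],
      IsClosedMap (pullback.fst g f)) : ValuativeCriterion.Existence f := by
  classical
  rintro ⟨R, K, i₁, i₂, ⟨hsq⟩⟩
  obtain ⟨V, hV, hcV, -⟩ := exists_isAffineOpen_mem_and_subset (U := (⊤ : Y.Opens))
    (x := i₂ (IsLocalRing.closedPoint R)) trivial
  have hi₂ : ⊤ ≤ i₂ ⁻¹ᵁ V := (Scheme.preimage_eq_top_of_closedPoint_mem i₂ hcV).ge
  let η : Spec (CommRingCat.of K) := (⊥ : PrimeSpectrum K)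
  have hη : ∀ p : Spec (CommRingCat.of K), p = η := fun p => Subsingleton.elim (α := PrimeSpectrum K) _ _
  set alg := CommRingCat.ofHom (algebraMap R K)
  have hξV : f (i₁ η) ∈ V := by
    rw [← Scheme.Hom.comp_apply, hsq, Scheme.Hom.comp_apply]
    exact hi₂ trivial
  have hcp : IsCompact ((f ⁻¹ᵁ V : X.Opens) : Set X) := QuasiCompact.isCompact_preimage _ V.2 hV.isCompact
  have hc : ∀ p : X, ∃ U : X.Opens, p ∈ f ⁻¹ᵁ V → IsAffineOpen U ∧ U ≤ f ⁻¹ᵁ V ∧ p ∈ U := fun p => by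
    by_cases hp : p ∈ f ⁻¹ᵁ V
    · obtain ⟨U, hU, hpU, hUV⟩ := exists_isAffineOpen_mem_and_subset (U := f ⁻¹ᵁ V) (x := p) hp
      exact ⟨U, fun _ => ⟨hU, hUV, hpU⟩⟩
    · exact ⟨⊤, fun h => absurd h hp⟩
  choose Uc hUc using hc
  obtain ⟨t, htV, ht⟩ := hcp.elim_nhds_subcover (fun p => (Uc p : Set X))
    (fun p hp => (Uc p).2.mem_nhds (hUc p hp).2.2)
  let s := t.filter fun p => i₁ η ∈ Uc p
  have hs1 : ∀ p ∈ s, IsAffineOpen (Uc p) ∧ Uc p ≤ f ⁻¹ᵁ V ∧ ⊤ ≤ i₁ ⁻¹ᵁ Uc p := fun p hp => by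
    obtain ⟨hpt, hpη⟩ := Finset.mem_filter.1 hp
    exact ⟨(hUc p (htV p hpt)).1, (hUc p (htV p hpt)).2.1, fun q _ => by rw [hη q]; exact hpη⟩
  by_cases hgood : ∃ p, ∃ hp : p ∈ s, ∀ c, secHom i₁ (Uc p) (hs1 p hp).2.2 c ∈ Set.range (algebraMap R K)
  · obtain ⟨p, hp, hpc⟩ := hgood
    obtain ⟨hU, hUV, hi₁⟩ := hs1 p hp
    set φ := secHom i₁ (Uc p) hi₁
    have hinj : Function.Injective (algebraMap R K) := IsFractionRing.injective R K
    let e := RingEquiv.ofBijective (algebraMap R K).rangeRestrict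
      ⟨fun a b h => hinj (congrArg Subtype.val h), (algebraMap R K).rangeRestrict_surjective⟩
    let ψ : Γ(X, Uc p) ⟶ CommRingCat.of R :=
      CommRingCat.ofHom (e.symm.toRingHom.comp (φ.hom.codRestrict (algebraMap R K).range hpc))
    have hψ : ψ ≫ alg = φ := by
      ext c
      exact congrArg Subtype.val (e.apply_symm_apply ⟨φ c, hpc c⟩)
    refine ⟨⟨⟨Spec.map ψ ≫ hU.fromSpec, ?_, ?_⟩⟩⟩
    · change Spec.map alg ≫ _ = i₁
      rw [← Category.assoc, ← Spec.map_comp, hψ, specMap_secHom_fromSpec]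
    · have : Mono alg := ConcreteCategory.mono_of_injective _ hinj
      change (Spec.map ψ ≫ hU.fromSpec) ≫ f = i₂
      rw [Category.assoc, ← IsAffineOpen.SpecMap_appLE_fromSpec f hV hU hUV, ← Category.assoc, ← Spec.map_comp,
        ← specMap_secHom_fromSpec i₂ hV hi₂]
      congr 2
      rw [← cancel_mono alg, Category.assoc, hψ]
      have hh : ⊤ ≤ (i₁ ≫ f) ⁻¹ᵁ V := fun q _ => by rw [hη q]; change (i₁ ≫ f) η ∈ V; rw [Scheme.Hom.comp_apply]; exact hξV
      have h1 := secHom_comp i₁ f hU hV hUV hi₁ hh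
      rw [← h1]
      apply eq_of_fromSpec_eq hV
      rw [specMap_secHom_fromSpec, Spec.map_comp, Category.assoc, specMap_secHom_fromSpec]
      exact hsq
  exfalso
  push Not at hgood
  choose c hc using fun p : {p // p ∈ s} => hgood p.1 p.2
  set v : {p // p ∈ s} → R := fun p =>
    if h : ∃ r : R, algebraMap R K r = (secHom i₁ (Uc p.1) (hs1 p.1 p.2).2.2 (c p))⁻¹ then h.choose else 0
  have hv : ∀ p, algebraMap R K (v p) = (secHom i₁ (Uc p.1) (hs1 p.1 p.2).2.2 (c p))⁻¹ ∧ ¬ IsUnit (v p) := by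
    intro p
    set z := secHom i₁ (Uc p.1) (hs1 p.1 p.2).2.2 (c p)
    have hz : ∃ r : R, algebraMap R K r = z⁻¹ := by
      rcases ValuationRing.isInteger_or_isInteger R (z : K) with h | h
      · obtain ⟨r, hr⟩ := h
        exact absurd ⟨r, hr⟩ (hc p)
      · exact h
    have hvp : algebraMap R K (v p) = z⁻¹ := by simp only [v, z, dif_pos hz]; exact hz.choose_spec
    refine ⟨hvp, fun hu => hc p ⟨((hu.unit⁻¹ : Rˣ) : R), ?_⟩⟩
    rw [map_units_inv, IsUnit.unit_spec, hvp, inv_inv]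
  -- the test scheme
  let φA : Γ(Y, V) ⟶ CommRingCat.of R := secHom i₂ V hi₂
  let B := MvPolynomial {p // p ∈ s} Γ(Y, V)
  let incl : Γ(Y, V) ⟶ CommRingCat.of B := CommRingCat.ofHom MvPolynomial.C
  let φB : CommRingCat.of B ⟶ CommRingCat.of R := CommRingCat.ofHom (MvPolynomial.eval₂Hom φA.hom v)
  let g : Spec (CommRingCat.of B) ⟶ Y := Spec.map incl ≫ hV.fromSpec
  let : (Spec (CommRingCat.of B)).Over An.SC := ⟨g ≫ Y ↘ An.SC⟩
  have : g.IsOver An.SC := ⟨rfl⟩
  have : LocallyOfFiniteType g := by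
    have : LocallyOfFiniteType (Spec.map incl) := by
      rw [HasRingHomProperty.Spec_iff (P := @LocallyOfFiniteType)]
      change (MvPolynomial.C : Γ(Y, V) →+* B).FiniteType
      rw [← MvPolynomial.algebraMap_eq, RingHom.finiteType_algebraMap]
      infer_instance
    infer_instance
  have : LocallyOfFiniteType (Spec (CommRingCat.of B) ↘ An.SC) := lft_of_hom g
  have hφB : incl ≫ φB = φA := by ext a; exact MvPolynomial.eval₂Hom_C _ _ a
  have hcomm : Spec.map (φB ≫ alg) ≫ g = i₁ ≫ f := by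
    rw [hsq, ← specMap_secHom_fromSpec i₂ hV hi₂]
    change Spec.map (φB ≫ alg) ≫ Spec.map incl ≫ hV.fromSpec = _
    rw [← Category.assoc, ← Spec.map_comp, ← Category.assoc incl, hφB, Spec.map_comp, Category.assoc]
  let ηP : Spec (CommRingCat.of K) ⟶ pullback g f := pullback.lift (Spec.map (φB ≫ alg)) i₁ hcomm
  -- a point over the closed point
  let tpt : Spec (CommRingCat.of B) := Spec.map φB (IsLocalRing.closedPoint R)
  have hspec : pullback.fst g f (ηP η) ⤳ tpt := by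
    rw [← Scheme.Hom.comp_apply, pullback.lift_fst, Spec.map_comp, Scheme.Hom.comp_apply]
    exact (IsLocalRing.specializes_closedPoint _).map (Spec.map φB).continuous
  obtain ⟨w, hw, hwt⟩ : tpt ∈ pullback.fst g f '' closure {ηP η} :=
    (H _ g _ isClosed_closure).stableUnderSpecialization hspec ⟨ηP η, subset_closure rfl, rfl⟩
  have hwV : f (pullback.snd g f w) ∈ V := by
    rw [← Scheme.Hom.comp_apply, ← pullback.condition, Scheme.Hom.comp_apply, hwt]
    change (Spec.map incl ≫ hV.fromSpec) tpt ∈ (V : Set Y)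
    rw [← hV.range_fromSpec, Scheme.Hom.comp_apply]
    exact ⟨_, rfl⟩
  obtain ⟨p, hpt, hwp⟩ := Set.mem_iUnion₂.1 (ht hwV)
  have hηw : ηP η ⤳ w := specializes_iff_mem_closure.2 hw
  have hps : p ∈ s := by
    refine Finset.mem_filter.2 ⟨hpt, ?_⟩
    have := (hηw.map (pullback.snd g f).continuous).mem_open (Uc p).2 hwp
    rwa [← Scheme.Hom.comp_apply, pullback.lift_snd] at this
  set Pp : (pullback g f).Opens := pullback.snd g f ⁻¹ᵁ Uc p
  have hηPp : ⊤ ≤ ηP ⁻¹ᵁ Pp := fun q _ => by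
    rw [hη q]
    exact hηw.mem_open Pp.2 hwp
  let a : Γ(pullback g f, Pp) := (pullback.snd g f).appLE (Uc p) Pp le_rfl (c ⟨p, hps⟩)
  let b : Γ(pullback g f, Pp) := (pullback.fst g f).appLE ⊤ Pp le_top
    ((Scheme.ΓSpecIso (CommRingCat.of B)).inv (MvPolynomial.X ⟨p, hps⟩))
  have hηh : ∀ q, ηP q ∉ (pullback g f).basicOpen (a * b - 1) := by
    intro q
    rw [mem_basicOpen_iff_of_field ηP hηPp, not_not, map_sub, map_mul, map_one, sub_eq_zero]
    have ha : secHom ηP Pp hηPp a = secHom i₁ (Uc p) (hs1 p hps).2.2 (c ⟨p, hps⟩) := by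
      change (ηP.appLE Pp ⊤ hηPp ≫ _) ((pullback.snd g f).appLE (Uc p) Pp le_rfl _) = _
      have h1 : (pullback.snd g f).appLE (Uc p) Pp le_rfl ≫ ηP.appLE Pp ⊤ hηPp =
          (ηP ≫ pullback.snd g f).appLE (Uc p) ⊤ hηPp := Scheme.Hom.appLE_comp_appLE _ _ _ _ _ _ _
      have h2 : ∀ (k k' : Spec (CommRingCat.of K) ⟶ X) (_ : k = k') h h', k.appLE (Uc p) ⊤ h = k'.appLE (Uc p) ⊤ h' := by
        rintro k k' rfl h h'; rfl
      rw [h2 (ηP ≫ pullback.snd g f) _ (pullback.lift_snd _ _ _) hηPp (hs1 p hps).2.2] at h1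
      exact congrArg (Scheme.ΓSpecIso (CommRingCat.of K)).hom (congrArg (fun r => r.hom (c ⟨p, hps⟩)) h1)
    have hb : secHom ηP Pp hηPp b = algebraMap R K (v ⟨p, hps⟩) := by
      change (ηP.appLE Pp ⊤ hηPp ≫ _) ((pullback.fst g f).appLE ⊤ Pp le_top _) = _
      have h1 : (pullback.fst g f).appLE ⊤ Pp le_top ≫ ηP.appLE Pp ⊤ hηPp =
          (ηP ≫ pullback.fst g f).appLE ⊤ ⊤ (fun _ _ => trivial) := Scheme.Hom.appLE_comp_appLE _ _ _ _ _ _ _
      have h2 : ∀ (k k' : Spec (CommRingCat.of K) ⟶ Spec (CommRingCat.of B)) (_ : k = k') h h',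
          k.appLE ⊤ ⊤ h = k'.appLE ⊤ ⊤ h' := by rintro k k' rfl h h'; rfl
      rw [h2 (ηP ≫ pullback.fst g f) _ (pullback.lift_fst _ _ _) (fun _ _ => trivial) (fun _ _ => trivial)] at h1
      refine (congrArg (Scheme.ΓSpecIso (CommRingCat.of K)).hom (congrArg
        (fun r => r.hom ((Scheme.ΓSpecIso (CommRingCat.of B)).inv (MvPolynomial.X ⟨p, hps⟩ : B))) h1)).trans ?_
      have h3 : (Spec.map (φB ≫ alg)).appLE ⊤ ⊤ (fun _ _ => trivial) = (Spec.map (φB ≫ alg)).appTop :=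
        Scheme.Hom.appLE_eq_app _
      rw [h3]
      have h4 := congrArg (fun r => r.hom ((Scheme.ΓSpecIso (CommRingCat.of B)).inv (MvPolynomial.X ⟨p, hps⟩)))
        (Scheme.ΓSpecIso_naturality (φB ≫ alg))
      refine h4.trans ?_
      change algebraMap R K (φB ((Scheme.ΓSpecIso (CommRingCat.of B)).hom ((Scheme.ΓSpecIso (CommRingCat.of B)).inv _))) = _
      rw [show (Scheme.ΓSpecIso (CommRingCat.of B)).hom ((Scheme.ΓSpecIso (CommRingCat.of B)).inv
        (MvPolynomial.X ⟨p, hps⟩ : B)) = MvPolynomial.X ⟨p, hps⟩ from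
        congrArg (fun r => r.hom (MvPolynomial.X ⟨p, hps⟩ : B)) (Scheme.ΓSpecIso (CommRingCat.of B)).inv_hom_id]
      congr 1
      exact MvPolynomial.eval₂Hom_X' _ _ _
    rw [ha, hb, (hv ⟨p, hps⟩).1]
    refine mul_inv_cancel₀ fun h0 => hc ⟨p, hps⟩ ⟨0, by rw [map_zero]; exact h0.symm⟩
  have hwb : w ∉ (pullback g f).basicOpen b := by
    intro hb
    have hle : (pullback g f).basicOpen b ≤
        pullback.fst g f ⁻¹ᵁ (Spec (CommRingCat.of B)).basicOpen
          ((Scheme.ΓSpecIso (CommRingCat.of B)).inv (MvPolynomial.X ⟨p, hps⟩)) := by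
      rw [Scheme.preimage_basicOpen]
      exact (Scheme.basicOpen_res _ _ _).le.trans inf_le_right
    have h1 : pullback.fst g f w ∈ (Spec (CommRingCat.of B)).basicOpen
        ((Scheme.ΓSpecIso (CommRingCat.of B)).inv (MvPolynomial.X ⟨p, hps⟩ : B)) := hle hb
    rw [hwt, basicOpen_eq_of_affine] at h1
    apply h1
    change φB (MvPolynomial.X ⟨p, hps⟩) ∈ IsLocalRing.maximalIdeal R
    rw [IsLocalRing.mem_maximalIdeal]
    change ¬ IsUnit (MvPolynomial.eval₂Hom φA.hom v (MvPolynomial.X ⟨p, hps⟩))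
    rw [MvPolynomial.eval₂Hom_X']
    exact (hv _).2
  have hwh : w ∈ (pullback g f).basicOpen (a * b - 1) := by
    rw [Scheme.mem_basicOpen _ _ w hwp, map_sub, map_mul, map_one]
    rw [Scheme.mem_basicOpen _ _ w hwp] at hwb
    rw [← neg_sub, IsUnit.neg_iff]
    exact IsLocalRing.isUnit_one_sub_self_of_mem_nonunits _ (fun hu => hwb (isUnit_of_mul_isUnit_right hu))
  exact hηh η (hηw.mem_open ((pullback g f).basicOpen (a * b - 1)).2 hwh)

theorem isProper_iff_pts [LocallyOfFiniteType (X ↘ An.SC)] [LocallyOfFiniteType (Y ↘ An.SC)]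
    (f : X ⟶ Y) [f.IsOver An.SC] [QuasiCompact f] :
    IsProper f ↔ IsProperMap (An.Pts.map f) ∧ IsSeparatedMap (An.Pts.map f) := by
  constructor
  · intro h
    exact ⟨isProperMap_of_isProper f, (Groth.Agent.AnPtsTop.isSeparated_iff f).1 inferInstance⟩
  · rintro ⟨h1, h2⟩
    have := (Groth.Agent.AnPtsTop.isSeparated_iff f).2 h2
    have := lft_hom f
    have : UniversallyClosed f := UniversallyClosed.of_valuativeCriterion f
      (existence_of_isClosedMap f fun T _ _ g _ => isClosedMap_pullback_fst f h1 g)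
    exact ⟨⟩

lemma finite_fibre [LocallyOfFiniteType (X ↘ An.SC)] (f : X ⟶ Y) [f.IsOver An.SC]
    [LocallyQuasiFinite f] [QuasiCompact f] (y : An.Pts Y) : (An.Pts.map f ⁻¹' {y}).Finite :=
  ((f.finite_preimage_singleton y.pt).preimage pt_injective.injOn).subset fun x hx => by
    change f x.pt ∈ ({y.pt} : Set Y)
    rw [← An.Pts.pt_map, hx]
    rfl

lemma locallyQuasiFinite_of_finite_fibres [LocallyOfFiniteType (X ↘ An.SC)] [LocallyOfFiniteType (Y ↘ An.SC)]
    (f : X ⟶ Y) [f.IsOver An.SC] (hfin : ∀ y : An.Pts Y, (An.Pts.map f ⁻¹' {y}).Finite) :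
    LocallyQuasiFinite f := by
  have := lft_hom f
  rw [← f.quasiFiniteLocus_eq_top_iff, ← TopologicalSpace.Opens.coe_eq_univ]
  by_contra hne
  obtain ⟨x, hx⟩ := exists_pt_mem (Z := (f.quasiFiniteLocus : Set X)ᶜ) (Set.nonempty_compl.2 hne)
    f.quasiFiniteLocus.2.isClosed_compl.isLocallyClosed
  apply hx
  rw [SetLike.mem_coe, Scheme.Hom.mem_quasiFiniteLocus, Scheme.Hom.quasiFiniteAt_iff_isOpen_singleton_asFiber]
  have hcl : IsClosed (f ⁻¹' {f x.pt}) := by
    rw [← An.Pts.pt_map f x]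
    exact (isClosed_pt _).preimage f.continuous
  have := jacobsonSpace (X := X)
  have : JacobsonSpace (f ⁻¹' {f x.pt}) := JacobsonSpace.of_isClosedEmbedding hcl.isClosedEmbedding_subtypeVal
  have hd : DiscreteTopology (f ⁻¹' {f x.pt}) := by
    apply discreteTopology_of_finite_closedPoints
    have hf' := (hfin (An.Pts.map f x)).image An.Pts.pt
    refine (hf'.preimage Subtype.val_injective.injOn).subset fun q hq => ?_
    have hq' : IsClosed ({q.1} : Set X) := by
      rw [← Set.image_singleton]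
      exact hcl.isClosedEmbedding_subtypeVal.isClosedMap _ hq
    obtain ⟨z, hz⟩ := exists_pt_eq hq'
    refine ⟨z, pt_injective ?_, hz⟩
    rw [An.Pts.pt_map, An.Pts.pt_map, hz]
    exact q.2
  have : DiscreteTopology (f.fiber (f x.pt)) := (f.fiberHomeo (f x.pt)).isEmbedding.discreteTopology
  exact isOpen_discrete _
where
  discreteTopology_of_finite_closedPoints {Z : Type} [TopologicalSpace Z] [JacobsonSpace Z]
      (h : (closedPoints Z).Finite) : DiscreteTopology Z := JacobsonSpace.discreteTopology h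

theorem isFinite_iff_pts [LocallyOfFiniteType (X ↘ An.SC)] [LocallyOfFiniteType (Y ↘ An.SC)]
    (f : X ⟶ Y) [f.IsOver An.SC] [QuasiCompact f] :
    IsFinite f ↔ IsProperMap (An.Pts.map f) ∧ IsSeparatedMap (An.Pts.map f) ∧
      ∀ y : An.Pts Y, (An.Pts.map f ⁻¹' {y}).Finite := by
  rw [IsFinite.iff_isProper_and_locallyQuasiFinite, isProper_iff_pts, and_assoc]
  refine and_congr_right fun _ => and_congr_right fun _ => ⟨fun _ y => finite_fibre f y, fun h => ?_⟩
  exact locallyQuasiFinite_of_finite_fibres f h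

theorem isProper_iff_compact [LocallyOfFiniteType (X ↘ An.SC)] [QuasiCompact (X ↘ An.SC)] :
    IsProper (X ↘ An.SC) ↔ CompactSpace (An.Pts X) ∧ T2Space (An.Pts X) := by
  have : Scheme.Hom.IsOver (X ↘ An.SC) An.SC := ⟨Category.comp_id _⟩
  have hb : An.Pts An.SC := ⟨𝟙 _, Category.comp_id _⟩
  have : LocallyOfFiniteType (An.SC ↘ An.SC) := inferInstanceAs (LocallyOfFiniteType (𝟙 An.SC))
  rw [isProper_iff_pts, ← Groth.Agent.AnPtsTop.t2Space_iff, ← Groth.Agent.AnPtsTop.isSeparated_iff]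
  refine and_congr_left fun _ => ⟨fun h => ⟨?_⟩, fun h => isProperMap_iff_ultrafilter.2
    ⟨An.Pts.continuous_map _, fun 𝒰 y _ => ?_⟩⟩
  · have := h.isCompact_preimage (isCompact_singleton (x := hb))
    rwa [show An.Pts.map (X ↘ An.SC) ⁻¹' {hb} = Set.univ from
      Set.eq_univ_of_forall fun x => Subsingleton.elim _ _] at this
  · obtain ⟨x, -, hx⟩ := h.isCompact_univ.ultrafilter_le_nhds 𝒰 (by simp)
    exact ⟨x, Subsingleton.elim _ _, hx⟩

theorem isCoveringMap_of_finite_etale [LocallyOfFiniteType (X ↘ An.SC)] [LocallyOfFiniteType (Y ↘ An.SC)]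
    (f : X ⟶ Y) [f.IsOver An.SC] [IsFinite f] [Etale f] :
    IsCoveringMap (An.Pts.map f) ∧ ∀ y : An.Pts Y, (An.Pts.map f ⁻¹' {y}).Finite := by
  obtain ⟨hp, -, hfib⟩ := (isFinite_iff_pts f).1 inferInstance
  refine ⟨fun y => ?_, hfib⟩
  obtain ⟨V, hV, hyV, -⟩ := exists_isAffineOpen_mem_and_subset (U := (⊤ : Y.Opens)) (x := y.pt) trivial
  set W : Set (An.Pts Y) := An.Pts.pt ⁻¹' (V : Set Y) with hW
  have hWo : IsOpen W := An.Pts.isOpen_preimage_pt V
  have hWo' := hWo.preimage (An.Pts.continuous_map f)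
  have hUeq : An.Pts.map f ⁻¹' W = An.Pts.pt ⁻¹' ((f ⁻¹ᵁ V : X.Opens) : Set X) := by
    ext x; rw [hW, Set.mem_preimage, Set.mem_preimage, An.Pts.pt_map]; rfl
  have : T2Space (An.Pts.map f ⁻¹' W) := by
    have : IsAffine (f ⁻¹ᵁ V).toScheme := hV.preimage f
    obtain ⟨n, s, hs⟩ := exists_generators (X := (f ⁻¹ᵁ V).toScheme)
    have := (isClosedEmbedding_of_generators s hs).isEmbedding.t2Space
    have he := (isOpenEmbedding_map (f ⁻¹ᵁ V).ι).isEmbedding.toHomeomorph
    have hr : Set.range (An.Pts.map (f ⁻¹ᵁ V).ι) = An.Pts.map f ⁻¹' W := by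
      rw [range_map_of_isOpenImmersion, Scheme.Opens.range_ι, hUeq]
    exact (he.trans (Homeomorph.setCongr hr)).symm.isEmbedding.t2Space
  have hcov : IsCoveringMap (W.restrictPreimage (An.Pts.map f)) := by
    rw [isCoveringMap_iff_isCoveringMapOn_univ]
    refine (hp.isClosedMap.restrictPreimage W).isCoveringMapOn_of_isLocalHomeomorphOn (fun z _ => ?_) ?_
    · refine ((hfib z.1).preimage Subtype.val_injective.injOn).subset fun x hx => ?_
      exact congrArg Subtype.val hx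
    · rw [Set.preimage_univ, ← isLocalHomeomorph_iff_isLocalHomeomorphOn_univ]
      have hl := isLocalHomeomorph_map_of_etale f
      refine IsLocalHomeomorph.of_comp (g := Subtype.val) ?_ hWo.isOpenEmbedding_subtypeVal.isLocalHomeomorph
        (((An.Pts.continuous_map f).comp continuous_subtype_val).subtype_mk _)
      exact hl.comp hWo'.isOpenEmbedding_subtypeVal.isLocalHomeomorph
  exact (IsCoveringMapOn.of_isCoveringMap_restrictPreimage W hWo hWo' hcov) y hyV |>.to_isEvenlyCovered_preimage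

end Groth.Agent.AnPtsTop
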